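import Mathlib.RingTheory.Length
import Mathlib.RingTheory.Ideal.Operations
import Mathlib.LinearAlgebra.Dimension.Constructions

/-!
# Length over `R = k + m` equals `k`-dimension when `m` acts nilpotently
-/

set_option autoImplicit false
universe u v w

namespace K840.LenK

variable {k : Type u} {R : Type v} [Field k] [CommRing R] [Algebra k R] (m : Ideal R)
  (hm : ∀ r : R, ∃ c : k, r - algebraMap k R c ∈ m)

include hm in
theorem length_eq_of_trivial (Q : Type w) [AddCommGroup Q] [Module R Q] [Module k Q]
    [IsScalarTower k R Q] (h0 : ∀ r ∈ m, ∀ q : Q, r • q = 0) :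
    Module.length R Q = Module.length k Q := by
  have key : ∀ (r : R) (q : Q), ∃ c : k, r • q = c • q := by
    intro r q
    obtain ⟨c, hc⟩ := hm r
    refine ⟨c, ?_⟩
    have h1 := h0 _ hc q
    rw [sub_smul, sub_eq_zero, algebraMap_smul] at h1
    exact h1
  let e : Submodule R Q ≃o Submodule k Q :=
    { toFun := fun P => P.restrictScalars k
      invFun := fun P =>
        { P with
          smul_mem' := fun r q hq => by
            obtain ⟨c, hc⟩ := key r q
            rw [hc]
            exact P.smul_mem c hq }
      left_inv := fun P => rfl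
      right_inv := fun P => rfl
      map_rel_iff' := Iff.rfl }
  apply WithBot.coe_injective
  rw [Module.coe_length, Module.coe_length, Order.krullDim_eq_of_orderIso e]

include hm in
theorem length_eq (n : ℕ) : ∀ (Q : Type w) [AddCommGroup Q] [Module R Q] [Module k Q]
    [IsScalarTower k R Q] (_ : ∀ r ∈ m ^ n, ∀ q : Q, r • q = 0),
    Module.length R Q = Module.length k Q := by
  induction n with
  | zero =>
    intro Q _ _ _ _ h
    have : Subsingleton Q := by
      refine ⟨fun x y => ?_⟩
      have h1 : ∀ z : Q, z = 0 := fun z => by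
        have := h 1 (by simp) z
        rwa [one_smul] at this
      rw [h1 x, h1 y]
    rw [Module.length_eq_zero, Module.length_eq_zero]
  | succ n ih =>
    intro Q _ _ _ _ h
    let Q' : Submodule R Q := m • ⊤
    have hex : Function.Exact Q'.subtype Q'.mkQ := by
      rw [LinearMap.exact_iff, Submodule.ker_mkQ, Submodule.range_subtype]
    have hi : Function.Injective Q'.subtype := Q'.subtype_injective
    have hp : Function.Surjective Q'.mkQ := Q'.mkQ_surjective
    have hex' : Function.Exact (Q'.subtype.restrictScalars k) (Q'.mkQ.restrictScalars k) := hex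
    have hi' : Function.Injective (Q'.subtype.restrictScalars k) := hi
    have hp' : Function.Surjective (Q'.mkQ.restrictScalars k) := hp
    have h1 := Module.length_eq_add_of_exact Q'.subtype Q'.mkQ hi hp hex
    have h2 := Module.length_eq_add_of_exact (Q'.subtype.restrictScalars k)
      (Q'.mkQ.restrictScalars k) hi' hp' hex'
    have h3 : Module.length R Q' = Module.length k Q' := by
      apply ih
      rintro r hr ⟨q, hq⟩
      apply Subtype.ext
      change r • q = 0
      induction hq using Submodule.smul_induction_on' with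
      | smul a ha x _ =>
        rw [smul_smul]
        exact h _ (by rw [pow_succ]; exact Ideal.mul_mem_mul hr ha) x
      | add x _ y _ hx hy => rw [smul_add, hx, hy, add_zero]
    have h4 : Module.length R (Q ⧸ Q') = Module.length k (Q ⧸ Q') := by
      apply length_eq_of_trivial m hm
      intro r hr q
      obtain ⟨q, rfl⟩ := Submodule.mkQ_surjective _ q
      rw [← map_smul, Submodule.mkQ_apply, Submodule.Quotient.mk_eq_zero]
      exact Submodule.smul_mem_smul hr trivial
    exact h1.trans ((congrArg₂ (· + ·) h3 h4).trans h2.symm)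

include hm in
/-- The length of a subquotient `H / J` presented by linear functionals. -/
theorem length_quotient {V : Type w} [AddCommGroup V] [Module R V] [Module k V]
    [IsScalarTower k R V] (H J : Submodule R V) (n : ℕ) (hn : ∀ r ∈ m ^ n, ∀ q ∈ H, r • q ∈ J)
    {S : Type*} [Fintype S] (ψ : H →ₗ[k] (S → k)) (hker : ∀ x : H, ψ x = 0 ↔ (x : V) ∈ J)
    (hsurj : Function.Surjective ψ) : Module.length R (H ⧸ J.submoduleOf H) = Fintype.card S := by
  rw [length_eq m hm n]
  · have h1 : LinearMap.ker ψ = (J.submoduleOf H).restrictScalars k := by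
      ext x
      rw [LinearMap.mem_ker, hker]
      rfl
    have e : (H ⧸ (J.submoduleOf H).restrictScalars k) ≃ₗ[k] (S → k) :=
      (Submodule.quotEquivOfEq _ _ h1.symm).trans (ψ.quotKerEquivOfSurjective hsurj)
    have e2 : (H ⧸ J.submoduleOf H) ≃ₗ[k] (H ⧸ (J.submoduleOf H).restrictScalars k) :=
      { AddEquiv.refl _ with
        map_smul' := fun c x => rfl }
    rw [(e2.trans e).length_eq, Module.length_eq_finrank, Module.finrank_fintype_fun_eq_card]
  · intro r hr q
    obtain ⟨q, rfl⟩ := Submodule.mkQ_surjective _ q
    rw [← map_smul, Submodule.mkQ_apply, Submodule.Quotient.mk_eq_zero]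
    exact hn r hr q q.2

include hm in
/-- The length of a subquotient `H / J` presented by linear functionals on the ambient module. -/
theorem length_quotient' {V : Type w} [AddCommGroup V] [Module R V] [Module k V]
    [IsScalarTower k R V] (H J : Submodule R V) (n : ℕ) (hn : ∀ r ∈ m ^ n, ∀ q ∈ H, r • q ∈ J)
    {S : Type*} [Fintype S] (ψ : V →ₗ[k] (S → k)) (hker : ∀ x ∈ H, ψ x = 0 ↔ x ∈ J)
    (hsurj : ∀ c : S → k, ∃ x ∈ H, ψ x = c) :
    Module.length R (H ⧸ J.submoduleOf H) = Fintype.card S := by
  refine length_quotient m hm H J n hn (ψ.comp (H.subtype.restrictScalars k))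
    (fun x => hker x x.2) (fun c => ?_)
  obtain ⟨x, hx, hxc⟩ := hsurj c
  exact ⟨⟨x, hx⟩, hxc⟩

end K840.LenK
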