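import Groth.Agent.TFCurv.K840.ExtOne
import Groth.Agent.TFCurv.K840.LenK

/-!
# `Ext¹` out of a rank one module with two generators
-/

set_option autoImplicit false
universe u

open CategoryTheory CategoryTheory.Abelian

namespace K840.TwoGen

variable {A V : Type u} [CommRing A] [CommRing V] [Algebra A V]

/-- The presentation map. -/
noncomputable def pres (g f : V) : (A × A) →ₗ[A] ↥(Submodule.span A ({g, f} : Set V)) :=
  LinearMap.codRestrict _ ((LinearMap.toSpanSingleton A V g).coprod (LinearMap.toSpanSingleton A V f))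
    (fun x => by
      rw [LinearMap.coprod_apply, LinearMap.toSpanSingleton_apply, LinearMap.toSpanSingleton_apply]
      exact Submodule.mem_span_pair.2 ⟨x.1, x.2, rfl⟩)

theorem pres_apply (g f : V) (x : A × A) : (pres g f x : V) = x.1 • g + x.2 • f := rfl

theorem pres_surjective (g f : V) : Function.Surjective (pres (A := A) g f) := by
  rintro ⟨v, hv⟩
  obtain ⟨a, b, rfl⟩ := Submodule.mem_span_pair.1 hv
  exact ⟨(a, b), rfl⟩

theorem mem_ker_pres (g f : V) (x : A × A) :
    x ∈ LinearMap.ker (pres g f) ↔ x.1 • g + x.2 • f = 0 := by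
  rw [LinearMap.mem_ker, ← pres_apply]
  exact ⟨fun h => congrArg Subtype.val h, fun h => Subtype.ext h⟩

variable (hA : Function.Injective (algebraMap A V)) {g f : V} (hg : ∀ v : V, v * g = 0 → v = 0)
  {z xz : A} (hz : ∀ v : V, z • v = 0 → v = 0) (hxz : xz • g + z • f = 0) (N : Submodule A V)
  (H J : Submodule A V)
  (hH : ∀ p : V, p ∈ H ↔ (p ∈ N ∧ ∀ x y : A, x • g + y • f = 0 → ∃ q ∈ N, z • q = y • p))
  (hJ : ∀ p : V, p ∈ J ↔ ∃ m0 ∈ N, ∃ m1 ∈ N, p = xz • m0 + z • m1)

include hA hg hxz in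
theorem smul_eq (k : LinearMap.ker (pres (A := A) g f)) :
    z • k = (k : A × A).2 • (⟨(xz, z), (mem_ker_pres g f _).2 hxz⟩ : LinearMap.ker (pres (A := A) g f)) := by
  obtain ⟨⟨x, y⟩, hk⟩ := k
  rw [mem_ker_pres] at hk
  apply Subtype.ext
  change (z * x, z * y) = (y * xz, y * z)
  rw [mul_comm z y]
  congr 1
  apply hA
  rw [← sub_eq_zero, ← map_sub]
  apply hg
  rw [← Algebra.smul_def, sub_smul, mul_smul, mul_smul]
  dsimp at hk
  have h1 : x • g = - (y • f) := eq_neg_of_add_eq_zero_left hk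
  have h2 : xz • g = - (z • f) := eq_neg_of_add_eq_zero_left hxz
  rw [h1, h2, smul_neg, smul_neg, smul_comm z y f]
  ring

include hA hg hxz in
theorem smul_apply_eq (φ : LinearMap.ker (pres (A := A) g f) →ₗ[A] N)
    (k : LinearMap.ker (pres (A := A) g f)) :
    z • ((φ k : N) : V) = (k : A × A).2 • ((φ ⟨(xz, z), (mem_ker_pres g f _).2 hxz⟩ : N) : V) := by
  rw [← Submodule.coe_smul, ← map_smul, smul_eq hA hg hxz k, map_smul, Submodule.coe_smul]

include hA hg hz hxz hH hJ in
/-- `Ext¹(A g + A f, N) = H / J`. -/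
theorem ext_equiv : Nonempty (Ext.{u} (ModuleCat.of A ↥(Submodule.span A ({g, f} : Set V)))
    (ModuleCat.of A N) 1 ≃ₗ[A] (H ⧸ J.submoduleOf H)) := by
  have hex : Function.Exact (LinearMap.ker (pres (A := A) g f)).subtype (pres (A := A) g f) := by
    rw [LinearMap.exact_iff]
    exact (Submodule.range_subtype _).symm
  have e1 := ExtOne.extOneEquiv (K := ↥(LinearMap.ker (pres (A := A) g f))) (N := N) _ _
    (Submodule.subtype_injective _) (pres_surjective g f) hex
    (ExtOne.subsingleton_ext_of_projective 0)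
  let kz : LinearMap.ker (pres (A := A) g f) := ⟨(xz, z), (mem_ker_pres g f _).2 hxz⟩
  let Φ : (LinearMap.ker (pres (A := A) g f) →ₗ[A] N) →ₗ[A] H :=
    LinearMap.codRestrict H (N.subtype.comp (LinearMap.applyₗ kz)) (by
      intro φ
      rw [hH]
      refine ⟨(φ kz).2, fun x y hxy => ⟨φ ⟨(x, y), (mem_ker_pres g f _).2 hxy⟩,
        (φ ⟨(x, y), (mem_ker_pres g f _).2 hxy⟩).2, ?_⟩⟩
      exact smul_apply_eq hA hg hxz N φ ⟨(x, y), (mem_ker_pres g f _).2 hxy⟩)
  have hΦ : Function.Bijective Φ := by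
    constructor
    · rw [injective_iff_map_eq_zero]
      intro φ hφ
      have h1 : ((φ kz : N) : V) = 0 := congrArg Subtype.val hφ
      ext k
      apply hz
      rw [smul_apply_eq hA hg hxz N φ k]
      change _ • ((φ kz : N) : V) = 0
      rw [h1, smul_zero]
    · rintro ⟨p, hp⟩
      obtain ⟨hpN, hp'⟩ := (hH p).1 hp
      have hex : ∀ k : LinearMap.ker (pres (A := A) g f), ∃ q : N, z • (q : V) = (k : A × A).2 • p :=
        fun k => by
          obtain ⟨q, hq, hq'⟩ := hp' (k : A × A).1 (k : A × A).2 ((mem_ker_pres g f _).1 k.2)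
          exact ⟨⟨q, hq⟩, hq'⟩
      choose q hq using hex
      have hcancel : ∀ v w : V, z • v = z • w → v = w := fun v w h => by
        rw [← sub_eq_zero]
        apply hz
        rw [smul_sub, h, sub_self]
      refine ⟨{ toFun := q, map_add' := ?_, map_smul' := ?_ }, ?_⟩
      · intro k l
        apply Subtype.ext
        apply hcancel
        rw [Submodule.coe_add, smul_add, hq, hq, hq, ← add_smul]
        rfl
      · intro c k
        apply Subtype.ext
        apply hcancel
        rw [RingHom.id_apply, Submodule.coe_smul, smul_comm z c, hq, hq, smul_smul]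
        rfl
      · apply Subtype.ext
        apply hcancel
        change z • ((q kz : N) : V) = z • p
        rw [hq]
  let e2 := LinearEquiv.ofBijective Φ hΦ
  refine ⟨e1.symm.trans (Submodule.Quotient.equiv _ _ e2 ?_)⟩
  ext p
  constructor
  · rintro ⟨_, ⟨ψ, rfl⟩, rfl⟩
    change ((ψ (xz, z) : N) : V) ∈ J
    rw [hJ]
    refine ⟨ψ (1, 0), (ψ (1, 0)).2, ψ (0, 1), (ψ (0, 1)).2, ?_⟩
    rw [← Submodule.coe_smul, ← Submodule.coe_smul, ← Submodule.coe_add, ← map_smul, ← map_smul,
      ← map_add]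
    congr 2
    simp
  · intro hp
    obtain ⟨m0, hm0, m1, hm1, h⟩ := (hJ p).1 hp
    refine ⟨_, ⟨(LinearMap.toSpanSingleton A N ⟨m0, hm0⟩).coprod
      (LinearMap.toSpanSingleton A N ⟨m1, hm1⟩), rfl⟩, ?_⟩
    apply Subtype.ext
    rw [h]
    rfl

include hA hg hz hxz hH hJ in
theorem length_ext {k : Type u} [Field k] [Algebra k A] [Algebra k V] [IsScalarTower k A V]
    (m : Ideal A) (hm : ∀ r : A, ∃ c : k, r - algebraMap k A c ∈ m) (n : ℕ)
    (hn : ∀ r ∈ m ^ n, ∀ q ∈ H, r • q ∈ J) {S : Type*} [Fintype S] (ψ : V →ₗ[k] (S → k))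
    (hker : ∀ x ∈ H, ψ x = 0 ↔ x ∈ J) (hsurj : ∀ c : S → k, ∃ x ∈ H, ψ x = c) :
    Module.length A (Ext.{u} (ModuleCat.of A ↥(Submodule.span A ({g, f} : Set V)))
      (ModuleCat.of A N) 1) = Fintype.card S := by
  obtain ⟨e⟩ := ext_equiv hA hg hz hxz N H J hH hJ
  rw [e.length_eq]
  exact LenK.length_quotient' m hm H J n hn ψ hker hsurj

end K840.TwoGen
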