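import Groth.Agent.TFCurv.K840.Cubical

/-!
# The cubical singularities: the modules generated by `1, X, …, X^i`
-/

set_option autoImplicit false
universe u

open CategoryTheory CategoryTheory.Abelian PowerSeries

namespace K840.Cubical1

open K840.Cubical

/-- The coordinates on the quotient. -/
noncomputable def psi (k : Type u) [Field k] (n i : ℕ) :
    (Fin i → k⟦X⟧) →ₗ[k] (Fin i × Fin (n - 2 - i) → k) :=
  LinearMap.pi (fun s => (coeff (R := k) (n + (i + 2 + s.2))).comp (LinearMap.proj s.1) -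
    (if h : (s.2 : ℕ) + 1 ≤ (s.1 : ℕ) then (coeff (R := k) (n + (i + 1))).comp
      (LinearMap.proj (⟨(s.1 : ℕ) - 1 - (s.2 : ℕ), by omega⟩ : Fin i)) else 0))

variable {k : Type u} [Field k]

theorem psi_apply_pos (n i : ℕ) (w : Fin i → k⟦X⟧) (l : Fin i) (e : Fin (n - 2 - i))
    (h : (e : ℕ) + 1 ≤ (l : ℕ)) : psi k n i w (l, e) = coeff (n + (i + 2 + e)) (w l) -
      coeff (n + (i + 1)) (w ⟨(l : ℕ) - 1 - (e : ℕ), by omega⟩) := by
  change coeff (n + (i + 2 + e)) (w l) - (if h : (e : ℕ) + 1 ≤ (l : ℕ) then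
    (coeff (R := k) (n + (i + 1))).comp
      (LinearMap.proj (⟨(l : ℕ) - 1 - (e : ℕ), by omega⟩ : Fin i)) else 0) w = _
  rw [dif_pos h]
  rfl

theorem psi_apply_neg (n i : ℕ) (w : Fin i → k⟦X⟧) (l : Fin i) (e : Fin (n - 2 - i))
    (h : ¬ (e : ℕ) + 1 ≤ (l : ℕ)) : psi k n i w (l, e) = coeff (n + (i + 2 + e)) (w l) := by
  change coeff (n + (i + 2 + e)) (w l) - (if h : (e : ℕ) + 1 ≤ (l : ℕ) then
    (coeff (R := k) (n + (i + 1))).comp
      (LinearMap.proj (⟨(l : ℕ) - 1 - (e : ℕ), by omega⟩ : Fin i)) else 0) w = _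
  rw [dif_neg h]
  exact sub_zero _

theorem coeff_X_pow_mul_add (n a : ℕ) (f : k⟦X⟧) :
    coeff (n + a) (X ^ n * f) = coeff a f := by
  rw [coeff_X_pow_mul_ge n f (by omega), Nat.add_sub_cancel_left]

variable (n : ℕ) (A : Subalgebra k k⟦X⟧)
  (hA : ∀ f : k⟦X⟧, f ∈ A ↔ ∀ m : ℕ, 0 < m → m < n → coeff m f = 0)
  (i : ℕ) (hi : i + 2 ≤ n)

include hA hi in
theorem main : Module.length A (Ext.{u}
    (ModuleCat.of A ↥(Submodule.span A ((fun a : ℕ => (X : k⟦X⟧) ^ a) '' Set.Iic i)))
    (ModuleCat.of A ↥(Submodule.span A ((fun a : ℕ => (X : k⟦X⟧) ^ a) '' Set.Iic i))) 1) =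
      ((i * (n - 2 - i) : ℕ) : ℕ∞) := by
  have hS : Set.Iic i = insert 0 (Set.range (fun l : Fin i => (l : ℕ) + 1)) := by
    ext d
    simp only [Set.mem_Iic, Set.mem_insert_iff, Set.mem_range]
    constructor
    · intro h
      rcases Nat.eq_zero_or_pos d with h0 | h0
      · exact Or.inl h0
      · exact Or.inr ⟨⟨d - 1, by omega⟩, by simp only; omega⟩
    · rintro (h | ⟨l, rfl⟩) <;> omega
  have hinj : Function.Injective (fun l : Fin i => (l : ℕ) + 1) := by
    intro l l' h
    apply Fin.ext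
    simpa using h
  have ha0 : ∀ l : Fin i, 0 < (l : ℕ) + 1 := fun l => by omega
  have han : ∀ l : Fin i, (l : ℕ) + 1 < n := fun l => by omega
  have hM := mem_span_iff A (fun l : Fin i => (l : ℕ) + 1) hS
  have hN : ∀ v, v ∈ Submodule.span A ((fun a : ℕ => (X : k⟦X⟧) ^ a) '' Set.Iic i) ↔
      ∀ d, i < d → d < n → coeff d v = 0 := by
    intro v
    rw [hM, exists_iff_coeff n A hA _ han hinj]
    constructor
    · intro h d h1 h2
      exact h d (by omega) h2 (fun l => by omega)
    · intro h d h1 h2 h3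
      by_cases h4 : i < d
      · exact h d h4 h2
      · exact absurd (show d - 1 + 1 = d by omega) (h3 ⟨d - 1, by omega⟩)
  have hcard : ((i * (n - 2 - i) : ℕ) : ℕ∞) = Fintype.card (Fin i × Fin (n - 2 - i)) := by
    rw [Fintype.card_prod, Fintype.card_fin, Fintype.card_fin]
  rw [hcard]
  refine length_ext n A hA (fun l : Fin i => (l : ℕ) + 1) ha0 han hinj hM
    (Submodule.span A ((fun a : ℕ => (X : k⟦X⟧) ^ a) '' Set.Iic i)) (fun w => ∀ l, X ^ n ∣ w l)
    _ ?_ (fun w => Iff.rfl) n ?_ (psi k n i) ?_ ?_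
  · intro w
    refine forall_congr' fun l => ?_
    constructor
    · rintro ⟨v, hv⟩ y
      rw [hN, hv]
      intro d _ h2
      rw [mul_left_comm]
      exact coeff_X_pow_mul_lt n _ h2
    · intro h
      rw [X_pow_dvd_iff]
      intro m hm
      have h1 := (hN _).1 (h (X ^ (n - 1 - m))) (n - 1) (by omega) (by omega)
      rw [coeff_X_pow_mul_ge _ _ (by omega)] at h1
      rwa [show n - 1 - (n - 1 - m) = m by omega] at h1
  · rintro x ⟨x', rfl⟩ w hw
    choose w' hw' using hw
    refine ⟨0, Submodule.zero_mem _, fun l => X ^ n * (x' * w' l), fun l => ?_, fun l => ?_⟩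
    · rw [hN]
      intro d _ h2
      exact coeff_X_pow_mul_lt n _ h2
    · beta_reduce
      rw [hw' l]
      ring
  · intro w hw
    choose v hv using hw
    obtain rfl : w = fun l => X ^ n * v l := funext hv
    constructor
    · intro h
      let m0 : k⟦X⟧ := PowerSeries.mk (fun j => if h : 1 ≤ j ∧ j ≤ i then
        -coeff (i + 1) (v ⟨i - j, by omega⟩) else 0)
      have hm0 : ∀ j (h : 1 ≤ j ∧ j ≤ i), coeff j m0 = -coeff (i + 1) (v ⟨i - j, by omega⟩) := by
        intro j h
        rw [coeff_mk, dif_pos h]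
      have hm0' : ∀ j, i < j → coeff j m0 = 0 := by
        intro j h
        rw [coeff_mk, dif_neg (by omega)]
      refine ⟨m0, ?_, fun l => v l + X ^ ((l : ℕ) + 1) * m0, fun l => ?_, fun l => ?_⟩
      · rw [hN]
        intro d h1 _
        exact hm0' d h1
      · rw [hN]
        intro d h1 h2
        have hl := l.2
        rw [map_add, coeff_X_pow_mul_ge _ _ (by omega)]
        by_cases h3 : d = i + 1
        · subst h3
          rw [hm0 _ (by omega)]
          have h4 : (⟨i - (i + 1 - ((l : ℕ) + 1)), by omega⟩ : Fin i) = l := by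
            apply Fin.ext
            change i - (i + 1 - ((l : ℕ) + 1)) = l
            omega
          rw [h4, add_neg_cancel]
        · have h4 := congrFun h (l, ⟨d - (i + 2), by omega⟩)
          by_cases h5 : d - (i + 2) + 1 ≤ (l : ℕ)
          · rw [psi_apply_pos n i _ _ _ h5, Pi.zero_apply, coeff_X_pow_mul_add,
              coeff_X_pow_mul_add, sub_eq_zero] at h4
            rw [hm0 _ (by omega)]
            have h6 : (⟨i - (d - ((l : ℕ) + 1)), by omega⟩ : Fin i) =
                ⟨(l : ℕ) - 1 - (d - (i + 2)), by omega⟩ := by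
              apply Fin.ext
              change i - (d - ((l : ℕ) + 1)) = (l : ℕ) - 1 - (d - (i + 2))
              omega
            rw [h6, ← h4]
            change coeff d (v l) + -coeff (i + 2 + (d - (i + 2))) (v l) = 0
            rw [show i + 2 + (d - (i + 2)) = d by omega, add_neg_cancel]
          · rw [psi_apply_neg n i _ _ _ h5, Pi.zero_apply, coeff_X_pow_mul_add] at h4
            rw [hm0' _ (by omega), add_zero, ← h4]
            change coeff d (v l) = coeff (i + 2 + (d - (i + 2))) (v l)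
            rw [show i + 2 + (d - (i + 2)) = d by omega]
      · ring
    · rintro ⟨m0, hm0, m, hm, h⟩
      simp only [hN] at hm0 hm
      have h' : ∀ l, v l = m l - X ^ ((l : ℕ) + 1) * m0 := fun l => mul_X_pow_cancel n (h l)
      funext ⟨l, e⟩
      have hl := l.2
      have he := e.2
      rw [Pi.zero_apply]
      by_cases h5 : (e : ℕ) + 1 ≤ (l : ℕ)
      · rw [psi_apply_pos n i _ _ _ h5, coeff_X_pow_mul_add, coeff_X_pow_mul_add, sub_eq_zero,
          h', h', map_sub, map_sub, hm l _ (by omega) (by omega), hm _ _ (by omega) (by omega)]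
        congr 1
        rw [coeff_X_pow_mul_ge _ _ (by omega)]
        change coeff (i + 2 + e - ((l : ℕ) + 1)) m0 = coeff (i + 1) (X ^ ((l : ℕ) - 1 - e + 1) * m0)
        rw [coeff_X_pow_mul_ge _ _ (by omega)]
        congr 2
        omega
      · rw [psi_apply_neg n i _ _ _ h5, coeff_X_pow_mul_add, h', map_sub,
          hm l _ (by omega) (by omega), coeff_X_pow_mul_ge _ _ (by omega),
          hm0 _ (by omega) (by omega), sub_zero]
  · intro c
    refine ⟨fun l => X ^ n * PowerSeries.mk (fun d => if h : i + 2 ≤ d ∧ d < n then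
      c (l, ⟨d - (i + 2), by omega⟩) else 0), fun l => ⟨_, rfl⟩, ?_⟩
    funext ⟨l, e⟩
    have hl := l.2
    have he := e.2
    have h1 : coeff (i + 2 + e) (PowerSeries.mk (fun d => if h : i + 2 ≤ d ∧ d < n then
      c (l, ⟨d - (i + 2), by omega⟩) else 0)) = c (l, e) := by
      rw [coeff_mk, dif_pos (by omega)]
      congr 2
      apply Fin.ext
      change i + 2 + (e : ℕ) - (i + 2) = e
      omega
    by_cases h5 : (e : ℕ) + 1 ≤ (l : ℕ)
    · rw [psi_apply_pos n i _ _ _ h5, coeff_X_pow_mul_add, coeff_X_pow_mul_add, h1, coeff_mk,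
        dif_neg (by omega), sub_zero]
    · rw [psi_apply_neg n i _ _ _ h5, coeff_X_pow_mul_add, h1]

end K840.Cubical1
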