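import Groth.Agent.TFCurv.K840.Cubical

/-!
# The cubical singularities: the normalisation and the partial normalisations
-/

set_option autoImplicit false
universe u

open CategoryTheory CategoryTheory.Abelian PowerSeries

namespace K840.Cubical2

open K840.Cubical

/-- The length of a quotient presented by linear functionals. -/
theorem length_quotient_top {k : Type u} {R : Type u} [Field k] [CommRing R] [Algebra k R]
    (m : Ideal R) (hm : ∀ r : R, ∃ c : k, r - algebraMap k R c ∈ m) {V : Type u} [AddCommGroup V]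
    [Module R V] [Module k V] [IsScalarTower k R V] (J : Submodule R V) (n : ℕ)
    (hn : ∀ r ∈ m ^ n, ∀ q : V, r • q ∈ J) {S : Type*} [Fintype S] (ψ : V →ₗ[k] (S → k))
    (hker : ∀ x : V, ψ x = 0 ↔ x ∈ J) (hsurj : Function.Surjective ψ) :
    Module.length R (V ⧸ J) = Fintype.card S := by
  rw [LenK.length_eq m hm n]
  · have h1 : LinearMap.ker ψ = J.restrictScalars k := by
      ext x
      rw [LinearMap.mem_ker, hker]
      rfl
    have e : (V ⧸ J.restrictScalars k) ≃ₗ[k] (S → k) :=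
      (Submodule.quotEquivOfEq _ _ h1.symm).trans (ψ.quotKerEquivOfSurjective hsurj)
    have e2 : (V ⧸ J) ≃ₗ[k] (V ⧸ J.restrictScalars k) :=
      { AddEquiv.refl _ with
        map_smul' := fun c x => rfl }
    rw [(e2.trans e).length_eq, Module.length_eq_finrank, Module.finrank_fintype_fun_eq_card]
  · intro r hr q
    obtain ⟨q, rfl⟩ := Submodule.mkQ_surjective _ q
    rw [← map_smul, Submodule.mkQ_apply, Submodule.Quotient.mk_eq_zero]
    exact hn r hr q

/-- Quotient of the endomorphisms of an overring by multiplications. -/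
theorem length_end_quotient {R V : Type u} [CommRing R] [CommRing V] [Algebra R V]
    (h : ∀ (φ : V →ₗ[R] V) (f : V), φ f = f * φ 1) :
    Module.length R ((V →ₗ[R] V) ⧸ LinearMap.range
      (Algebra.lsmul R R V : R →ₐ[R] Module.End R V).toLinearMap) =
    Module.length R (V ⧸ LinearMap.range (Algebra.linearMap R V)) := by
  let e : (V →ₗ[R] V) ≃ₗ[R] V :=
    { toFun := fun φ => φ 1
      map_add' := fun _ _ => rfl
      map_smul' := fun _ _ => rfl
      invFun := fun v => LinearMap.mulRight R v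
      left_inv := fun φ => by
        ext f
        exact (h φ f).symm
      right_inv := fun v => one_mul v }
  refine (Submodule.Quotient.equiv _ _ e ?_).length_eq
  ext v
  constructor
  · rintro ⟨_, ⟨r, rfl⟩, rfl⟩
    refine ⟨r, ?_⟩
    change algebraMap R V r = r • (1 : V)
    rw [Algebra.smul_def, mul_one]
  · rintro ⟨r, rfl⟩
    refine ⟨_, ⟨r, rfl⟩, ?_⟩
    change r • (1 : V) = algebraMap R V r
    rw [Algebra.smul_def, mul_one]

variable {k : Type u} [Field k]

/-- The coordinates on the quotient. -/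
noncomputable def psi (k : Type u) [Field k] (i : ℕ) (E : Finset ℕ) :
    (Fin i → k⟦X⟧) →ₗ[k] (Fin i × E → k) :=
  LinearMap.pi (fun s => (coeff (R := k) (s.2 : ℕ)).comp (LinearMap.proj s.1))

theorem psi_apply (i : ℕ) (E : Finset ℕ) (w : Fin i → k⟦X⟧) (l : Fin i) (e : E) :
    psi k i E w (l, e) = coeff (e : ℕ) (w l) := rfl

theorem psi_eq_zero (i : ℕ) (E : Finset ℕ) (w : Fin i → k⟦X⟧) :
    psi k i E w = 0 ↔ ∀ l, ∀ e ∈ E, coeff e (w l) = 0 := by
  constructor
  · intro h l e he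
    exact congrFun h (l, ⟨e, he⟩)
  · intro h
    funext ⟨l, e⟩
    exact h l e e.2

theorem exists_psi (i : ℕ) (E : Finset ℕ) (c : Fin i × E → k) :
    ∃ w : Fin i → k⟦X⟧, (∀ l, ∀ e ∉ E, coeff e (w l) = 0) ∧ psi k i E w = c := by
  refine ⟨fun l => Mx.pser E (fun e => c (l, e)), fun l e he => ?_, ?_⟩
  · exact Mx.coeff_pser_of_notMem (k := k) E _ e he
  · funext ⟨l, e⟩
    exact Mx.coeff_pser (k := k) E (fun e => c (l, e)) e

variable (n : ℕ) (A : Subalgebra k k⟦X⟧)
  (hA : ∀ f : k⟦X⟧, f ∈ A ↔ ∀ m : ℕ, 0 < m → m < n → coeff m f = 0)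

section Partial

variable (i : ℕ) (hi : i + 2 ≤ n)

include hA hi in
theorem main_partial : Module.length A (Ext.{u}
    (ModuleCat.of A ↥(Submodule.span A
      ((fun a : ℕ => (X : k⟦X⟧) ^ a) '' ({0} ∪ Set.Icc (n - i) (n - 1)))))
    (ModuleCat.of A ↥(Submodule.span A
      ((fun a : ℕ => (X : k⟦X⟧) ^ a) '' ({0} ∪ Set.Icc (n - i) (n - 1))))) 1) =
      ((i * (n - 1) : ℕ) : ℕ∞) := by
  have hS : ({0} ∪ Set.Icc (n - i) (n - 1)) =
      insert 0 (Set.range (fun l : Fin i => n - i + (l : ℕ))) := by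
    ext d
    simp only [Set.mem_union, Set.mem_singleton_iff, Set.mem_Icc, Set.mem_insert_iff,
      Set.mem_range]
    constructor
    · rintro (h | h)
      · exact Or.inl h
      · exact Or.inr ⟨⟨d - (n - i), by omega⟩, by simp only; omega⟩
    · rintro (h | ⟨l, rfl⟩) <;> omega
  have hinj : Function.Injective (fun l : Fin i => n - i + (l : ℕ)) := by
    intro l l' h
    apply Fin.ext
    simpa using h
  have ha0 : ∀ l : Fin i, 0 < n - i + (l : ℕ) := fun l => by omega
  have han : ∀ l : Fin i, n - i + (l : ℕ) < n := fun l => by omega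
  have hM := mem_span_iff A (fun l : Fin i => n - i + (l : ℕ)) hS
  have hN : ∀ v, v ∈ Submodule.span A
      ((fun a : ℕ => (X : k⟦X⟧) ^ a) '' ({0} ∪ Set.Icc (n - i) (n - 1))) ↔
      ∀ d, 0 < d → d < n - i → coeff d v = 0 := by
    intro v
    rw [hM, exists_iff_coeff n A hA _ han hinj]
    constructor
    · intro h d h1 h2
      exact h d h1 (by omega) (fun l => by omega)
    · intro h d h1 h2 h3
      by_cases h4 : d < n - i
      · exact h d h1 h4
      · exact absurd (show n - i + (d - (n - i)) = d by omega) (h3 ⟨d - (n - i), by omega⟩)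
  let E : Finset ℕ := (Finset.Ico (n - i) (n + (n - i))).erase n
  have hE : ∀ e, e ∈ E ↔ e ≠ n ∧ n - i ≤ e ∧ e < n + (n - i) := by
    intro e
    rw [Finset.mem_erase, Finset.mem_Ico]
  have hEc : E.card = n - 1 := by
    rw [Finset.card_erase_of_mem (Finset.mem_Ico.2 ⟨by omega, by omega⟩), Nat.card_Ico]
    omega
  have hcard : ((i * (n - 1) : ℕ) : ℕ∞) = Fintype.card (Fin i × E) := by
    rw [Fintype.card_prod, Fintype.card_fin, Fintype.card_coe, hEc]
  rw [hcard]
  refine length_ext n A hA (fun l : Fin i => n - i + (l : ℕ)) ha0 han hinj hM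
    (Submodule.span A ((fun a : ℕ => (X : k⟦X⟧) ^ a) '' ({0} ∪ Set.Icc (n - i) (n - 1))))
    (fun w => ∀ l, X ^ (n - i) ∣ w l)
    (fun w => ∀ l, ∃ v, (∀ d, 0 < d → d < n - i → coeff d v = 0) ∧ w l = X ^ n * v)
    ?_ ?_ n ?_ (psi k i E) ?_ ?_
  · intro w
    refine forall_congr' fun l => ?_
    constructor
    · rintro ⟨v, hv⟩ y
      rw [hN, hv]
      intro d _ h2
      rw [mul_left_comm]
      exact coeff_X_pow_mul_lt _ _ h2
    · intro h
      rw [X_pow_dvd_iff]
      intro m hm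
      rcases Nat.eq_zero_or_pos m with h0 | h0
      · subst h0
        have h1 := (hN _).1 (h (X ^ 1)) 1 (by omega) (by omega)
        rwa [coeff_X_pow_mul_ge _ _ (by omega)] at h1
      · have h1 := (hN _).1 (h 1) m h0 hm
        rwa [one_mul] at h1
  · intro w
    constructor
    · intro h
      choose v hv hv' using h
      refine ⟨0, Submodule.zero_mem _, v, fun l => (hN _).2 (hv l), fun l => ?_⟩
      rw [mul_zero, sub_zero]
      exact hv' l
    · rintro ⟨m0, hm0, m, hm, h⟩ l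
      refine ⟨_, ?_, h l⟩
      intro d h1 h2
      rw [map_sub, (hN _).1 (hm l) d h1 h2, coeff_X_pow_mul_lt _ _ (by omega), sub_zero]
  · rintro x ⟨x', rfl⟩ w hw l
    obtain ⟨w', hw'⟩ := hw l
    refine ⟨x' * w l, fun d _ h2 => ?_, ?_⟩
    · rw [hw', mul_left_comm]
      exact coeff_X_pow_mul_lt _ _ h2
    · beta_reduce
      rw [mul_assoc]
  · intro w hw
    rw [psi_eq_zero]
    refine forall_congr' fun l => ?_
    constructor
    · intro h
      obtain ⟨v, hv⟩ : X ^ n ∣ w l := by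
        rw [X_pow_dvd_iff]
        intro m hm
        by_cases h1 : m < n - i
        · exact X_pow_dvd_iff.1 (hw l) m h1
        · exact h m ((hE m).2 (by omega))
      refine ⟨v, fun d h1 h2 => ?_, hv⟩
      have h3 := h (n + d) ((hE _).2 (by omega))
      rwa [hv, coeff_X_pow_mul_ge _ _ (by omega), Nat.add_sub_cancel_left] at h3
    · rintro ⟨v, hv, h⟩ e he
      rw [hE] at he
      rw [h]
      by_cases h1 : e < n
      · exact coeff_X_pow_mul_lt _ _ h1
      · rw [coeff_X_pow_mul_ge _ _ (by omega)]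
        exact hv _ (by omega) (by omega)
  · intro c
    obtain ⟨w, hw, hc⟩ := exists_psi i E c
    refine ⟨w, fun l => ?_, hc⟩
    rw [X_pow_dvd_iff]
    intro m hm
    exact hw l m (fun h => by rw [hE] at h; omega)

end Partial

section Normalization

variable (hn : 2 ≤ n)

include hA hn in
theorem length_top : Module.length A (Ext.{u} (ModuleCat.of A k⟦X⟧) (ModuleCat.of A k⟦X⟧) 1) =
    (((n - 1) * n : ℕ) : ℕ∞) := by
  have hinj : Function.Injective (fun l : Fin (n - 1) => (l : ℕ) + 1) := by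
    intro l l' h
    apply Fin.ext
    simpa using h
  have ha0 : ∀ l : Fin (n - 1), 0 < (l : ℕ) + 1 := fun l => by omega
  have han : ∀ l : Fin (n - 1), (l : ℕ) + 1 < n := fun l => by omega
  have hM : ∀ v, v ∈ (⊤ : Submodule A k⟦X⟧) ↔ ∃ (x0 : A) (x : Fin (n - 1) → A),
      (x0 : k⟦X⟧) + ∑ l, (x l : k⟦X⟧) * X ^ ((l : ℕ) + 1) = v := by
    intro v
    refine ⟨fun _ => ?_, fun _ => trivial⟩
    rw [exists_iff_coeff n A hA _ han hinj]
    intro d h1 h2 h3
    exact absurd (show d - 1 + 1 = d by omega) (h3 ⟨d - 1, by omega⟩)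
  have hcard : (((n - 1) * n : ℕ) : ℕ∞) = Fintype.card (Fin (n - 1) × Finset.range n) := by
    rw [Fintype.card_prod, Fintype.card_fin, Fintype.card_coe, Finset.card_range]
  have key : Module.length A (Ext.{u} (ModuleCat.of A ↥(⊤ : Submodule A k⟦X⟧))
      (ModuleCat.of A ↥(⊤ : Submodule A k⟦X⟧)) 1) = (((n - 1) * n : ℕ) : ℕ∞) := by
    rw [hcard]
    refine length_ext n A hA (fun l : Fin (n - 1) => (l : ℕ) + 1) ha0 han hinj hM ⊤
      (fun w => True) (fun w => ∀ l, X ^ n ∣ w l)
      ?_ ?_ n ?_ (psi k (n - 1) (Finset.range n)) ?_ ?_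
    · intro w
      exact ⟨fun _ _ _ => trivial, fun _ => trivial⟩
    · intro w
      constructor
      · intro h
        choose v hv using h
        refine ⟨0, trivial, v, fun l => trivial, fun l => ?_⟩
        rw [mul_zero, sub_zero]
        exact hv l
      · rintro ⟨m0, hm0, m, hm, h⟩ l
        exact ⟨_, h l⟩
    · rintro x hx w - l
      exact dvd_mul_of_dvd_left hx _
    · rintro w -
      rw [psi_eq_zero]
      refine forall_congr' fun l => ?_
      rw [X_pow_dvd_iff]
      exact forall_congr' fun m => by rw [Finset.mem_range]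
    · intro c
      obtain ⟨w, hw, hc⟩ := exists_psi (n - 1) (Finset.range n) c
      exact ⟨w, trivial, hc⟩
  rw [← key]
  exact (((ExtOne.extCongrLeft (Submodule.topEquiv (R := A) (M := k⟦X⟧)) 1).trans
      (ExtOne.extCongrRight (Submodule.topEquiv (R := A) (M := k⟦X⟧)) 1)).length_eq).symm

include hA in
theorem end_eq (φ : k⟦X⟧ →ₗ[A] k⟦X⟧) (f : k⟦X⟧) : φ f = f * φ 1 := by
  have h1 : ∀ g : k⟦X⟧, φ (X ^ n * g) = (X ^ n * g) * φ 1 := by
    intro g
    have h2 := φ.map_smul (⟨X ^ n * g, Xn_mem n A hA g⟩ : A) 1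
    have h3 : (⟨X ^ n * g, Xn_mem n A hA g⟩ : A) • (1 : k⟦X⟧) = X ^ n * g := by
      change (X ^ n * g) * 1 = _
      rw [mul_one]
    rw [h3] at h2
    exact h2
  have h2 : X ^ n * φ f = φ (X ^ n * f) := by
    have h3 := φ.map_smul (⟨X ^ n * 1, Xn_mem n A hA 1⟩ : A) f
    have h4 : (⟨X ^ n * 1, Xn_mem n A hA 1⟩ : A) • f = X ^ n * f := by
      change (X ^ n * 1) * f = _
      rw [mul_one]
    rw [h4] at h3
    rw [h3]
    change X ^ n * φ f = (X ^ n * 1) * φ f
    rw [mul_one]
  apply mul_X_pow_cancel n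
  rw [h2, h1, mul_assoc]

include hA in
theorem length_end : Module.length A ((k⟦X⟧ →ₗ[A] k⟦X⟧) ⧸ LinearMap.range
      (Algebra.lsmul A A k⟦X⟧ : A →ₐ[A] Module.End A k⟦X⟧).toLinearMap) = ((n - 1 : ℕ) : ℕ∞) := by
  rw [length_end_quotient (end_eq n A hA)]
  have hcard : ((n - 1 : ℕ) : ℕ∞) = Fintype.card (Finset.Ico 1 n) := by
    rw [Fintype.card_coe, Nat.card_Ico]
  rw [hcard]
  have hmem : ∀ x : k⟦X⟧, x ∈ LinearMap.range (Algebra.linearMap A k⟦X⟧) ↔ x ∈ A := by
    intro x
    constructor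
    · rintro ⟨r, rfl⟩
      exact r.2
    · intro h
      exact ⟨⟨x, h⟩, rfl⟩
  refine length_quotient_top (Mx.mx A) (Mx.mx_spec A) _ n ?_ (Mx.psi k (Finset.Ico 1 n)) ?_ ?_
  · intro r hr q
    rw [hmem]
    obtain ⟨r', hr'⟩ := Mx.dvd_of_mem A hr
    change (r : k⟦X⟧) * q ∈ A
    rw [hr', mul_assoc]
    exact Xn_mem n A hA _
  · intro x
    rw [hmem, hA, funext_iff]
    constructor
    · intro h m h1 h2
      exact h ⟨m, Finset.mem_Ico.2 ⟨h1, h2⟩⟩
    · rintro h ⟨m, hm⟩
      rw [Finset.mem_Ico] at hm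
      exact h m hm.1 hm.2
  · intro c
    refine ⟨Mx.pser _ c, ?_⟩
    funext l
    exact Mx.coeff_pser _ c l

include hA hn in
theorem main_normalization :
    Module.length A (Ext.{u} (ModuleCat.of A k⟦X⟧) (ModuleCat.of A k⟦X⟧) 1) =
    (((n - 1) ^ 2 : ℕ) : ℕ∞) + Module.length A ((k⟦X⟧ →ₗ[A] k⟦X⟧) ⧸ LinearMap.range
      (Algebra.lsmul A A k⟦X⟧ : A →ₐ[A] Module.End A k⟦X⟧).toLinearMap) := by
  rw [length_end n A hA, length_top n A hA hn, ← Nat.cast_add]
  congr 1
  obtain ⟨m, rfl⟩ : ∃ m, n = m + 1 := ⟨n - 1, by omega⟩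
  rw [Nat.add_sub_cancel]
  ring

end Normalization

end K840.Cubical2
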