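import Mathlib.RingTheory.PowerSeries.Order
import Mathlib.RingTheory.PowerSeries.Substitution
import Mathlib.RingTheory.PowerSeries.Inverse
import Mathlib.RingTheory.PowerSeries.Trunc
import Mathlib.RingTheory.AdicCompletion.Functoriality
import Mathlib.RingTheory.AdicCompletion.Completeness
import Mathlib.RingTheory.Filtration
import Mathlib.RingTheory.Finiteness.Basic
import Mathlib.RingTheory.IntegralClosure.Algebra.Basic
import Mathlib.Algebra.Polynomial.Inductions
import Mathlib.RingTheory.Adjoin.Polynomial.Basic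

/-!
# Closed subalgebras `A` of `k⟦X⟧` over which `k⟦X⟧` is finite

* `exists_pos_order` : `A` contains a nonzero element of positive order.
* `subst_mem` : `A` is stable under substitution.
* `subst_finite` : `k⟦X⟧` is finite over `k⟦a⟧`.
* `mem_of_forall` : `A`-submodules of `k⟦X⟧` are closed.
-/

set_option autoImplicit false
universe u

open PowerSeries

namespace K840.PowSub

section Ring

theorem isPrecomplete_pi {R : Type*} [CommRing R] (I : Ideal R) [IsPrecomplete I R] (ι : Type*)
    [Finite ι] : IsPrecomplete I (ι → R) := by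
  classical
  have := Fintype.ofFinite ι
  refine ⟨fun f hf => ?_⟩
  have hcoord : ∀ i : ι, ∃ L : R, ∀ n, f n i ≡ L [SMOD (I ^ n • ⊤ : Submodule R R)] := by
    intro i
    refine IsPrecomplete.prec ‹_› (f := fun n => f n i) ?_
    intro m n hmn
    have h := hf hmn
    rw [SModEq.sub_mem] at h ⊢
    have := Submodule.mem_map_of_mem (f := LinearMap.proj (R := R) (φ := fun _ : ι => R) i) h
    rw [Submodule.map_smul''] at this
    exact Submodule.smul_mono le_rfl le_top this
  choose L hL using hcoord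
  refine ⟨L, fun n => ?_⟩
  rw [SModEq.sub_mem]
  have : f n - L = ∑ i, (f n i - L i) • (Pi.single i 1 : ι → R) := by
    ext j
    simp [Finset.sum_apply, Pi.single_apply]
  rw [this]
  refine Submodule.sum_mem _ fun i _ => Submodule.smul_mem_smul ?_ Submodule.mem_top
  have := hL i n
  rw [SModEq.sub_mem] at this
  simpa using this

/-- Finiteness of ring maps out of a complete ring. -/
theorem finite_of_precomplete {P V : Type u} [CommRing P] [CommRing V] (ψ : P →+* V) (I : Ideal P)
    [IsPrecomplete I P] (hH : ∀ x : V, (∀ n : ℕ, x ∈ (I.map ψ) ^ n) → x = 0) (e : ℕ) (v : Fin e → V)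
    (h : ∀ x : V, ∃ c : Fin e → P, x - ∑ i, ψ (c i) * v i ∈ I.map ψ) : ψ.Finite := by
  let := ψ.toAlgebra
  have hpow : ∀ n : ℕ, ∀ x : V, x ∈ (I ^ n • ⊤ : Submodule P V) ↔ x ∈ (I.map ψ) ^ n := by
    intro n x
    rw [Ideal.smul_top_eq_map, ← Ideal.map_pow]
    rfl
  have hI : ∀ x : V, x ∈ (I • ⊤ : Submodule P V) ↔ x ∈ (I.map ψ) := by
    intro x
    rw [Ideal.smul_top_eq_map]
    rfl
  have h1 : IsHausdorff I V := by
    refine ⟨fun x hx => hH x fun n => ?_⟩
    have := hx n
    rw [SModEq.zero] at this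
    exact (hpow n x).1 this
  have h2 := isPrecomplete_pi I (Fin e)
  let f : (Fin e → P) →ₗ[P] V := Fintype.linearCombination P v
  have hf : Function.Surjective f := by
    refine surjective_of_mkQ_comp_surjective (I := I) (f := f) ?_
    intro m
    obtain ⟨m, rfl⟩ := Submodule.mkQ_surjective _ m
    obtain ⟨c, hc⟩ := h m
    refine ⟨c, ?_⟩
    rw [LinearMap.comp_apply, ← sub_eq_zero, ← map_sub, Submodule.mkQ_apply,
      Submodule.Quotient.mk_eq_zero, ← neg_mem_iff, neg_sub, hI]
    have h3 : f c = ∑ i, ψ (c i) * v i := by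
      simp only [f, Fintype.linearCombination_apply, Algebra.smul_def]
      rfl
    rw [h3]
    exact hc
  exact Module.Finite.of_surjective f hf

/-- Krull intersection. -/
theorem mem_of_forall_exists {P V : Type u} [CommRing P] [IsNoetherianRing P] [IsLocalRing P]
    [CommRing V] (ψ : P →+* V) (hψ : ψ.Finite) (I : Ideal P) (hI : I ≠ ⊤) (N : AddSubgroup V)
    (hN : ∀ p : P, ∀ x ∈ N, ψ p * x ∈ N) (f : V)
    (h : ∀ j : ℕ, ∃ g ∈ N, f - g ∈ (I.map ψ) ^ j) : f ∈ N := by
  let := ψ.toAlgebra
  have hfin : Module.Finite P V := hψ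
  let N' : Submodule P V :=
    { N with
      smul_mem' := fun c x hx => by
        rw [Algebra.smul_def]
        exact hN c x hx }
  have h1 := Ideal.iInf_pow_smul_eq_bot_of_isLocalRing (R := P) (M := V ⧸ N') I hI
  have h2 : N'.mkQ f ∈ (⨅ i : ℕ, I ^ i • ⊤ : Submodule P (V ⧸ N')) := by
    rw [Submodule.mem_iInf]
    intro j
    obtain ⟨g, hg, hfg⟩ := h j
    have h3 : N'.mkQ f = N'.mkQ (f - g) := by
      rw [map_sub, eq_comm, sub_eq_self, Submodule.mkQ_apply, Submodule.Quotient.mk_eq_zero]
      exact hg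
    rw [h3]
    have h4 : f - g ∈ (I ^ j • ⊤ : Submodule P V) := by
      rw [Ideal.smul_top_eq_map]
      rwa [← Ideal.map_pow] at hfg
    have h5 := Submodule.mem_map_of_mem (f := N'.mkQ) h4
    rw [Submodule.map_smul''] at h5
    exact Submodule.smul_mono le_rfl le_top h5
  rw [h1, Submodule.mem_bot, Submodule.mkQ_apply, Submodule.Quotient.mk_eq_zero] at h2
  exact h2

end Ring

section Pow

variable {k : Type u} [Field k]

theorem mem_of_order_le {f g : k⟦X⟧} (hg : g ≠ 0) (h : order g ≤ order f) : g ∣ f := by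
  have h1 : g = X ^ g.order.toNat * divXPowOrder g := X_pow_order_mul_divXPowOrder.symm
  have hu : IsUnit (divXPowOrder g) := by
    rw [← Unit_of_divided_by_X_pow_order_nonzero hg]
    exact Units.isUnit _
  have h2 : X ^ g.order.toNat ∣ f := by
    rw [X_pow_dvd_iff]
    intro m hm
    apply coeff_of_lt_order
    refine lt_of_lt_of_le ?_ h
    rw [← coe_toNat_order hg]
    exact_mod_cast hm
  rw [h1]
  exact (IsUnit.mul_right_dvd hu).2 h2

theorem order_of_dvd {f g : k⟦X⟧} (h : g ∣ f) : order g ≤ order f := by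
  obtain ⟨c, rfl⟩ := h
  rw [order_mul]
  exact le_self_add

theorem eq_zero_of_forall_le {f : k⟦X⟧} (h : ∀ n : ℕ, (n : ℕ∞) ≤ order f) : f = 0 := by
  rw [← order_eq_top, ENat.eq_top_iff_forall_ge]
  exact h

/-- A closed subalgebra is stable under substitution of its elements of positive order. -/
theorem subst_mem (A : Subalgebra k k⟦X⟧)
    (hcl : ∀ f : k⟦X⟧, (∀ n : ℕ, ∃ g ∈ A, (n : ℕ∞) ≤ order (f - g)) → f ∈ A) {a : k⟦X⟧}
    (ha : a ∈ A) (h0 : constantCoeff a = 0) (p : k⟦X⟧) : subst a p ∈ A := by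
  have hs : HasSubst a := HasSubst.of_constantCoeff_zero' h0
  apply hcl
  intro n
  refine ⟨Polynomial.aeval a (trunc n p), ?_, ?_⟩
  · have : Algebra.adjoin k {a} ≤ A := Algebra.adjoin_le (by simpa using ha)
    exact this (Polynomial.aeval_mem_adjoin_singleton k a)
  · rw [← subst_coe hs, ← subst_sub hs]
    refine le_trans ?_ (le_order_subst_left' h0)
    apply nat_le_order
    intro i hi
    simp [coeff_trunc, hi]

/-- `k⟦X⟧` is finite over `k⟦a⟧`. -/
theorem subst_finite {a : k⟦X⟧} (ha : a ≠ 0) (h0 : constantCoeff a = 0) :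
    (substAlgHom (R := k) (HasSubst.of_constantCoeff_zero' h0)).toRingHom.Finite := by
  have hs : HasSubst a := HasSubst.of_constantCoeff_zero' h0
  have hmap : (Ideal.span {(X : k⟦X⟧)}).map (substAlgHom (R := k) hs).toRingHom = Ideal.span {a} := by
    rw [Ideal.map_span, Set.image_singleton]
    congr 2
    exact substAlgHom_X hs
  refine finite_of_precomplete _ (Ideal.span {X}) ?_ a.order.toNat (fun i => X ^ (i : ℕ)) ?_
  · intro x hx
    apply eq_zero_of_forall_le
    intro n
    have h1 := hx n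
    rw [hmap, Ideal.span_singleton_pow, Ideal.mem_span_singleton] at h1
    exact (le_order_pow_of_constantCoeff_eq_zero n h0).trans (order_of_dvd h1)
  · intro x
    refine ⟨fun i => C (coeff i x), ?_⟩
    rw [hmap, Ideal.mem_span_singleton]
    apply mem_of_order_le ha
    have h1 : ∀ c : k, (substAlgHom (R := k) hs).toRingHom (C c) = C c := by
      intro c
      have := (substAlgHom (R := k) hs).commutes c
      exact this
    rw [← coe_toNat_order ha]
    apply nat_le_order
    intro i hi
    have h2 : coeff i (∑ j : Fin a.order.toNat,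
        (substAlgHom (R := k) hs).toRingHom (C (coeff (j : ℕ) x)) * X ^ (j : ℕ)) = coeff i x := by
      rw [map_sum, Finset.sum_eq_single (⟨i, hi⟩ : Fin a.order.toNat)]
      · rw [h1, coeff_C_mul, coeff_X_pow_self, mul_one]
      · intro b _ hb
        have : ¬ i = (b : ℕ) := fun h => hb (Fin.ext h.symm)
        rw [h1, coeff_C_mul, coeff_X_pow, if_neg this, mul_zero]
      · simp
    rw [map_sub, sub_eq_zero]
    exact h2.symm

/-- `A`-submodules of `k⟦X⟧` are closed. -/
theorem mem_of_forall (A : Subalgebra k k⟦X⟧)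
    (hcl : ∀ f : k⟦X⟧, (∀ n : ℕ, ∃ g ∈ A, (n : ℕ∞) ≤ order (f - g)) → f ∈ A) {a : k⟦X⟧}
    (haA : a ∈ A) (ha : a ≠ 0) (h0 : constantCoeff a = 0) (N : Submodule A k⟦X⟧) (f : k⟦X⟧)
    (h : ∀ n : ℕ, ∃ g ∈ N, (n : ℕ∞) ≤ order (f - g)) : f ∈ N := by
  have hs : HasSubst a := HasSubst.of_constantCoeff_zero' h0
  have hmap : (Ideal.span {(X : k⟦X⟧)}).map (substAlgHom (R := k) hs).toRingHom = Ideal.span {a} := by
    rw [Ideal.map_span, Set.image_singleton]
    congr 2
    exact substAlgHom_X hs
  refine mem_of_forall_exists (substAlgHom (R := k) hs).toRingHom (subst_finite ha h0)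
    (Ideal.span {X}) ?_ N.toAddSubgroup ?_ f ?_
  · rw [Ne, Ideal.span_singleton_eq_top]
    intro hu
    exact X_ne_zero (R := k) ((isUnit_iff_constantCoeff.1 hu).ne_zero (by simp)).elim
  · intro p x hx
    have h1 : (substAlgHom (R := k) hs).toRingHom p = subst a p := by
      rw [← coe_substAlgHom hs]
      rfl
    rw [h1]
    exact N.smul_mem ⟨subst a p, subst_mem A hcl haA h0 p⟩ hx
  · intro j
    obtain ⟨g, hg, hgo⟩ := h (j * a.order.toNat)
    refine ⟨g, hg, ?_⟩
    rw [hmap, Ideal.span_singleton_pow, Ideal.mem_span_singleton]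
    apply mem_of_order_le (pow_ne_zero _ ha)
    rw [order_pow, ← coe_toNat_order ha]
    refine le_trans ?_ hgo
    simp

/-- A subalgebra of `k⟦X⟧` over which `k⟦X⟧` is finite contains an element of positive order. -/
theorem exists_pos_order (A : Subalgebra k k⟦X⟧) (hA : Module.Finite A k⟦X⟧) :
    ∃ a ∈ A, a ≠ 0 ∧ constantCoeff a = 0 := by
  by_contra hcon
  push Not at hcon
  have key : ∀ n : ℕ, ∀ p : Polynomial A, p.natDegree ≤ n →
      Polynomial.aeval (X : k⟦X⟧) p = 0 → p = 0 := by
    intro n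
    induction n with
    | zero =>
      intro p hp hp0
      rw [Polynomial.eq_C_of_natDegree_le_zero hp] at hp0 ⊢
      rw [Polynomial.aeval_C] at hp0
      have h1 : p.coeff 0 = 0 := Subtype.ext hp0
      rw [h1, Polynomial.C_0]
    | succ n ih =>
      intro p hp hp0
      have h1 : Polynomial.aeval (X : k⟦X⟧) p.divX * X + ((p.coeff 0 : A) : k⟦X⟧) = 0 := by
        have := hp0
        rw [← p.divX_mul_X_add, map_add, map_mul, Polynomial.aeval_X, Polynomial.aeval_C] at this
        exact this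
      have h2 : ((p.coeff 0 : A) : k⟦X⟧) = 0 := by
        by_contra hne
        apply hcon _ (p.coeff 0).2 hne
        have h3 := congrArg (constantCoeff (R := k)) h1
        simpa using h3
      rw [h2, add_zero] at h1
      have h3 : Polynomial.aeval (X : k⟦X⟧) p.divX = 0 :=
        (mul_eq_zero.1 h1).resolve_right X_ne_zero
      have h4 := ih p.divX (by
        rw [Polynomial.natDegree_divX_eq_natDegree_tsub_one]
        omega) h3
      rw [← p.divX_mul_X_add, h4, zero_mul, zero_add]
      have h5 : p.coeff 0 = 0 := Subtype.ext h2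
      rw [h5, Polynomial.C_0]
  obtain ⟨p, hp, hp0⟩ := IsIntegral.of_finite A (X : k⟦X⟧)
  exact hp.ne_zero (key _ p le_rfl hp0)

theorem smul_mem' (A : Subalgebra k k⟦X⟧) (N : Submodule A k⟦X⟧) (c : k) {h : k⟦X⟧} (hh : h ∈ N) :
    c • h ∈ N := by
  have h1 : c • h = (algebraMap k A c) • h := by
    rw [algebraMap_smul]
  rw [h1]
  exact N.smul_mem _ hh

/-- successive approximation. -/
theorem exists_approx (A : Subalgebra k k⟦X⟧) (N : Submodule A k⟦X⟧) (c' : ℕ)
    (hN : ∀ n : ℕ, c' ≤ n → ∃ h ∈ N, order h = n) (f : k⟦X⟧) (hf : (c' : ℕ∞) ≤ order f) (n : ℕ) :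
    ∃ g ∈ N, (n : ℕ∞) ≤ order (f - g) := by
  have key : ∀ j : ℕ, ∃ g ∈ N, ((c' + j : ℕ) : ℕ∞) ≤ order (f - g) := by
    intro j
    induction j with
    | zero => exact ⟨0, N.zero_mem, by simpa using hf⟩
    | succ j ih =>
      obtain ⟨g, hg, hgo⟩ := ih
      obtain ⟨h, hh, hho⟩ := hN (c' + j) (by omega)
      rw [order_eq_nat] at hho
      refine ⟨g + (coeff (c' + j) (f - g) / coeff (c' + j) h) • h,
        N.add_mem hg (smul_mem' A N _ hh), ?_⟩
      apply nat_le_order
      intro i hi
      rw [← sub_sub, map_sub, coeff_smul, smul_eq_mul]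
      rcases Nat.lt_succ_iff_lt_or_eq.1 (show i < (c' + j) + 1 by omega) with h1 | h1
      · rw [hho.2 i h1, mul_zero, sub_zero]
        apply coeff_of_lt_order
        exact lt_of_lt_of_le (by exact_mod_cast h1) hgo
      · subst h1
        rw [div_mul_cancel₀ _ hho.1, sub_self]
  obtain ⟨g, hg, hgo⟩ := key n
  exact ⟨g, hg, le_trans (by exact_mod_cast Nat.le_add_left n c') hgo⟩

end Pow

end K840.PowSub
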