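import Mathlib.RingTheory.LocalRing.ResidueField.Basic
import Mathlib.LinearAlgebra.Matrix.NonsingularInverse
import Mathlib.LinearAlgebra.Matrix.ToLin
import Mathlib.LinearAlgebra.FiniteDimensional.Lemmas
import Mathlib.RingTheory.Ideal.Quotient.Basic

/-!
# General position over local rings with infinite residue field

* `exists_notMem` : a module over a local ring with infinite residue field is not a finite union of
  proper submodules.
* `exists_basis` : general position.
-/

set_option autoImplicit false
universe u v w

open IsLocalRing

namespace K840.GenPos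

/-- A module over a local ring with infinite residue field is not a finite union of proper
submodules. -/
theorem exists_notMem {O : Type u} [CommRing O] [IsLocalRing O] [Infinite (ResidueField O)]
    {N : Type v} [AddCommGroup N] [Module O N] {ι : Type w} (s : Finset ι) (P : ι → Submodule O N)
    (hP : ∀ i ∈ s, P i ≠ ⊤) : ∃ v : N, ∀ i ∈ s, v ∉ P i := by
  classical
  induction s using Finset.induction_on with
  | empty => exact ⟨0, by simp⟩
  | insert j s hj ih =>
    obtain ⟨v, hv⟩ := ih (fun i hi => hP i (Finset.mem_insert_of_mem hi))
    by_cases hvj : v ∈ P j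
    · obtain ⟨w, hw⟩ : ∃ w, w ∉ P j := by
        by_contra h
        push Not at h
        exact hP j (Finset.mem_insert_self j s) (Submodule.eq_top_iff'.2 h)
      by_contra hcon
      push Not at hcon
      choose a ha using IsLocalRing.residue_surjective (R := O)
      have h1 : ∀ c : ResidueField O, ∃ i ∈ s, w + a c • v ∈ P i := by
        intro c
        obtain ⟨i, hi, hmem⟩ := hcon (w + a c • v)
        rcases Finset.mem_insert.1 hi with rfl | hi'
        · exfalso
          apply hw
          have := (P i).sub_mem hmem ((P i).smul_mem (a c) hvj)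
          simpa using this
        · exact ⟨i, hi', hmem⟩
      choose f hfs hf using h1
      obtain ⟨c, c', hne, hcc⟩ := Finite.exists_ne_map_eq_of_infinite
        (fun c : ResidueField O => (⟨f c, hfs c⟩ : s))
      have hcc' : f c = f c' := congrArg Subtype.val hcc
      have h2 : (a c - a c') • v ∈ P (f c) := by
        have := (P (f c)).sub_mem (hf c) (hcc' ▸ hf c')
        rw [sub_smul]
        simpa using this
      have h3 : IsUnit (a c - a c') := by
        rw [← residue_ne_zero_iff_isUnit, map_sub, sub_ne_zero]
        rw [ha, ha]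
        exact hne
      obtain ⟨u, hu⟩ := h3
      apply hv (f c) (hfs c)
      have h4 := (P (f c)).smul_mem (↑u⁻¹ : O) h2
      rwa [← hu, smul_smul, Units.inv_mul, one_smul] at h4
    · refine ⟨v, fun i hi => ?_⟩
      rcases Finset.mem_insert.1 hi with rfl | hi'
      · exact hvj
      · exact hv i hi'

section Basis

variable {O : Type u} [CommRing O] {D : Type v} [CommRing D] [Algebra O D]
  (hsurj : ∀ I : Ideal D, I.IsMaximal → ∀ d : D, ∃ a : O, d - algebraMap O D a ∈ I)
  {N : Type w} [AddCommGroup N] [Module O N] {n : ℕ} (g : N →ₗ[O] (Fin n → D))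
  (hg : Submodule.span D (Set.range g) = ⊤)

include hsurj hg in
theorem surj_mod (I : Ideal D) (hI : I.IsMaximal) (x : Fin n → D) :
    ∃ v : N, ∀ i, g v i - x i ∈ I := by
  have hx : x ∈ Submodule.span D (Set.range g) := hg ▸ Submodule.mem_top
  induction hx using Submodule.span_induction with
  | mem x hx =>
    obtain ⟨v, rfl⟩ := hx
    exact ⟨v, fun i => by simp⟩
  | zero => exact ⟨0, fun i => by simp⟩
  | add x y _ _ hx hy =>
    obtain ⟨v, hv⟩ := hx
    obtain ⟨w, hw⟩ := hy
    refine ⟨v + w, fun i => ?_⟩
    have := I.add_mem (hv i) (hw i)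
    rw [map_add, Pi.add_apply, Pi.add_apply]
    convert this using 1
    ring
  | smul d x _ hx =>
    obtain ⟨v, hv⟩ := hx
    obtain ⟨a, ha⟩ := hsurj I hI d
    refine ⟨a • v, fun i => ?_⟩
    rw [map_smul, Pi.smul_apply, Pi.smul_apply, Algebra.smul_def, smul_eq_mul]
    have h1 := I.mul_mem_left (algebraMap O D a) (hv i)
    have h2 := I.mul_mem_right (x i) ha
    have := I.sub_mem h1 h2
    convert this using 1
    ring

/-- General position: if the image of `g : N → D^n` spans `D^n`, there are `n` elements of `N` whose
images have unit determinant. -/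
theorem exists_det [IsLocalRing O] [Infinite (ResidueField O)]
    (hfin : {I : Ideal D | I.IsMaximal}.Finite)
    (hsurj : ∀ I : Ideal D, I.IsMaximal → ∀ d : D, ∃ a : O, d - algebraMap O D a ∈ I)
    (hg : Submodule.span D (Set.range g) = ⊤) :
    ∃ e : Fin n → N, IsUnit (Matrix.of fun i => g (e i)).det := by
  classical
  have key : ∀ r : ℕ, r ≤ n → ∃ e : Fin r → N, ∀ I : Ideal D, I.IsMaximal →
      LinearIndependent (D ⧸ I) (fun i : Fin r => fun l : Fin n => Ideal.Quotient.mk I (g (e i) l)) := by
    intro r
    induction r with
    | zero => exact fun _ => ⟨Fin.elim0, fun I _ => linearIndependent_empty_type⟩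
    | succ r ih =>
      intro hr
      obtain ⟨e, he⟩ := ih (by omega)
      let P : Ideal D → Submodule O N := fun I =>
        Submodule.comap ((LinearMap.pi (fun l : Fin n =>
          ((Ideal.Quotient.mkₐ O I).toLinearMap.comp (LinearMap.proj l)))).comp g)
          (Submodule.restrictScalars O (Submodule.span (D ⧸ I)
            (Set.range (fun i : Fin r => fun l : Fin n => Ideal.Quotient.mk I (g (e i) l)))))
      obtain ⟨v, hv⟩ := exists_notMem hfin.toFinset P (by
        intro I hI htop
        rw [Set.Finite.mem_toFinset] at hI
        have hImax : I.IsMaximal := hI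
        let := Ideal.Quotient.field I
        have h1 : Submodule.span (D ⧸ I)
            (Set.range (fun i : Fin r => fun l : Fin n => Ideal.Quotient.mk I (g (e i) l))) = ⊤ := by
          rw [eq_top_iff]
          intro y _
          choose x hx using fun l => Ideal.Quotient.mk_surjective (I := I) (y l)
          obtain ⟨w, hw⟩ := surj_mod hsurj g hg I hImax x
          have h2 : w ∈ P I := htop ▸ Submodule.mem_top
          have h3 : (fun l : Fin n => Ideal.Quotient.mk I (g w l)) = y := by
            funext l
            rw [← hx l, Ideal.Quotient.eq]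
            exact hw l
          rw [← h3]
          exact h2
        have h2 := finrank_range_le_card (R := D ⧸ I)
          (fun i : Fin r => fun l : Fin n => Ideal.Quotient.mk I (g (e i) l))
        rw [Set.finrank, h1, finrank_top, Module.finrank_fin_fun, Fintype.card_fin] at h2
        omega)
      refine ⟨Fin.cons v e, fun I hI => ?_⟩
      let := Ideal.Quotient.field I
      have h1 : (fun i : Fin (r + 1) => fun l : Fin n =>
          Ideal.Quotient.mk I (g ((Fin.cons v e : Fin (r + 1) → N) i) l)) =
          (Fin.cons (fun l : Fin n => Ideal.Quotient.mk I (g v l))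
            (fun i : Fin r => fun l : Fin n => Ideal.Quotient.mk I (g (e i) l)) :
            Fin (r + 1) → (Fin n → D ⧸ I)) := by
        funext i
        refine Fin.cases ?_ (fun i => ?_) i
        · rfl
        · rfl
      rw [h1, linearIndependent_finCons]
      refine ⟨he I hI, ?_⟩
      exact hv I ((Set.Finite.mem_toFinset _).2 hI)
  obtain ⟨e, he⟩ := key n le_rfl
  refine ⟨e, ?_⟩
  by_contra hnu
  obtain ⟨I, hI, hdet⟩ := exists_max_ideal_of_mem_nonunits hnu
  let := Ideal.Quotient.field I
  have h1 := he I hI
  have h2 : LinearIndependent (D ⧸ I) ((Matrix.of fun i => g (e i)).map (Ideal.Quotient.mk I)).row := h1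
  rw [Matrix.linearIndependent_rows_iff_isUnit, Matrix.isUnit_iff_isUnit_det] at h2
  have h3 : ((Matrix.of fun i => g (e i)).map (Ideal.Quotient.mk I)).det =
      Ideal.Quotient.mk I (Matrix.of fun i => g (e i)).det := by
    rw [RingHom.map_det]
    rfl
  rw [h3, Ideal.Quotient.eq_zero_iff_mem.2 hdet] at h2
  exact not_isUnit_zero h2

/-- In general position, everything is a combination of the chosen elements. -/
theorem exists_coords {e : Fin n → N} (he : IsUnit (Matrix.of fun i => g (e i)).det)
    (x : Fin n → D) : ∃ c : Fin n → D, x = ∑ i, c i • g (e i) := by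
  classical
  refine ⟨Matrix.vecMul x (Matrix.of fun i => g (e i))⁻¹, ?_⟩
  have h1 := Matrix.vecMul_eq_sum (Matrix.vecMul x (Matrix.of fun i => g (e i))⁻¹)
    (Matrix.of fun i => g (e i))
  rw [Matrix.vecMul_vecMul, Matrix.nonsing_inv_mul _ he, Matrix.vecMul_one] at h1
  exact h1

end Basis

end K840.GenPos
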