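import Groth.Agent.TFCurv.K840.GorDim1
import Mathlib.Algebra.Algebra.Operations
import Mathlib.RingTheory.Localization.FractionRing

/-!
# `Ext¹(M, M)` for an overring of a one-dimensional Gorenstein local domain
-/

set_option autoImplicit false
universe u

open CategoryTheory CategoryTheory.Abelian IsLocalRing

namespace K840.Overring

section General

variable {O : Type u} [CommRing O] [IsDomain O] {K : Type u} [Field K] [Algebra O K]
  [IsFractionRing O K]

/-- Linear maps from submodules of `K` are `K`-proportional. -/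
theorem mul_apply_comm (P : Submodule O K) (φ : P →ₗ[O] O) (x y : P) :
    (x : K) * algebraMap O K (φ y) = (y : K) * algebraMap O K (φ x) := by
  obtain ⟨a, s, hs, hx⟩ := IsFractionRing.div_surjective (A := O) (x : K)
  obtain ⟨c, t, ht, hy⟩ := IsFractionRing.div_surjective (A := O) (y : K)
  have hs0 : algebraMap O K s ≠ 0 := IsFractionRing.to_map_ne_zero_of_mem_nonZeroDivisors hs
  have ht0 : algebraMap O K t ≠ 0 := IsFractionRing.to_map_ne_zero_of_mem_nonZeroDivisors ht
  have h1 : (s * c) • x = (a * t) • y := by
    apply Subtype.ext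
    change (s * c) • (x : K) = (a * t) • (y : K)
    rw [Algebra.smul_def, Algebra.smul_def, ← hx, ← hy, map_mul, map_mul]
    field_simp
  have h2 : (s * c) * φ x = (a * t) * φ y := by
    rw [← smul_eq_mul, ← map_smul, h1, map_smul, smul_eq_mul]
  have h3 := congrArg (algebraMap O K) h2
  simp only [map_mul] at h3
  rw [← hx, ← hy]
  field_simp
  linear_combination -h3

theorem apply_one_mem (P : Submodule O K) (h1 : (1 : K) ∈ P) (φ : P →ₗ[O] O) :
    algebraMap O K (φ ⟨1, h1⟩) ∈ (1 : Submodule O K) / P := by
  rw [Submodule.mem_div_iff_forall_mul_mem]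
  intro y hy
  rw [mul_comm, mul_apply_comm P φ ⟨y, hy⟩ ⟨1, h1⟩]
  rw [Submodule.mem_one]
  exact ⟨φ ⟨y, hy⟩, by simp⟩

/-- Evaluation at `1`. -/
noncomputable def homMap (P : Submodule O K) (h1 : (1 : K) ∈ P) :
    (P →ₗ[O] O) →ₗ[O] ↥((1 : Submodule O K) / P) :=
  LinearMap.codRestrict _ ((Algebra.linearMap O K).comp (LinearMap.applyₗ (⟨1, h1⟩ : P)))
    (apply_one_mem P h1)

theorem homMap_bijective (P : Submodule O K) (h1 : (1 : K) ∈ P) :
    Function.Bijective (homMap P h1) := by
  constructor
  · intro φ ψ h
    have h2 : algebraMap O K (φ ⟨1, h1⟩) = algebraMap O K (ψ ⟨1, h1⟩) := congrArg Subtype.val h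
    ext y
    have h3 := mul_apply_comm P φ y ⟨1, h1⟩
    have h4 := mul_apply_comm P ψ y ⟨1, h1⟩
    rw [h2, h4] at h3
    simp only [one_mul] at h3
    exact (IsFractionRing.injective O K h3).symm
  · rintro ⟨u, hu⟩
    have hu' := hu
    rw [Submodule.mem_div_iff_forall_mul_mem] at hu'
    have hex : ∀ y : P, ∃ a : O, algebraMap O K a = u * y := fun y => by
      have := hu' y y.2
      rwa [Submodule.mem_one] at this
    choose f hf using hex
    refine ⟨{ toFun := f, map_add' := ?_, map_smul' := ?_ }, ?_⟩
    · intro x y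
      apply IsFractionRing.injective O K
      rw [map_add, hf, hf, hf, Submodule.coe_add, mul_add]
    · intro c x
      apply IsFractionRing.injective O K
      rw [RingHom.id_apply, smul_eq_mul, map_mul, hf, hf, Submodule.coe_smul, Algebra.smul_def]
      ring
    · apply Subtype.ext
      change algebraMap O K (f ⟨1, h1⟩) = u
      rw [hf]
      simp

/-- For a submodule `P` containing `1`, linear maps `P → O` are multiplications by elements of
`(1 : P)`. -/
noncomputable def homEquiv (P : Submodule O K) (h1 : (1 : K) ∈ P) :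
    (P →ₗ[O] O) ≃ₗ[O] ↥((1 : Submodule O K) / P) :=
  LinearEquiv.ofBijective (homMap P h1) (homMap_bijective P h1)

end General

section Main

variable {O : Type u} [CommRing O] [IsDomain O] {K : Type u} [Field K] [Algebra O K]
  [IsFractionRing O K]

/-- The inverse of an overring is a module over it. -/
theorem mul_mem_div (M : Subalgebra O K) {u m : K}
    (hu : u ∈ (1 : Submodule O K) / Subalgebra.toSubmodule M) (hm : m ∈ M) :
    m * u ∈ (1 : Submodule O K) / Subalgebra.toSubmodule M := by
  rw [Submodule.mem_div_iff_forall_mul_mem] at hu ⊢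
  intro y hy
  rw [mul_comm m u, mul_assoc]
  exact hu _ (M.mul_mem hm hy)

theorem div_le_one (M : Subalgebra O K) :
    (1 : Submodule O K) / Subalgebra.toSubmodule M ≤ 1 := by
  intro x hx
  rw [Submodule.mem_div_iff_forall_mul_mem] at hx
  have := hx 1 M.one_mem
  rwa [mul_one] at this

/-- every map `M⁻¹ → O` has image in `M⁻¹`. -/
theorem apply_mem (M : Subalgebra O K)
    (φ : ↥((1 : Submodule O K) / Subalgebra.toSubmodule M) →ₗ[O] O)
    (u : ↥((1 : Submodule O K) / Subalgebra.toSubmodule M)) :
    φ u ∈ Submodule.comap (Algebra.linearMap O K)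
      ((1 : Submodule O K) / Subalgebra.toSubmodule M) := by
  rw [Submodule.mem_comap, Submodule.mem_div_iff_forall_mul_mem]
  intro m hm
  rw [Algebra.linearMap_apply]
  by_cases hu0 : (u : K) = 0
  · have : u = 0 := Subtype.ext hu0
    rw [this, map_zero, map_zero, zero_mul]
    exact Submodule.zero_mem _
  · have h := mul_apply_comm _ φ ⟨m * u, mul_mem_div M u.2 hm⟩ u
    have h2 : algebraMap O K (φ u) * m = algebraMap O K (φ ⟨m * u, mul_mem_div M u.2 hm⟩) := by
      apply mul_left_cancel₀ hu0
      rw [← h]
      ring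
    rw [h2, Submodule.mem_one]
    exact ⟨_, rfl⟩

/-- The identification of `M⁻¹` with an ideal. -/
noncomputable def idealEquiv (M : Subalgebra O K) :
    ↥(Submodule.comap (Algebra.linearMap O K)
      ((1 : Submodule O K) / Subalgebra.toSubmodule M)) ≃ₗ[O]
      ↥((1 : Submodule O K) / Subalgebra.toSubmodule M) :=
  LinearEquiv.ofBijective
    ((Algebra.linearMap O K).restrict (p := Submodule.comap (Algebra.linearMap O K)
      ((1 : Submodule O K) / Subalgebra.toSubmodule M)) (fun _ hx => hx)) ⟨by
        intro x y h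
        apply Subtype.ext
        exact IsFractionRing.injective O K (congrArg Subtype.val h), by
        rintro ⟨u, hu⟩
        obtain ⟨a, ha⟩ := Submodule.mem_one.1 (div_le_one M hu)
        refine ⟨⟨a, ?_⟩, Subtype.ext ha⟩
        rw [Submodule.mem_comap]
        change algebraMap O K a ∈ _
        rw [ha]
        exact hu⟩

theorem noZeroSMulDivisors_submodule (P : Submodule O K) : NoZeroSMulDivisors O P := by
  refine ⟨fun {c x} h => ?_⟩
  by_cases hc : c = 0
  · exact Or.inl hc
  · refine Or.inr (Subtype.ext ?_)
    have h1 : c • (x : K) = 0 := congrArg Subtype.val h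
    rw [Algebra.smul_def, mul_eq_zero] at h1
    refine h1.resolve_left (fun h2 => hc ?_)
    exact IsFractionRing.injective O K (by rw [h2, map_zero])

theorem main [LocCoh.IsGorensteinLocalRing O] (hdim : ringKrullDim O = 1)
    (hfin : Module.Finite O ↥(integralClosure O K)) (M : Subalgebra O K)
    (hM : M ≤ integralClosure O K) :
    Nonempty (Abelian.Ext.{u} (ModuleCat.of O ↥M) (ModuleCat.of O ↥M) 1 ≃ₗ[O]
      (↥((1 : Submodule O K) / Subalgebra.toSubmodule M) →ₗ[O]
        (O ⧸ Submodule.comap (Algebra.linearMap O K)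
          ((1 : Submodule O K) / Subalgebra.toSubmodule M)))) := by
  have hMfin : Module.Finite O M :=
    Module.Finite.of_injective (Submodule.inclusion (p := Subalgebra.toSubmodule M)
      (p' := Subalgebra.toSubmodule (integralClosure O K)) hM) (Submodule.inclusion_injective _)
  set I : Submodule O K := (1 : Submodule O K) / Subalgebra.toSubmodule M with hI
  set J : Ideal O := Submodule.comap (Algebra.linearMap O K) I with hJ
  have eJ : J ≃ₗ[O] I := idealEquiv M
  have hIfin : Module.Finite O I := Module.Finite.equiv eJ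
  have h1 : (1 : K) ∈ Subalgebra.toSubmodule M := M.one_mem
  have eI : (M →ₗ[O] O) ≃ₗ[O] I := homEquiv (Subalgebra.toSubmodule M) h1
  have hM0 : NoZeroSMulDivisors O M := noZeroSMulDivisors_submodule (Subalgebra.toSubmodule M)
  have hI0 : NoZeroSMulDivisors O I := noZeroSMulDivisors_submodule I
  have hMext := GorDim1.ext_one_subsingleton O hdim M
  have hIext := GorDim1.ext_one_subsingleton O hdim I
  -- `I^* = M`
  have eM : M ≃ₗ[O] (I →ₗ[O] O) :=
    (LinearEquiv.ofBijective _ (GorDim1.eval_bijective O hdim M)).trans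
      (LinearEquiv.congrLeft O O eI)
  obtain ⟨e2⟩ := ExtOne.extOneDual hMext hIext
  have hex : Function.Exact J.subtype J.mkQ := by
    rw [LinearMap.exact_iff, Submodule.ker_mkQ, Submodule.range_subtype]
  have e4 := ExtOne.extOneEquivCov (N := I) J.subtype J.mkQ Subtype.val_injective
    (Submodule.mkQ_surjective J) hex hIext
  have hbot : LinearMap.range (LinearMap.compRight (M := I) O J.mkQ) = ⊥ := by
    rw [LinearMap.range_eq_bot]
    ext φ u
    change Submodule.Quotient.mk (φ u) = (0 : O ⧸ J)
    rw [Submodule.Quotient.mk_eq_zero]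
    exact apply_mem M φ u
  exact ⟨(ExtOne.extCongrRight eM 1).trans (e2.trans ((ExtOne.extCongrRight eI 1).trans
    ((ExtOne.extCongrRight eJ.symm 1).trans (e4.symm.trans (Submodule.quotEquivOfEqBot _ hbot)))))⟩

end Main

end K840.Overring
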