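import Groth.Agent.TFCurv.K840.GorDim1
import Groth.Agent.TFCurv.K840.GenPos
import Groth.Agent.TFCurv.K840.Overring
import Groth.Agent.CycA.FinExtDomain
import Mathlib.FieldTheory.IsAlgClosed.Basic
import Mathlib.RingTheory.Ideal.Colon
import Mathlib.RingTheory.TensorProduct.IsBaseChangeHom
import Mathlib.RingTheory.Localization.Module
import Mathlib.LinearAlgebra.FreeModule.PID
import Mathlib.LinearAlgebra.Dimension.OrzechProperty

/-!
# Torsion-free modules between `C^n` and `O^n`
-/

set_option autoImplicit false
set_option linter.unusedSectionVars false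
universe u

open IsLocalRing

namespace K840.Between

section Residue

/-- Residue fields of an integral extension of a local ring with algebraically closed residue
field. -/
theorem exists_sub_mem {O D : Type u} [CommRing O] [IsLocalRing O] [IsAlgClosed (ResidueField O)]
    [CommRing D] [Algebra O D] [Algebra.IsIntegral O D] (I : Ideal D) (hI : I.IsMaximal) (d : D) :
    ∃ a : O, d - algebraMap O D a ∈ I := by
  have h1 : (I.comap (algebraMap O D)).IsMaximal :=
    Ideal.isMaximal_comap_of_isIntegral_of_isMaximal I
  have h2 : I.comap (algebraMap O D) = maximalIdeal O := eq_maximalIdeal h1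
  let := Ideal.Quotient.field I
  let f : ResidueField O →+* D ⧸ I := Ideal.Quotient.lift (maximalIdeal O)
    ((Ideal.Quotient.mk I).comp (algebraMap O D)) (by
      intro a ha
      rw [RingHom.comp_apply, Ideal.Quotient.eq_zero_iff_mem]
      rw [← h2] at ha
      exact ha)
  let : Algebra (ResidueField O) (D ⧸ I) := f.toAlgebra
  have h3 : IsScalarTower O (ResidueField O) (D ⧸ I) := IsScalarTower.of_algebraMap_eq fun x => rfl
  have h4 : Algebra.IsIntegral O (D ⧸ I) := inferInstance
  have h5 : Algebra.IsIntegral (ResidueField O) (D ⧸ I) := Algebra.IsIntegral.tower_top O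
  have h6 := IsAlgClosed.algebraMap_bijective_of_isIntegral (k := ResidueField O) (K := D ⧸ I)
  obtain ⟨y, hy⟩ := h6.2 (Ideal.Quotient.mk I d)
  obtain ⟨a, rfl⟩ := residue_surjective y
  refine ⟨a, ?_⟩
  rw [← Ideal.Quotient.eq, ← hy]
  rfl

end Residue

section Generic

variable {D : Type u} [CommRing D] [IsDomain D] {K : Type u} [Field K] [Algebra D K]
  [IsFractionRing D K] {V : Type u} [AddCommGroup V] [Module D V] [Module K V]
  [IsScalarTower D K V] (L : Submodule D V) {ι : Type*} (b : Module.Basis ι D L)

theorem basis_li : LinearIndependent K (fun i => ((b i : L) : V)) := by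
  rw [← LinearIndependent.iff_fractionRing D K]
  exact b.linearIndependent.map' L.subtype (Submodule.ker_subtype _)

theorem basis_span [Fintype ι] (hL : Submodule.span K (L : Set V) = ⊤) :
    Submodule.span K (Set.range (fun i => ((b i : L) : V))) = ⊤ := by
  rw [eq_top_iff, ← hL, Submodule.span_le]
  intro x hx
  have h1 := b.sum_repr ⟨x, hx⟩
  have h2 := congrArg Subtype.val h1
  change _ = x at h2
  rw [← h2, Submodule.coe_sum]
  refine Submodule.sum_mem _ fun i _ => ?_
  rw [Submodule.coe_smul, ← algebraMap_smul K]
  exact Submodule.smul_mem _ _ (Submodule.subset_span ⟨i, rfl⟩)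

theorem finrank_lattice [Module.Finite D L] [Module.Free D L]
    (hL : Submodule.span K (L : Set V) = ⊤) : Module.finrank D L = Module.finrank K V := by
  have h1 := Module.finrank_eq_card_basis
    (Module.Basis.mk (basis_li (K := K) L (Module.finBasis D L))
      (basis_span (K := K) L (Module.finBasis D L) hL).ge)
  rw [Fintype.card_fin] at h1
  exact h1.symm

end Generic

section Main

variable (O : Type u) [CommRing O] [IsDomain O] (K : Type u) [Field K] [Algebra O K]
  [IsFractionRing O K] (M : Type u) [AddCommGroup M] [Module O M] [Module.Finite O M]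

/-- The inclusion of `Hom(M, O)` in `Hom(M, K)`. -/
noncomputable def incl : (M →ₗ[O] O) →ₗ[O] (M →ₗ[O] K) :=
  LinearMap.compRight O (Algebra.linearMap O K)

theorem incl_apply (f : M →ₗ[O] O) (m : M) : incl O K M f m = algebraMap O K (f m) := rfl

theorem incl_injective : Function.Injective (incl O K M) := by
  intro f g h
  ext m
  exact IsFractionRing.injective O K (LinearMap.congr_fun h m)

theorem span_incl : Submodule.span K (Set.range (incl O K M)) = ⊤ := by
  rw [eq_top_iff]
  intro f _
  obtain ⟨s, hs⟩ := Module.Finite.fg_top (R := O) (M := M)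
  classical
  obtain ⟨b, hb⟩ := IsLocalization.exist_integer_multiples_of_finset (nonZeroDivisors O)
    (s.image f)
  have hb0 : algebraMap O K b ≠ 0 := IsFractionRing.to_map_ne_zero_of_mem_nonZeroDivisors b.2
  have h1 : ∀ m : M, ∃ a : O, algebraMap O K a = algebraMap O K b * f m := by
    intro m
    have hm : m ∈ Submodule.span O (s : Set M) := hs ▸ Submodule.mem_top
    induction hm using Submodule.span_induction with
    | mem x hx =>
      obtain ⟨a, ha⟩ := hb (f x) (Finset.mem_image_of_mem f hx)
      exact ⟨a, by rw [ha, Algebra.smul_def]⟩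
    | zero => exact ⟨0, by simp⟩
    | add x y _ _ hx hy =>
      obtain ⟨a, ha⟩ := hx
      obtain ⟨c, hc⟩ := hy
      exact ⟨a + c, by rw [map_add, ha, hc, map_add, mul_add]⟩
    | smul c x _ hx =>
      obtain ⟨a, ha⟩ := hx
      refine ⟨c * a, ?_⟩
      rw [map_mul, ha, map_smul, Algebra.smul_def]
      ring
  choose g hg using h1
  let g' : M →ₗ[O] O :=
    { toFun := g
      map_add' := fun x y => IsFractionRing.injective O K (by
        rw [map_add, hg, hg, hg, map_add, mul_add])
      map_smul' := fun c x => IsFractionRing.injective O K (by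
        rw [RingHom.id_apply, smul_eq_mul, map_mul, hg, hg, map_smul, Algebra.smul_def]
        ring) }
  have h2 : f = (algebraMap O K b)⁻¹ • incl O K M g' := by
    ext m
    rw [LinearMap.smul_apply, incl_apply]
    change f m = (algebraMap O K b)⁻¹ • algebraMap O K (g m)
    rw [hg, smul_eq_mul, inv_mul_cancel_left₀ hb0]
  rw [h2]
  exact Submodule.smul_mem _ _ (Submodule.subset_span ⟨g', rfl⟩)

theorem finrank_hom : Module.finrank K (M →ₗ[O] K) = Module.finrank K (TensorProduct O K M) := by
  rw [(LinearMap.liftBaseChangeEquiv (R := O) (M := M) (N := K) K).finrank_eq]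
  exact Subspace.dual_finrank_eq

instance finite_hom : Module.Finite K (M →ₗ[O] K) :=
  Module.Finite.equiv (LinearMap.liftBaseChangeEquiv (R := O) (M := M) (N := K) K).symm

section Lattice

variable (D : Type u) [CommRing D] [IsDomain D] [IsPrincipalIdealRing D] [Algebra O D]
  [Algebra D K] [IsScalarTower O D K] [IsFractionRing D K] [IsNoetherianRing O]

/-- The `D`-lattice generated by `Hom(M, O)` in `Hom(M, K)`. -/
noncomputable def lat : Submodule D (M →ₗ[O] K) := Submodule.span D (Set.range (incl O K M))

omit [IsDomain D] [IsPrincipalIdealRing D] [IsFractionRing D K] in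
theorem lat_fg : (lat O K M D).FG := by
  have h0 : (LinearMap.range (incl O K M)).FG := Module.Finite.iff_fg.1 (Module.Finite.range _)
  obtain ⟨s, hs⟩ := h0
  refine ⟨s, ?_⟩
  rw [lat, ← Submodule.span_span_of_tower O D (s : Set (M →ₗ[O] K)), hs]
  rfl

instance lat_finite : Module.Finite D (lat O K M D) := Module.Finite.iff_fg.2 (lat_fg O K M D)

instance hom_torsionFree : Module.IsTorsionFree D (M →ₗ[O] K) :=
  Module.IsTorsionFree.trans_faithfulSMul D K (M →ₗ[O] K)

instance lat_torsionFree : Module.IsTorsionFree D (lat O K M D) :=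
  (Submodule.subtype_injective (lat O K M D)).moduleIsTorsionFree _ (fun _ _ => rfl)

instance lat_free : Module.Free D (lat O K M D) := by
  have := Module.free_of_finite_type_torsion_free' (R := D) (M := lat O K M D)
  exact this

theorem lat_rank : Module.finrank D (lat O K M D) = Module.finrank K (TensorProduct O K M) := by
  rw [← finrank_hom]
  apply finrank_lattice
  rw [eq_top_iff, ← span_incl O K M]
  exact Submodule.span_mono Submodule.subset_span

/-- Choice of elements in general position. -/
theorem exists_good [IsLocalRing O] [IsAlgClosed (ResidueField O)]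
    (hmax : {I : Ideal D | I.IsMaximal}.Finite)
    (hsurj : ∀ I : Ideal D, I.IsMaximal → ∀ d : D, ∃ a : O, d - algebraMap O D a ∈ I)
    (n : ℕ) (hn : Module.finrank K (TensorProduct O K M) = n) :
    ∃ e : Fin n → (M →ₗ[O] O), ∀ f : M →ₗ[O] O, ∃ c : Fin n → D,
      incl O K M f = ∑ i, (c i) • incl O K M (e i) := by
  have hrank : Module.finrank D (lat O K M D) = n := (lat_rank O K M D).trans hn
  let b : Module.Basis (Fin n) D (lat O K M D) := Module.finBasisOfFinrankEq D _ hrank
  let ι : (M →ₗ[O] O) →ₗ[O] lat O K M D :=
    { toFun := fun f => ⟨incl O K M f, Submodule.subset_span ⟨f, rfl⟩⟩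
      map_add' := fun f g => Subtype.ext (map_add _ f g)
      map_smul' := fun c f => Subtype.ext (map_smul _ c f) }
  have hι : Submodule.span D (Set.range ι) = ⊤ := by
    apply Submodule.map_injective_of_injective (Submodule.subtype_injective (lat O K M D))
    rw [Submodule.map_span, Submodule.map_subtype_top]
    have h2 : (lat O K M D).subtype '' Set.range ι = Set.range (incl O K M) := by
      ext y
      constructor
      · rintro ⟨_, ⟨f, rfl⟩, rfl⟩
        exact ⟨f, rfl⟩
      · rintro ⟨f, rfl⟩
        exact ⟨_, ⟨f, rfl⟩, rfl⟩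
    rw [h2]
    rfl
  let g : (M →ₗ[O] O) →ₗ[O] (Fin n → D) := (b.equivFun.toLinearMap.restrictScalars O).comp ι
  have hg : Submodule.span D (Set.range g) = ⊤ := by
    have h2 : Set.range g = b.equivFun.toLinearMap '' Set.range ι := by
      rw [← Set.range_comp]
      rfl
    rw [h2, ← Submodule.map_span, hι, Submodule.map_top]
    exact LinearEquiv.range _
  have hinf : Infinite (ResidueField O) := IsAlgClosed.instInfinite
  obtain ⟨e, he⟩ := GenPos.exists_det g hmax hsurj hg
  refine ⟨e, fun f => ?_⟩
  obtain ⟨c, hc⟩ := GenPos.exists_coords g he (g f)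
  refine ⟨c, ?_⟩
  have h3 : b.equivFun (ι f) = b.equivFun (∑ i, c i • ι (e i)) := by
    rw [map_sum]
    simp only [map_smul]
    exact hc
  have h4 := b.equivFun.injective h3
  have h5 := congrArg Subtype.val h4
  rw [Submodule.coe_sum] at h5
  exact h5

end Lattice

theorem main [LocCoh.IsGorensteinLocalRing O] (hdim : ringKrullDim O = 1)
    [IsAlgClosed (ResidueField O)] (hfin : Module.Finite O ↥(integralClosure O K))
    [NoZeroSMulDivisors O M] (n : ℕ) (hn : Module.finrank K (TensorProduct O K M) = n) :
    ∃ M'' : Submodule O (Fin n → K),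
      Submodule.pi Set.univ (fun _ : Fin n => (((1 : Submodule O K).colon
        (Subalgebra.toSubmodule (integralClosure O K))) • (1 : Submodule O K))) ≤ M'' ∧
      M'' ≤ Submodule.pi Set.univ (fun _ : Fin n => (1 : Submodule O K)) ∧
      Nonempty (M ≃ₗ[O] ↥M'') := by
  have hPID : IsPrincipalIdealRing ↥(integralClosure O K) :=
    Groth.Agent.CycA.FinExtDomain.isPrincipalIdealRing_integralClosure O K K hdim
  have hmax : {I : Ideal ↥(integralClosure O K) | I.IsMaximal}.Finite :=
    Groth.Agent.CycA.FinExtDomain.finite_isMaximal O K K hdim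
  have hfrac : IsFractionRing ↥(integralClosure O K) K :=
    integralClosure.isFractionRing_of_finite_extension K K
  obtain ⟨e, he⟩ := exists_good O K M ↥(integralClosure O K) hmax exists_sub_mem n hn
  -- the functionals form a basis
  have hspan : ⊤ ≤ Submodule.span K (Set.range fun i => incl O K M (e i)) := by
    rw [← span_incl O K M, Submodule.span_le]
    rintro _ ⟨f, rfl⟩
    obtain ⟨c, hc⟩ := he f
    rw [hc]
    refine Submodule.sum_mem _ fun i _ => ?_
    rw [← algebraMap_smul K]
    exact Submodule.smul_mem _ _ (Submodule.subset_span ⟨i, rfl⟩)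
  let β : Module.Basis (Fin n) K (M →ₗ[O] K) :=
    Module.Basis.mk (v := fun i => incl O K M (e i))
      (linearIndependent_of_top_le_span_of_card_eq_finrank hspan (by
        rw [finrank_hom, hn, Fintype.card_fin])) hspan
  have hβ : ∀ i, β i = incl O K M (e i) := fun i => by
    rw [Module.Basis.mk_apply]
  let Φ : M →ₗ[O] (Fin n → K) := LinearMap.pi (fun i => incl O K M (e i))
  have hΦ : Function.Injective Φ := by
    rw [injective_iff_map_eq_zero]
    intro m hm
    have h1 : ∀ i, incl O K M (e i) m = 0 := fun i => congrFun hm i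
    apply GorDim1.eval_injective O M
    rw [map_zero]
    ext f
    apply IsFractionRing.injective O K
    change incl O K M f m = _
    obtain ⟨c, hc⟩ := he f
    rw [hc, LinearMap.sum_apply]
    simp only [LinearMap.smul_apply, h1, smul_zero, Finset.sum_const_zero, LinearMap.zero_apply,
      map_zero]
  refine ⟨LinearMap.range Φ, ?_, ?_, ⟨LinearEquiv.ofInjective Φ hΦ⟩⟩
  · intro c hc
    have hc' : ∀ i, ∀ d : ↥(integralClosure O K), ∃ a : O, algebraMap O K a = (d : K) * c i := by
      intro i d
      have h1 : c i ∈ ((1 : Submodule O K).colon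
        (Subalgebra.toSubmodule (integralClosure O K))) • (1 : Submodule O K) := hc i trivial
      generalize c i = z' at h1
      induction h1 using Submodule.smul_induction_on' with
      | smul r hr x hx =>
        rw [Submodule.mem_colon] at hr
        obtain ⟨y, rfl⟩ := Submodule.mem_one.1 hx
        obtain ⟨z, hz⟩ := Submodule.mem_one.1 (hr d d.2)
        refine ⟨y * z, ?_⟩
        rw [map_mul, hz, Algebra.smul_def, Algebra.smul_def]
        ring
      | add x _ y _ hx hy =>
        obtain ⟨a, ha⟩ := hx
        obtain ⟨b, hb⟩ := hy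
        exact ⟨a + b, by rw [map_add, ha, hb, mul_add]⟩
    let G : (M →ₗ[O] K) →ₗ[K] K := β.constr K c
    have hG : ∀ i, G (incl O K M (e i)) = c i := fun i => by
      rw [← hβ i]
      exact β.constr_basis K c i
    have hGf : ∀ f : M →ₗ[O] O, ∃ a : O, algebraMap O K a = G (incl O K M f) := by
      intro f
      obtain ⟨d, hd⟩ := he f
      choose a ha using fun i => hc' i (d i)
      refine ⟨∑ i, a i, ?_⟩
      rw [hd, map_sum, map_sum]
      refine Finset.sum_congr rfl fun i _ => ?_
      rw [← algebraMap_smul K (d i), map_smul, hG, ha]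
      rfl
    choose φ hφ using hGf
    let φ' : (M →ₗ[O] O) →ₗ[O] O :=
      { toFun := φ
        map_add' := fun x y => IsFractionRing.injective O K (by
          rw [map_add, hφ, hφ, hφ, map_add, map_add])
        map_smul' := fun a x => IsFractionRing.injective O K (by
          rw [RingHom.id_apply, smul_eq_mul, map_mul, hφ, hφ, map_smul, ← algebraMap_smul K a,
            map_smul, smul_eq_mul]) }
    obtain ⟨m, hm⟩ := (GorDim1.eval_bijective O hdim M).2 φ'
    refine ⟨m, ?_⟩
    funext i
    change incl O K M (e i) m = c i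
    rw [← hG i, ← hφ (e i), incl_apply]
    congr 1
    exact LinearMap.congr_fun hm (e i)
  · rintro _ ⟨m, rfl⟩ i _
    exact Submodule.mem_one.2 ⟨e i m, rfl⟩

end Main

end K840.Between
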