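import Groth.Agent.TFCurv.K840.NormMod
import Groth.Agent.Models.K381.DedFlat
import Groth.Agent.Fga.IntAdd
import Groth.Agent.Sga67.ClosedPush

/-!
# Coherent modules locally isomorphic to powers of the normalized local rings are direct images
-/

set_option autoImplicit false
universe u

open CategoryTheory CategoryTheory.Limits AlgebraicGeometry TopologicalSpace Opposite

namespace K840.NormRows

open Groth.Agent.Fdesc.PullbackStalk Groth.Agent.CycB.StalkExact K840.BirPush

section Alg

/-- Finrank over a ring is invariant under semilinear equivalences. -/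
theorem finrank_eq {R R' : Type u} [CommRing R] [CommRing R'] {M M' : Type u} [AddCommGroup M]
    [AddCommGroup M'] [Module R M] [Module R' M'] (i : R → R') (j : M ≃+ M')
    (hi : Function.Bijective i) (hc : ∀ (r : R) (m : M), j (r • m) = i r • j m) :
    Module.finrank R M = Module.finrank R' M' := by
  unfold Module.finrank
  rw [rank_eq_of_equiv_equiv i j hi hc]

theorem finrank_pi_integralClosure {A K : Type u} [CommRing A] [IsDomain A] [Field K] [Algebra A K]
    [IsFractionRing A K] (hA : IsField A) (n : ℕ) :
    Module.finrank A (Fin n → integralClosure A K) = n := by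
  have h1 : Function.Bijective (algebraMap A K) :=
    IsField.localization_map_bijective (M := nonZeroDivisors A) zero_notMem_nonZeroDivisors hA
  have h2 : Function.Bijective (algebraMap A (integralClosure A K)) := by
    constructor
    · intro a b hab
      exact h1.1 (congrArg Subtype.val hab)
    · rintro ⟨z, hz⟩
      obtain ⟨a, rfl⟩ := h1.2 z
      exact ⟨a, Subtype.ext rfl⟩
  let l : A ≃ₗ[A] integralClosure A K :=
    LinearEquiv.ofBijective (Algebra.linearMap A (integralClosure A K)) h2
  rw [← (LinearEquiv.piCongrRight fun _ : Fin n => l).finrank_eq, Module.finrank_fin_fun]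

theorem isTorsionFree_pi {A K : Type u} [CommRing A] [IsDomain A] [Field K] [Algebra A K]
    [IsFractionRing A K] (n : ℕ) : Module.IsTorsionFree A (Fin n → integralClosure A K) := by
  refine Module.IsTorsionFree.of_smul_eq_zero ?_
  intro a m h
  by_cases ha : a = 0
  · exact Or.inl ha
  · refine Or.inr (funext fun i => Subtype.ext ?_)
    have h1 : algebraMap A K a * (m i : K) = 0 := by
      have h2 := congrArg (fun z : Fin n → integralClosure A K => (z i : K)) h
      simp only [Pi.smul_apply, Pi.zero_apply] at h2
      rw [← Algebra.smul_def]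
      exact h2
    exact (mul_eq_zero.1 h1).resolve_left fun h0 =>
      ha ((map_eq_zero_iff _ (IsFractionRing.injective A K)).1 h0)

end Alg

variable (k : Type u) [Field k] (X : Scheme.{u}) [X.Over (Spec (CommRingCat.of k))] [IsIntegral X]
    [IsProper (X ↘ Spec (CommRingCat.of k))]
    [QuasiCompact (X.fromSpecStalk (genericPoint X))] [QuasiSeparated (X.fromSpecStalk (genericPoint X))]

include k in
theorem isNoetherian_norm : IsNoetherian (Curv2.normalization X) := by
  have hfin := NormBir.isFinite X k
  let : (Curv2.normalization X).Over (Spec (CommRingCat.of k)) :=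
    ⟨Curv2.normalizationι X ≫ X ↘ Spec (CommRingCat.of k)⟩
  have : IsProper ((Curv2.normalization X) ↘ Spec (CommRingCat.of k)) :=
    inferInstanceAs (IsProper (Curv2.normalizationι X ≫ X ↘ Spec (CommRingCat.of k)))
  exact Groth.Agent.Fga.IntAdd.isNoetherian k (Curv2.normalization X)

include k in
theorem pid_norm (hdim : topologicalKrullDim X ≤ 1) (y : Curv2.normalization X) :
    IsPrincipalIdealRing ((Curv2.normalization X).presheaf.stalk y) := by
  have hfin := NormBir.isFinite X k
  have hLN : IsLocallyNoetherian X :=
    LocallyOfFiniteType.isLocallyNoetherian (X ↘ (Spec (CommRingCat.of k)))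
  have := NormBir.isIntegral_norm X
  have hd : topologicalKrullDim (Curv2.normalization X) ≤ 1 := by
    refine le_trans ?_ hdim
    refine Groth.Agent.Desc.DimMap.topologicalKrullDim_le_of_fibres (Curv2.normalizationι X)
      (Curv2.normalizationι X).continuous fun x y hxy h => ?_
    have h1 := (Curv2.normalizationι X).isDiscrete_preimage_singleton (Curv2.normalizationι X x)
    have := h1.to_subtype
    have h2 : (⟨x, rfl⟩ : (Curv2.normalizationι X ⁻¹' {Curv2.normalizationι X x} : Set _)) ⤳
        ⟨y, h.symm⟩ := Topology.IsInducing.subtypeVal.specializes_iff.1 hxy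
    exact congrArg Subtype.val (specializes_iff_eq.1 h2)
  exact K381.DedFlat.isPrincipalIdealRing_stalk
    (fun s => K373.NormFin.isRegular_of_dim_le_one X hfin hdim s) hd y

include k in
theorem exists_of_stalks (hdim : topologicalKrullDim X ≤ 1) (n : ℕ) {F : X.Modules}
    (hF : Coh.IsCoh F) (he : ∀ x : X, Nonempty (F.presheaf.stalk x ≃ₗ[X.presheaf.stalk x]
      (Fin n → integralClosure (X.presheaf.stalk x) X.functionField))) :
    ∃ E : (Curv2.normalization X).Modules, FlatMod.IsFinLocFreeOfRank n E ∧
      Nonempty ((Scheme.Modules.pushforward (Curv2.normalizationι X)).obj E ≅ F) := by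
  have hfin := NormBir.isFinite X k
  have hint := NormBir.isIntegral_norm X
  have hB := NormBir.bir X
  have hN := isNoetherian_norm k X
  let ν := Curv2.normalizationι X
  let adj := Scheme.Modules.pullbackPushforwardAdjunction ν
  have htF : TorSh.IsTorsionFree F := by
    intro x
    obtain ⟨e⟩ := he x
    have := isTorsionFree_pi (A := X.presheaf.stalk x) (K := X.functionField) n
    exact e.injective.moduleIsTorsionFree e (fun r m => map_smul e r m)
  obtain ⟨T, Q, i, p, w, hS, hT, hQc, hTη, hQt⟩ :=
    K707.Base.exists_torsion (Groth.Agent.FormalA.PullbackQC.isCoh_pullback ν F hF)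
  have hp : Epi p := hS.epi_g
  have hpinj : Function.Injective (stalkLin p (genericPoint (Curv2.normalization X))) := by
    rw [injective_iff_map_eq_zero]
    intro t ht
    obtain ⟨z, hz⟩ := (stalkLin_exact _ hS.exact (genericPoint (Curv2.normalization X)) t).1 ht
    rw [← hz, Subsingleton.elim z 0, map_zero]
  let m : F ⟶ (Scheme.Modules.pushforward ν).obj Q := adj.homEquiv F Q p
  have hdom : IsDominant ν := by
    refine ⟨fun x => ?_⟩
    have h1 : genericPoint X ∈ Set.range ν.base := ⟨_, hB.gen⟩
    have h2 : closure ({genericPoint X} : Set X) ⊆ closure (Set.range ν.base) :=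
      closure_mono (Set.singleton_subset_iff.2 h1)
    exact h2 ((genericPoint_specializes x).mem_closure)
  have htQ : TorSh.IsTorsionFree ((Scheme.Modules.pushforward ν).obj Q) :=
    @Groth.Agent.S2288.result _ _ _ _ ν hdom Q hQc.1 hQt
  have hmt : ∀ t : F.presheaf.stalk (ν.base (genericPoint (Curv2.normalization X))),
      pushAdd ν Q _ (stalkLin m _ t) = stalkLin p (genericPoint (Curv2.normalization X))
        (canAdd ν F _ t) := by
    intro t
    refine (Groth.Agent.Sga67.PreLift.stalkMap_trans_canAdd ν m _ t).symm.trans ?_
    refine congrArg (fun φ => stalkLin φ (genericPoint (Curv2.normalization X)) (canAdd ν F _ t)) ?_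
    exact (adj.homEquiv_counit _ _ _).symm.trans (Equiv.symm_apply_apply _ _)
  have hminj : Function.Injective (stalkLin m (genericPoint X)) := by
    rw [← hB.gen]
    have h1 : Function.Injective (fun t => pushAdd ν Q _ (stalkLin m
        (ν.base (genericPoint (Curv2.normalization X))) t)) := by
      have h2 : (fun t => pushAdd ν Q _ (stalkLin m
        (ν.base (genericPoint (Curv2.normalization X))) t)) = (stalkLin p
          (genericPoint (Curv2.normalization X))) ∘ (canAdd ν F _) := funext hmt
      rw [h2]
      exact hpinj.comp (canAdd_bijective hB.stalk F).1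
    exact Function.Injective.of_comp h1
  have hmono : Mono m := K848.TF.mono_of_generic hF.1 htF m hminj
  have hsurj : ∀ x : X, Function.Surjective (stalkLin m x) := fun x =>
    NormMod.surjective_stalk X hF.1 n x (he x).some hQc.1 p htQ
  have hepi : Epi m := Groth.Agent.Sga67.ClosedPush.epi_of_stalkMap_surjective m hsurj
  have hiso : IsIso m := isIso_of_mono_of_epi m
  refine ⟨Q, ?_, ⟨(asIso m).symm⟩⟩
  have hrk : Groth.Agent.VarietyA.DegRank.rk Q = n := by
    have h1 : Function.Bijective (fun t => pushAdd ν Q _ (stalkLin m
        (ν.base (genericPoint (Curv2.normalization X))) t)) :=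
      (pushAdd_bijective hB.nbhd Q).comp ⟨stalkLin_injective m _, hsurj _⟩
    let j : F.presheaf.stalk (ν.base (genericPoint (Curv2.normalization X))) ≃+
        Q.presheaf.stalk (genericPoint (Curv2.normalization X)) :=
      AddEquiv.ofBijective ((pushAdd ν Q (genericPoint (Curv2.normalization X))).comp
        (stalkLin m (ν.base (genericPoint (Curv2.normalization X)))).toAddMonoidHom) h1
    have h2 := finrank_eq (ν.stalkMap (genericPoint (Curv2.normalization X))).hom j hB.stalk
      (fun r t => by
        change pushAdd ν Q _ (stalkLin m _ (r • t)) = _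
        rw [map_smul]
        exact pushAdd_smul ν Q _ r _)
    refine h2.symm.trans ?_
    have h3 : ∀ x : X, x = genericPoint X →
        Module.finrank (X.presheaf.stalk x) (F.presheaf.stalk x) = n := by
      intro x hx
      have hfd : IsField (X.presheaf.stalk x) := by
        subst hx
        exact Field.toIsField X.functionField
      obtain ⟨e⟩ := he x
      rw [e.finrank_eq]
      exact finrank_pi_integralClosure hfd n
    exact h3 _ hB.gen
  rw [← hrk]
  exact K707.Base.isFinLocFreeOfRank_of_torsionFree (pid_norm k X hdim) hQc hQt

include k in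
theorem iso_of_push_iso (n : ℕ) {E E' : (Curv2.normalization X).Modules}
    (hE : FlatMod.IsFinLocFreeOfRank n E) (hE' : FlatMod.IsFinLocFreeOfRank n E')
    (φ : (Scheme.Modules.pushforward (Curv2.normalizationι X)).obj E ≅
      (Scheme.Modules.pushforward (Curv2.normalizationι X)).obj E') : Nonempty (E ≅ E') := by
  have hfin := NormBir.isFinite X k
  have hint := NormBir.isIntegral_norm X
  have hB := NormBir.bir X
  exact NormMod.iso_of_push hB (K707.Base.isCoh_of_rank hE).1
    (K707.Base.isTorsionFree_of_isFinLocFree (K707.Base.isFinLocFree_of_rank hE))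
    (K707.Base.isCoh_of_rank hE').1
    (K707.Base.isTorsionFree_of_isFinLocFree (K707.Base.isFinLocFree_of_rank hE')) φ

end K840.NormRows
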