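import Groth.Agent.TFCurv.K840.ExtOne
import Groth.Agent.TFCurv.K840.LenK

/-!
# `Ext¹` computed by an injective evaluation map on `Hom(K, N)`
-/

set_option autoImplicit false
universe u

open CategoryTheory CategoryTheory.Abelian

namespace K840.ExtEval

variable {A : Type u} [CommRing A] {F M N W : Type u} [AddCommGroup F] [Module A F]
  [Module.Projective A F] [AddCommGroup M] [Module A M] [AddCommGroup N] [Module A N]
  [AddCommGroup W] [Module A W] (p : F →ₗ[A] M) (hp : Function.Surjective p)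
  (Θ : (LinearMap.ker p →ₗ[A] N) →ₗ[A] W) (hΘ : Function.Injective Θ) (H J : Submodule A W)
  (hH : ∀ w : W, w ∈ H ↔ ∃ φ, Θ φ = w)
  (hJ : ∀ w : W, w ∈ J ↔ ∃ ψ : F →ₗ[A] N, Θ (ψ.comp (LinearMap.ker p).subtype) = w)

include hp hΘ hH hJ in
theorem ext_equiv : Nonempty (Ext.{u} (ModuleCat.of A M) (ModuleCat.of A N) 1 ≃ₗ[A]
    (H ⧸ J.submoduleOf H)) := by
  have hex : Function.Exact (LinearMap.ker p).subtype p := by
    rw [LinearMap.exact_iff]
    exact (Submodule.range_subtype _).symm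
  have e1 := ExtOne.extOneEquiv (K := ↥(LinearMap.ker p)) (N := N) _ _
    (Submodule.subtype_injective _) hp hex (ExtOne.subsingleton_ext_of_projective 0)
  let Φ : (LinearMap.ker p →ₗ[A] N) →ₗ[A] H :=
    LinearMap.codRestrict H Θ (fun φ => (hH _).2 ⟨φ, rfl⟩)
  have hΦ : Function.Bijective Φ := by
    constructor
    · intro φ ψ h
      exact hΘ (congrArg Subtype.val h)
    · rintro ⟨w, hw⟩
      obtain ⟨φ, hφ⟩ := (hH w).1 hw
      exact ⟨φ, Subtype.ext hφ⟩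
  let e2 := LinearEquiv.ofBijective Φ hΦ
  refine ⟨e1.symm.trans (Submodule.Quotient.equiv _ _ e2 ?_)⟩
  ext w
  constructor
  · rintro ⟨_, ⟨ψ, rfl⟩, rfl⟩
    change Θ _ ∈ J
    rw [hJ]
    exact ⟨ψ, rfl⟩
  · intro hw
    obtain ⟨ψ, h⟩ := (hJ w).1 hw
    exact ⟨_, ⟨ψ, rfl⟩, Subtype.ext h⟩

include hp hΘ hH hJ in
theorem length_ext {k : Type u} [Field k] [Algebra k A] [Module k W] [IsScalarTower k A W]
    (m : Ideal A) (hm : ∀ r : A, ∃ c : k, r - algebraMap k A c ∈ m) (n : ℕ)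
    (hn : ∀ r ∈ m ^ n, ∀ q ∈ H, r • q ∈ J) {S : Type*} [Fintype S] (ψ : W →ₗ[k] (S → k))
    (hker : ∀ x ∈ H, ψ x = 0 ↔ x ∈ J) (hsurj : ∀ c : S → k, ∃ x ∈ H, ψ x = c) :
    Module.length A (Ext.{u} (ModuleCat.of A M) (ModuleCat.of A N) 1) = Fintype.card S := by
  obtain ⟨e⟩ := ext_equiv p hp Θ hΘ H J hH hJ
  rw [e.length_eq]
  exact LenK.length_quotient' m hm H J n hn ψ hker hsurj

end K840.ExtEval
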