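import Mathlib.RingTheory.PowerSeries.Order
import Mathlib.RingTheory.PowerSeries.Basic
import Mathlib.RingTheory.Ideal.Operations
import Mathlib.RingTheory.Ideal.Maps

/-!
# The augmentation ideal of a subalgebra of `k⟦X⟧`
-/

set_option autoImplicit false
universe u

open PowerSeries

namespace K840.Mx

variable {k : Type u} [Field k] (A : Subalgebra k k⟦X⟧)

/-- The augmentation ideal. -/
noncomputable def mx : Ideal A := RingHom.ker ((constantCoeff (R := k)).comp A.val.toRingHom)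

theorem mem_mx (r : A) : r ∈ mx A ↔ constantCoeff (r : k⟦X⟧) = 0 := by
  rw [mx, RingHom.mem_ker]
  rfl

theorem mx_spec (r : A) : ∃ c : k, r - algebraMap k A c ∈ mx A := by
  refine ⟨constantCoeff (r : k⟦X⟧), ?_⟩
  rw [mem_mx]
  change constantCoeff ((r : k⟦X⟧) - C (constantCoeff (r : k⟦X⟧))) = 0
  simp

/-- The ideal of elements divisible by `X^n`. -/
noncomputable def dv (n : ℕ) : Ideal A where
  carrier := {r | X ^ n ∣ (r : k⟦X⟧)}
  add_mem' := fun h1 h3 => dvd_add h1 h3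
  zero_mem' := dvd_zero _
  smul_mem' := fun _ _ h1 => dvd_mul_of_dvd_right h1 _

theorem mx_pow_le (n : ℕ) : mx A ^ n ≤ dv A n := by
  have h1 : mx A ≤ dv A 1 := by
    intro r hr
    rw [mem_mx] at hr
    change (X : k⟦X⟧) ^ 1 ∣ (r : k⟦X⟧)
    rw [pow_one]
    exact X_dvd_iff.2 hr
  induction n with
  | zero =>
    intro r _
    change (X : k⟦X⟧) ^ 0 ∣ (r : k⟦X⟧)
    simp
  | succ n ih =>
    rw [pow_succ, Ideal.mul_le]
    intro a ha b hb
    have h2 : X ^ n ∣ (a : k⟦X⟧) := ih ha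
    have h3 : X ^ 1 ∣ (b : k⟦X⟧) := h1 hb
    rw [pow_one] at h3
    change X ^ (n + 1) ∣ (a : k⟦X⟧) * (b : k⟦X⟧)
    rw [pow_succ]
    exact mul_dvd_mul h2 h3

theorem dvd_of_mem {n : ℕ} {r : A} (hr : r ∈ mx A ^ n) : X ^ n ∣ (r : k⟦X⟧) := mx_pow_le A n hr

/-- power series with prescribed coefficients on a finite set of exponents. -/
noncomputable def pser (S : Finset ℕ) (c : S → k) : k⟦X⟧ :=
  PowerSeries.mk (fun l => if h : l ∈ S then c ⟨l, h⟩ else 0)

theorem coeff_pser (S : Finset ℕ) (c : S → k) (l : S) : coeff (l : ℕ) (pser S c) = c l := by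
  rw [pser, coeff_mk, dif_pos l.2]

theorem coeff_pser_of_notMem (S : Finset ℕ) (c : S → k) (l : ℕ) (hl : l ∉ S) :
    coeff l (pser S c) = 0 := by
  rw [pser, coeff_mk, dif_neg hl]

/-- The coordinate functionals. -/
noncomputable def psi (k : Type u) [Field k] (S : Finset ℕ) : k⟦X⟧ →ₗ[k] (S → k) :=
  LinearMap.pi (fun l => coeff (R := k) (l : ℕ))

theorem psi_apply (S : Finset ℕ) (f : k⟦X⟧) (l : S) : psi k S f l = coeff (l : ℕ) f := rfl

end K840.Mx
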