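import Groth.Agent.TFCurv.K840.TwoGen
import Groth.Agent.TFCurv.K840.ExtEval
import Groth.Agent.TFCurv.K840.PowSub
import Groth.Agent.TFCurv.K840.Mx

/-!
# The singularity `E₆`
-/

set_option autoImplicit false
set_option linter.unusedSectionVars false
universe u

open CategoryTheory CategoryTheory.Abelian PowerSeries

namespace K840.E6

theorem mem_closure (n : ℕ) : n ∈ AddSubmonoid.closure ({3, 4} : Set ℕ) ↔ n ≠ 1 ∧ n ≠ 2 ∧ n ≠ 5 := by
  constructor
  · intro h
    let S : AddSubmonoid ℕ :=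
      { carrier := {n | n ≠ 1 ∧ n ≠ 2 ∧ n ≠ 5}
        add_mem' := by
          rintro a b ⟨h1, h2, h3⟩ ⟨h4, h5, h6⟩
          refine ⟨?_, ?_, ?_⟩ <;> omega
        zero_mem' := by refine ⟨?_, ?_, ?_⟩ <;> omega }
    have h1 : AddSubmonoid.closure ({3, 4} : Set ℕ) ≤ S := by
      rw [AddSubmonoid.closure_le]
      rintro x (rfl | rfl)
      · refine ⟨?_, ?_, ?_⟩ <;> omega
      · refine ⟨?_, ?_, ?_⟩ <;> omega
    exact h1 h
  · rintro ⟨h1, h2, h3⟩
    rw [AddSubmonoid.mem_closure_pair]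
    have h4 : n % 3 = 0 ∨ n % 3 = 1 ∨ n % 3 = 2 := by omega
    rcases h4 with h | h | h
    · exact ⟨n / 3, 0, by simp only [smul_eq_mul]; omega⟩
    · exact ⟨(n - 4) / 3, 1, by simp only [smul_eq_mul]; omega⟩
    · exact ⟨(n - 8) / 3, 2, by simp only [smul_eq_mul]; omega⟩

variable {k : Type u} [Field k] (A : Subalgebra k k⟦X⟧)
  (hmono : ∀ f : k⟦X⟧, f ∈ A ↔ ∀ n : ℕ, coeff n f ≠ 0 → n ∈ AddSubmonoid.closure ({3, 4} : Set ℕ))

include hmono in
theorem mem_A (f : k⟦X⟧) : f ∈ A ↔ coeff 1 f = 0 ∧ coeff 2 f = 0 ∧ coeff 5 f = 0 := by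
  rw [hmono]
  constructor
  · intro h
    refine ⟨?_, ?_, ?_⟩
    · by_contra h1
      exact ((mem_closure 1).1 (h 1 h1)).1 rfl
    · by_contra h1
      exact ((mem_closure 2).1 (h 2 h1)).2.1 rfl
    · by_contra h1
      exact ((mem_closure 5).1 (h 5 h1)).2.2 rfl
  · rintro ⟨h1, h2, h3⟩ n hn
    rw [mem_closure]
    refine ⟨?_, ?_, ?_⟩
    · rintro rfl; exact hn h1
    · rintro rfl; exact hn h2
    · rintro rfl; exact hn h3

/-- Power series without terms of exponent in `E`. -/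
def P (E : Finset ℕ) (hE : ∀ e ∈ E, ∀ x y : ℕ, x + y = e → x ≠ 1 → x ≠ 2 → x ≠ 5 → y ∈ E) :
    Submodule A k⟦X⟧ where
  carrier := {f | ∀ e ∈ E, coeff e f = 0}
  add_mem' := by
    intro f g hf hg e he
    rw [map_add, hf e he, hg e he, add_zero]
  zero_mem' := fun e _ => map_zero _
  smul_mem' := by
    rintro ⟨a, ha⟩ f hf e he
    change coeff e (a * f) = 0
    rw [mem_A A hmono] at ha
    rw [coeff_mul]
    refine Finset.sum_eq_zero fun x hx => ?_
    rw [Finset.mem_antidiagonal] at hx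
    by_cases h1 : x.1 = 1
    · rw [h1, ha.1, zero_mul]
    by_cases h2 : x.1 = 2
    · rw [h2, ha.2.1, zero_mul]
    by_cases h3 : x.1 = 5
    · rw [h3, ha.2.2, zero_mul]
    rw [hf _ (hE e he _ _ hx h1 h2 h3), mul_zero]

theorem mem_P {E : Finset ℕ} {hE : ∀ e ∈ E, ∀ x y : ℕ, x + y = e → x ≠ 1 → x ≠ 2 → x ≠ 5 → y ∈ E}
    (f : k⟦X⟧) : f ∈ P A hmono E hE ↔ ∀ e ∈ E, coeff e f = 0 := Iff.rfl

/-- division by a power of `X`. -/
theorem exists_div (a : ℕ) (f : k⟦X⟧) (h : ∀ m, m < a → coeff m f = 0) :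
    ∃ q : k⟦X⟧, f = X ^ a * q ∧ ∀ n, coeff n q = coeff (n + a) f := by
  obtain ⟨q, rfl⟩ := X_pow_dvd_iff.2 h
  refine ⟨q, rfl, fun n => ?_⟩
  rw [coeff_X_pow_mul]

section Data

variable (EH EJ : Finset ℕ)
  (hEH : ∀ e ∈ EH, ∀ x y : ℕ, x + y = e → x ≠ 1 → x ≠ 2 → x ≠ 5 → y ∈ EH)
  (hEJ : ∀ e ∈ EJ, ∀ x y : ℕ, x + y = e → x ≠ 1 → x ≠ 2 → x ≠ 5 → y ∈ EJ)

theorem data_smul (n : ℕ) (hn : ∀ e ∈ EJ, e < n) : ∀ r ∈ Mx.mx A ^ n, ∀ q ∈ P A hmono EH hEH,
    r • q ∈ P A hmono EJ hEJ := by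
  intro r hr q _ e he
  have h1 := Mx.dvd_of_mem A hr
  change coeff e ((r : k⟦X⟧) * q) = 0
  have h2 : X ^ n ∣ (r : k⟦X⟧) * q := dvd_mul_of_dvd_left h1 _
  exact X_pow_dvd_iff.1 h2 e (hn e he)

theorem data_ker (hsub : EH ⊆ EJ) : ∀ x ∈ P A hmono EH hEH,
    Mx.psi k (EJ \ EH) x = 0 ↔ x ∈ P A hmono EJ hEJ := by
  intro x hx
  rw [funext_iff]
  constructor
  · intro h e he
    by_cases h1 : e ∈ EH
    · exact hx e h1
    · exact h ⟨e, Finset.mem_sdiff.2 ⟨he, h1⟩⟩
  · rintro h ⟨e, he⟩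
    exact h e (Finset.mem_sdiff.1 he).1

theorem data_surj : ∀ c : ↥(EJ \ EH) → k, ∃ x ∈ P A hmono EH hEH, Mx.psi k (EJ \ EH) x = c := by
  intro c
  refine ⟨Mx.pser _ c, fun e he => ?_, ?_⟩
  · apply Mx.coeff_pser_of_notMem
    rw [Finset.mem_sdiff]
    exact fun h => h.2 he
  · funext l
    exact Mx.coeff_pser _ c l

end Data

theorem mul_X_pow_regular (a : ℕ) (f : k⟦X⟧) (h : X ^ a * f = 0) : f = 0 :=
  (mul_eq_zero.1 h).resolve_left (pow_ne_zero _ X_ne_zero)

/-- The element `X^a` of `A` -/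
noncomputable def xp (a : ℕ) (h1 : a ≠ 1) (h2 : a ≠ 2) (h3 : a ≠ 5) : A :=
  ⟨X ^ a, by
    rw [mem_A A hmono]
    simp only [coeff_X_pow]
    refine ⟨if_neg h1.symm, if_neg h2.symm, if_neg h3.symm⟩⟩

theorem coe_xp (a : ℕ) (h1 : a ≠ 1) (h2 : a ≠ 2) (h3 : a ≠ 5) :
    (xp A hmono a h1 h2 h3 : k⟦X⟧) = X ^ a := rfl

/-- General form of the computation for `M = A + A X^s`, `N = P EN`, `z = X^a`. -/
theorem length_ext (s : ℕ) (EN EH EJ : Finset ℕ)
    (hEN : ∀ e ∈ EN, ∀ x y : ℕ, x + y = e → x ≠ 1 → x ≠ 2 → x ≠ 5 → y ∈ EN)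
    (hEH : ∀ e ∈ EH, ∀ x y : ℕ, x + y = e → x ≠ 1 → x ≠ 2 → x ≠ 5 → y ∈ EH)
    (hEJ : ∀ e ∈ EJ, ∀ x y : ℕ, x + y = e → x ≠ 1 → x ≠ 2 → x ≠ 5 → y ∈ EJ)
    (hsub : EH ⊆ EJ) (a : ℕ) (h1 : a ≠ 1) (h2 : a ≠ 2) (h3 : a ≠ 5)
    (h1' : a + s ≠ 1) (h2' : a + s ≠ 2) (h3' : a + s ≠ 5)
    (hH : ∀ p : k⟦X⟧, (∀ e ∈ EH, coeff e p = 0) ↔ ((∀ e ∈ EN, coeff e p = 0) ∧
      ∀ x y : k⟦X⟧, x ∈ A → y ∈ A → x + y * X ^ s = 0 →
        ∃ q : k⟦X⟧, (∀ e ∈ EN, coeff e q = 0) ∧ X ^ a * q = y * p))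
    (hJ : ∀ p : k⟦X⟧, (∀ e ∈ EJ, coeff e p = 0) ↔ ∃ m0 : k⟦X⟧, (∀ e ∈ EN, coeff e m0 = 0) ∧
      ∃ m1 : k⟦X⟧, (∀ e ∈ EN, coeff e m1 = 0) ∧ p = X ^ (a + s) * m0 + X ^ a * m1) :
    Module.length A (Ext.{u} (ModuleCat.of A ↥(Submodule.span A ({1, X ^ s} : Set k⟦X⟧)))
      (ModuleCat.of A ↥(P A hmono EN hEN)) 1) = ((EJ \ EH).card : ℕ∞) := by
  rw [← Fintype.card_coe]
  refine TwoGen.length_ext (A := A) (V := k⟦X⟧) Subtype.val_injective (g := 1) (f := X ^ s) ?_
    (z := xp A hmono a h1 h2 h3) (xz := -xp A hmono (a + s) h1' h2' h3') ?_ ?_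
    (P A hmono EN hEN) (P A hmono EH hEH) (P A hmono EJ hEJ) ?_ ?_ (Mx.mx A) (Mx.mx_spec A)
    (EJ.sup id + 1) (data_smul A hmono EH EJ hEH hEJ _ ?_) (Mx.psi k (EJ \ EH))
    (data_ker A hmono EH EJ hEH hEJ hsub) (data_surj A hmono EH EJ hEH)
  · intro v hv
    rwa [mul_one] at hv
  · intro v hv
    exact mul_X_pow_regular a v hv
  · change (-X ^ (a + s) * 1 + X ^ a * X ^ s : k⟦X⟧) = 0
    rw [pow_add]
    ring
  · intro p
    rw [mem_P, hH]
    refine and_congr Iff.rfl ?_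
    constructor
    · rintro h ⟨x, hx⟩ ⟨y, hy⟩ hxy
      obtain ⟨q, hq, hq'⟩ := h x y hx hy (by
        have : x * 1 + y * X ^ s = 0 := hxy
        rwa [mul_one] at this)
      exact ⟨q, hq, hq'⟩
    · intro h x y hx hy hxy
      obtain ⟨q, hq, hq'⟩ := h ⟨x, hx⟩ ⟨y, hy⟩ (by
        change x * 1 + y * X ^ s = 0
        rwa [mul_one])
      exact ⟨q, hq, hq'⟩
  · intro p
    rw [mem_P, hJ]
    constructor
    · rintro ⟨m0, hm0, m1, hm1, rfl⟩
      refine ⟨-m0, (P A hmono EN hEN).neg_mem hm0, m1, hm1, ?_⟩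
      change _ = -X ^ (a + s) * -m0 + X ^ a * m1
      ring
    · rintro ⟨m0, hm0, m1, hm1, rfl⟩
      refine ⟨-m0, (P A hmono EN hEN).neg_mem hm0, m1, hm1, ?_⟩
      change -X ^ (a + s) * m0 + X ^ a * m1 = _
      ring
  · intro e he
    exact Nat.lt_succ_of_le (Finset.le_sup (f := id) he)

include hmono in
theorem case1 : Module.length A (Ext.{u}
    (ModuleCat.of A ↥(Submodule.span A ({1, X ^ 5} : Set k⟦X⟧)))
    (ModuleCat.of A ↥(P A hmono {1, 2} (by
      intro e he x y hxy h1 h2 h3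
      simp only [Finset.mem_insert, Finset.mem_singleton] at he ⊢
      omega))) 1) = 2 := by
  have h := length_ext A hmono 5 {1, 2} {0, 1, 2} {0, 1, 2, 4, 5}
    (by
      intro e he x y hxy h1 h2 h3
      simp only [Finset.mem_insert, Finset.mem_singleton] at he ⊢
      omega)
    (by
      intro e he x y hxy h1 h2 h3
      simp only [Finset.mem_insert, Finset.mem_singleton] at he ⊢
      omega)
    (by
      intro e he x y hxy h1 h2 h3
      simp only [Finset.mem_insert, Finset.mem_singleton] at he ⊢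
      omega) (by decide) 3 (by omega) (by omega) (by omega) (by omega) (by omega) (by omega) ?_ ?_
  · rw [h]
    rfl
  · intro p
    simp only [Finset.mem_insert, Finset.mem_singleton, forall_eq_or_imp, forall_eq]
    constructor
    · rintro ⟨hp0, hp1, hp2⟩
      refine ⟨⟨hp1, hp2⟩, fun x y hx hy hxy => ?_⟩
      rw [mem_A A hmono] at hx hy
      have hy0 : coeff 0 y = 0 := by
        have := congrArg (coeff (R := k) 5) hxy
        rw [map_add, hx.2.2, zero_add, mul_comm, coeff_X_pow_mul'] at this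
        simpa using this
      obtain ⟨y', rfl, -⟩ := exists_div 3 y (by
        intro m hm
        interval_cases m
        · exact hy0
        · exact hy.1
        · exact hy.2.1)
      obtain ⟨p', rfl, -⟩ := exists_div 3 p (by
        intro m hm
        interval_cases m
        · exact hp0
        · exact hp1
        · exact hp2)
      refine ⟨X ^ 3 * (y' * p'), ⟨?_, ?_⟩, by ring⟩
      · rw [coeff_X_pow_mul', if_neg (by omega)]
      · rw [coeff_X_pow_mul', if_neg (by omega)]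
    · rintro ⟨⟨hp1, hp2⟩, h⟩
      obtain ⟨q, ⟨hq1, hq2⟩, hq⟩ := h (-X ^ 9) (X ^ 4) (by
        rw [mem_A A hmono]
        simp [coeff_X_pow]) (by
        rw [mem_A A hmono]
        simp [coeff_X_pow]) (by ring)
      refine ⟨?_, hp1, hp2⟩
      have h1 : q = X ^ 1 * p := by
        rw [← sub_eq_zero]
        apply mul_X_pow_regular 3
        rw [mul_sub, hq]
        ring
      rw [h1, coeff_X_pow_mul'] at hq1
      simpa using hq1
  · intro p
    simp only [Finset.mem_insert, Finset.mem_singleton, forall_eq_or_imp, forall_eq]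
    constructor
    · rintro ⟨hp0, hp1, hp2, hp4, hp5⟩
      obtain ⟨q, rfl, hq⟩ := exists_div 3 p (by
        intro m hm
        interval_cases m
        · exact hp0
        · exact hp1
        · exact hp2)
      refine ⟨0, ⟨by simp, by simp⟩, q, ⟨?_, ?_⟩, by simp⟩
      · rw [hq]; exact hp4
      · rw [hq]; exact hp5
    · rintro ⟨m0, ⟨h1, h2⟩, m1, ⟨h3, h4⟩, rfl⟩
      simp [coeff_X_pow_mul', h1, h2, h3, h4]

include hmono in
theorem case2 : Module.length A (Ext.{u}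
    (ModuleCat.of A ↥(Submodule.span A ({1, X ^ 1} : Set k⟦X⟧)))
    (ModuleCat.of A ↥(P A hmono {2} (by
      intro e he x y hxy h1 h2 h3
      simp only [Finset.mem_singleton] at he ⊢
      omega))) 1) = 2 := by
  have h := length_ext A hmono 1 {2} {2} {0, 1, 2}
    (by
      intro e he x y hxy h1 h2 h3
      simp only [Finset.mem_singleton] at he ⊢
      omega)
    (by
      intro e he x y hxy h1 h2 h3
      simp only [Finset.mem_singleton] at he ⊢
      omega)
    (by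
      intro e he x y hxy h1 h2 h3
      simp only [Finset.mem_insert, Finset.mem_singleton] at he ⊢
      omega) (by decide) 3 (by omega) (by omega) (by omega) (by omega) (by omega) (by omega) ?_ ?_
  · rw [h]
    rfl
  · intro p
    simp only [Finset.mem_insert, Finset.mem_singleton, forall_eq_or_imp, forall_eq]
    constructor
    · intro hp2
      refine ⟨hp2, fun x y hx hy hxy => ?_⟩
      rw [mem_A A hmono] at hx hy
      have hy0 : coeff 0 y = 0 := by
        have := congrArg (coeff (R := k) 1) hxy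
        rw [map_add, hx.1, zero_add, mul_comm, coeff_X_pow_mul'] at this
        simpa using this
      have hy4 : coeff 4 y = 0 := by
        have := congrArg (coeff (R := k) 5) hxy
        rw [map_add, hx.2.2, zero_add, mul_comm, coeff_X_pow_mul'] at this
        simpa using this
      obtain ⟨y', rfl, hy'⟩ := exists_div 3 y (by
        intro m hm
        interval_cases m
        · exact hy0
        · exact hy.1
        · exact hy.2.1)
      have h1 := hy' 1
      have h2 := hy' 2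
      rw [hy4] at h1
      rw [hy.2.2] at h2
      refine ⟨y' * p, ?_, by ring⟩
      rw [coeff_mul, Finset.Nat.antidiagonal_succ, Finset.sum_cons]
      simp [Finset.Nat.antidiagonal_succ, h1, h2, hp2]
    · exact fun h => h.1
  · intro p
    simp only [Finset.mem_insert, Finset.mem_singleton, forall_eq_or_imp, forall_eq]
    constructor
    · rintro ⟨hp0, hp1, hp2⟩
      obtain ⟨q, rfl, hq⟩ := exists_div 3 p (by
        intro m hm
        interval_cases m
        · exact hp0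
        · exact hp1
        · exact hp2)
      refine ⟨C (coeff 2 q) * X, ?_, q - C (coeff 2 q) * X ^ 2, ?_, by ring⟩
      · simp [coeff_X]
      · simp [coeff_X_pow]
    · rintro ⟨m0, h1, m1, h3, rfl⟩
      simp [coeff_X_pow_mul']

include hmono in
theorem case3 : Module.length A (Ext.{u}
    (ModuleCat.of A ↥(Submodule.span A ({1, X ^ 2} : Set k⟦X⟧)))
    (ModuleCat.of A ↥(P A hmono {1} (by
      intro e he x y hxy h1 h2 h3
      simp only [Finset.mem_singleton] at he ⊢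
      omega))) 1) = 4 := by
  have h := length_ext A hmono 2 {1} {1} {0, 1, 2, 3, 5}
    (by
      intro e he x y hxy h1 h2 h3
      simp only [Finset.mem_singleton] at he ⊢
      omega)
    (by
      intro e he x y hxy h1 h2 h3
      simp only [Finset.mem_singleton] at he ⊢
      omega)
    (by
      intro e he x y hxy h1 h2 h3
      simp only [Finset.mem_insert, Finset.mem_singleton] at he ⊢
      omega) (by decide) 4 (by omega) (by omega) (by omega) (by omega) (by omega) (by omega) ?_ ?_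
  · rw [h]
    rfl
  · intro p
    simp only [Finset.mem_insert, Finset.mem_singleton, forall_eq_or_imp, forall_eq]
    constructor
    · intro hp2
      refine ⟨hp2, fun x y hx hy hxy => ?_⟩
      rw [mem_A A hmono] at hx hy
      have hy0 : coeff 0 y = 0 := by
        have := congrArg (coeff (R := k) 2) hxy
        rw [map_add, hx.2.1, zero_add, mul_comm, coeff_X_pow_mul'] at this
        simpa using this
      have hy3 : coeff 3 y = 0 := by
        have := congrArg (coeff (R := k) 5) hxy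
        rw [map_add, hx.2.2, zero_add, mul_comm, coeff_X_pow_mul'] at this
        simpa using this
      obtain ⟨y', rfl, hy'⟩ := exists_div 4 y (by
        intro m hm
        interval_cases m
        · exact hy0
        · exact hy.1
        · exact hy.2.1
        · exact hy3)
      have h1 := hy' 1
      rw [hy.2.2] at h1
      refine ⟨y' * p, ?_, by ring⟩
      rw [coeff_mul, Finset.Nat.antidiagonal_succ, Finset.sum_cons]
      simp [h1, hp2]
    · exact fun h => h.1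
  · intro p
    simp only [Finset.mem_insert, Finset.mem_singleton, forall_eq_or_imp, forall_eq]
    constructor
    · rintro ⟨hp0, hp1, hp2, hp3, hp5⟩
      obtain ⟨q, rfl, hq⟩ := exists_div 4 p (by
        intro m hm
        interval_cases m
        · exact hp0
        · exact hp1
        · exact hp2
        · exact hp3)
      refine ⟨0, by simp, q, ?_, by simp⟩
      rw [hq]
      exact hp5
    · rintro ⟨m0, h1, m1, h3, rfl⟩
      simp [coeff_X_pow_mul', h3]

/-! ### The module `k⟦X⟧` -/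

section Top

/-- The presentation `A³ → k⟦X⟧`. -/
noncomputable def pres : (A × A × A) →ₗ[A] k⟦X⟧ :=
  (LinearMap.toSpanSingleton A k⟦X⟧ 1).coprod
    ((LinearMap.toSpanSingleton A k⟦X⟧ X).coprod (LinearMap.toSpanSingleton A k⟦X⟧ (X ^ 2)))

theorem pres_apply (x : A × A × A) : pres A x =
    (x.1 : k⟦X⟧) * 1 + ((x.2.1 : k⟦X⟧) * X + (x.2.2 : k⟦X⟧) * X ^ 2) := rfl

include hmono in
theorem pres_surjective : Function.Surjective (pres A) := by
  intro f
  refine ⟨(⟨f - C (coeff 1 f) * X - C (coeff 2 f) * X ^ 2 - C (coeff 5 f) * X ^ 5, ?_⟩,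
    ⟨C (coeff 1 f), ?_⟩, ⟨C (coeff 2 f) + C (coeff 5 f) * X ^ 3, ?_⟩), ?_⟩
  · rw [mem_A A hmono]
    simp [coeff_X_pow, coeff_X]
  · rw [mem_A A hmono]
    simp [coeff_C]
  · rw [mem_A A hmono]
    simp [coeff_C, coeff_X_pow]
  · rw [pres_apply]
    ring

include hmono in
theorem dvd_of_mem_ker (x : A × A × A) (hx : pres A x = 0) :
    (X : k⟦X⟧) ^ 3 ∣ (x.2.1 : k⟦X⟧) ∧ (X : k⟦X⟧) ^ 3 ∣ (x.2.2 : k⟦X⟧) := by
  obtain ⟨⟨x, hx0⟩, ⟨y, hy0⟩, ⟨z, hz0⟩⟩ := x
  rw [pres_apply] at hx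
  dsimp at hx ⊢
  rw [mem_A A hmono] at hx0 hy0 hz0
  have e1 := congrArg (coeff (R := k) 1) hx
  have e2 := congrArg (coeff (R := k) 2) hx
  rw [mul_one, map_add, map_add, mul_comm y, mul_comm z, hx0.1, ← pow_one X, ← pow_mul,
    coeff_X_pow_mul', coeff_X_pow_mul'] at e1
  rw [mul_one, map_add, map_add, mul_comm y, mul_comm z, hx0.2.1, ← pow_one X, ← pow_mul,
    coeff_X_pow_mul', coeff_X_pow_mul'] at e2
  simp [hy0.1] at e1 e2
  constructor
  · rw [X_pow_dvd_iff]
    intro m hm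
    interval_cases m
    · simpa using e1
    · exact hy0.1
    · exact hy0.2.1
  · rw [X_pow_dvd_iff]
    intro m hm
    interval_cases m
    · simpa using e2
    · exact hz0.1
    · exact hz0.2.1

/-- first relation -/
noncomputable def k1 : LinearMap.ker (pres A) :=
  ⟨(-xp A hmono 4 (by omega) (by omega) (by omega), xp A hmono 3 (by omega) (by omega) (by omega), 0), by
    rw [LinearMap.mem_ker, pres_apply]
    change (-X ^ 4 * 1 + (X ^ 3 * X + 0 * X ^ 2) : k⟦X⟧) = 0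
    ring⟩

/-- second relation -/
noncomputable def k2 : LinearMap.ker (pres A) :=
  ⟨(0, xp A hmono 4 (by omega) (by omega) (by omega), -xp A hmono 3 (by omega) (by omega) (by omega)), by
    rw [LinearMap.mem_ker, pres_apply]
    change (0 * 1 + (X ^ 4 * X + -X ^ 3 * X ^ 2) : k⟦X⟧) = 0
    ring⟩

/-- evaluation on the two relations -/
noncomputable def theta : (LinearMap.ker (pres A) →ₗ[A] k⟦X⟧) →ₗ[A] (k⟦X⟧ × k⟦X⟧) :=
  (LinearMap.applyₗ (k1 A hmono)).prod (LinearMap.applyₗ (k2 A hmono))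

theorem theta_apply (φ : LinearMap.ker (pres A) →ₗ[A] k⟦X⟧) :
    theta A hmono φ = (φ (k1 A hmono), φ (k2 A hmono)) := rfl

theorem key (φ : LinearMap.ker (pres A) →ₗ[A] k⟦X⟧) (x : LinearMap.ker (pres A)) :
    X ^ 3 * φ x = (((x : A × A × A).2.1 : k⟦X⟧) + X * ((x : A × A × A).2.2 : k⟦X⟧)) *
      φ (k1 A hmono) - ((x : A × A × A).2.2 : k⟦X⟧) * φ (k2 A hmono) := by
  have h1 : xp A hmono 6 (by omega) (by omega) (by omega) • x +
      (xp A hmono 3 (by omega) (by omega) (by omega) * (x : A × A × A).2.2) • k2 A hmono =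
      (xp A hmono 3 (by omega) (by omega) (by omega) * (x : A × A × A).2.1 +
        xp A hmono 4 (by omega) (by omega) (by omega) * (x : A × A × A).2.2) • k1 A hmono := by
    obtain ⟨⟨⟨x, hx0⟩, ⟨y, hy0⟩, ⟨z, hz0⟩⟩, hx⟩ := x
    rw [LinearMap.mem_ker, pres_apply] at hx
    dsimp at hx ⊢
    apply Subtype.ext
    have hx' : x = -(y * X) - z * X ^ 2 := by linear_combination hx
    refine Prod.ext (Subtype.ext ?_) (Prod.ext (Subtype.ext ?_) (Subtype.ext ?_))
    · change X ^ 6 * x + (X ^ 3 * z) * 0 = (X ^ 3 * y + X ^ 4 * z) * (-X ^ 4)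
      rw [hx']
      ring
    · change X ^ 6 * y + (X ^ 3 * z) * X ^ 4 = (X ^ 3 * y + X ^ 4 * z) * X ^ 3
      ring
    · change X ^ 6 * z + (X ^ 3 * z) * (-X ^ 3) = (X ^ 3 * y + X ^ 4 * z) * 0
      ring
  have h2 := congrArg φ h1
  rw [map_add, map_smul, map_smul, map_smul] at h2
  have h3 : X ^ 6 * φ x + (X ^ 3 * ((x : A × A × A).2.2 : k⟦X⟧)) * φ (k2 A hmono) =
      (X ^ 3 * ((x : A × A × A).2.1 : k⟦X⟧) +
      X ^ 4 * ((x : A × A × A).2.2 : k⟦X⟧)) * φ (k1 A hmono) := h2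
  rw [← sub_eq_zero]
  apply mul_X_pow_regular 3
  linear_combination h3

theorem theta_injective : Function.Injective (theta A hmono) := by
  rw [injective_iff_map_eq_zero]
  intro φ hφ
  rw [theta_apply] at hφ
  have h1 : φ (k1 A hmono) = 0 := congrArg Prod.fst hφ
  have h2 : φ (k2 A hmono) = 0 := congrArg Prod.snd hφ
  ext1 x
  have h3 := key A hmono φ x
  rw [h1, h2, mul_zero, mul_zero, sub_zero] at h3
  exact mul_X_pow_regular 3 _ h3

theorem theta_surjective : Function.Surjective (theta A hmono) := by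
  rintro ⟨p, q⟩
  have hex : ∀ x : LinearMap.ker (pres A), ∃ w : k⟦X⟧, X ^ 3 * w =
      (((x : A × A × A).2.1 : k⟦X⟧) + X * ((x : A × A × A).2.2 : k⟦X⟧)) * p -
        ((x : A × A × A).2.2 : k⟦X⟧) * q := by
    intro x
    obtain ⟨h1, h2⟩ := dvd_of_mem_ker A hmono x (LinearMap.mem_ker.1 x.2)
    obtain ⟨w, hw⟩ := dvd_sub (dvd_mul_of_dvd_left (dvd_add h1 (dvd_mul_of_dvd_right h2 X)) p)
      (dvd_mul_of_dvd_left h2 q)
    exact ⟨w, hw.symm⟩
  choose w hw using hex
  have hc : ∀ a b : k⟦X⟧, X ^ 3 * a = X ^ 3 * b → a = b := fun a b h => by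
    rw [← sub_eq_zero]
    apply mul_X_pow_regular 3
    rw [mul_sub, h, sub_self]
  refine ⟨{ toFun := w, map_add' := ?_, map_smul' := ?_ }, ?_⟩
  · intro x y
    apply hc
    rw [mul_add, hw, hw, hw]
    have e1 : (((x + y : LinearMap.ker (pres A)) : A × A × A).2.1 : k⟦X⟧) =
      ((x : A × A × A).2.1 : k⟦X⟧) + ((y : A × A × A).2.1 : k⟦X⟧) := rfl
    have e2 : (((x + y : LinearMap.ker (pres A)) : A × A × A).2.2 : k⟦X⟧) =
      ((x : A × A × A).2.2 : k⟦X⟧) + ((y : A × A × A).2.2 : k⟦X⟧) := rfl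
    rw [e1, e2]
    ring
  · intro c x
    apply hc
    have e0 : (RingHom.id A) c • w x = (c : k⟦X⟧) * w x := rfl
    have e1 : (((c • x : LinearMap.ker (pres A)) : A × A × A).2.1 : k⟦X⟧) =
      (c : k⟦X⟧) * ((x : A × A × A).2.1 : k⟦X⟧) := rfl
    have e2 : (((c • x : LinearMap.ker (pres A)) : A × A × A).2.2 : k⟦X⟧) =
      (c : k⟦X⟧) * ((x : A × A × A).2.2 : k⟦X⟧) := rfl
    rw [e0, mul_left_comm, hw, hw, e1, e2]
    ring
  · rw [theta_apply]
    refine Prod.ext ?_ ?_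
    · apply hc
      change X ^ 3 * w (k1 A hmono) = X ^ 3 * p
      rw [hw]
      change (X ^ 3 + X * 0) * p - 0 * q = X ^ 3 * p
      ring
    · apply hc
      change X ^ 3 * w (k2 A hmono) = X ^ 3 * q
      rw [hw]
      change (X ^ 4 + X * (-X ^ 3)) * p - (-X ^ 3) * q = X ^ 3 * q
      ring

/-- pairs divisible by `X^3`. -/
noncomputable def JT : Submodule A (k⟦X⟧ × k⟦X⟧) where
  carrier := {w | X ^ 3 ∣ w.1 ∧ X ^ 3 ∣ w.2}
  add_mem' := fun h1 h2 => ⟨dvd_add h1.1 h2.1, dvd_add h1.2 h2.2⟩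
  zero_mem' := ⟨dvd_zero _, dvd_zero _⟩
  smul_mem' := fun _ _ h => ⟨dvd_mul_of_dvd_right h.1 _, dvd_mul_of_dvd_right h.2 _⟩

/-- coordinates -/
noncomputable def psiT (k : Type u) [Field k] :
    (k⟦X⟧ × k⟦X⟧) →ₗ[k] (Fin 3 ⊕ Fin 3 → k) :=
  LinearMap.pi (Sum.elim
    (fun l => (coeff (R := k) (l : ℕ)).comp (LinearMap.fst k k⟦X⟧ k⟦X⟧))
    (fun l => (coeff (R := k) (l : ℕ)).comp (LinearMap.snd k k⟦X⟧ k⟦X⟧)))

include hmono in
theorem length_top : Module.length A (Ext.{u} (ModuleCat.of A k⟦X⟧) (ModuleCat.of A k⟦X⟧) 1) =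
    6 := by
  have h6 : (6 : ℕ∞) = ((Fintype.card (Fin 3 ⊕ Fin 3) : ℕ) : ℕ∞) := by
    simp
  rw [h6]
  refine ExtEval.length_ext (pres A) (pres_surjective A hmono) (theta A hmono)
    (theta_injective A hmono) ⊤ (JT A) ?_ ?_ (Mx.mx A) (Mx.mx_spec A) 3 ?_ (psiT k) ?_ ?_
  · intro w
    exact ⟨fun _ => theta_surjective A hmono w, fun _ => trivial⟩
  · rintro ⟨w1, w2⟩
    constructor
    · rintro ⟨⟨p, h1⟩, ⟨q, h2⟩⟩
      refine ⟨(LinearMap.toSpanSingleton A k⟦X⟧ 0).coprod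
        ((LinearMap.toSpanSingleton A k⟦X⟧ p).coprod
          (LinearMap.toSpanSingleton A k⟦X⟧ (X * p - q))), ?_⟩
      rw [theta_apply]
      refine Prod.ext ?_ ?_
      · change (-X ^ 4 * 0 + (X ^ 3 * p + 0 * (X * p - q)) : k⟦X⟧) = w1
        rw [show w1 = X ^ 3 * p from h1]
        ring
      · change (0 * 0 + (X ^ 4 * p + -X ^ 3 * (X * p - q)) : k⟦X⟧) = w2
        rw [show w2 = X ^ 3 * q from h2]
        ring
    · rintro ⟨ψ, hψ⟩
      have e : ∀ x : A × A × A, ψ x = (x.1 : k⟦X⟧) * ψ (1, 0, 0) +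
          ((x.2.1 : k⟦X⟧) * ψ (0, 1, 0) + (x.2.2 : k⟦X⟧) * ψ (0, 0, 1)) := by
        intro x
        have : x = x.1 • ((1, 0, 0) : A × A × A) + (x.2.1 • ((0, 1, 0) : A × A × A) +
            x.2.2 • ((0, 0, 1) : A × A × A)) := by
          refine Prod.ext ?_ (Prod.ext ?_ ?_) <;> simp
        conv_lhs => rw [this]
        rw [map_add, map_add, map_smul, map_smul, map_smul]
        rfl
      rw [theta_apply] at hψ
      have h1 : ψ (k1 A hmono : A × A × A) = w1 := congrArg Prod.fst hψ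
      have h2 : ψ (k2 A hmono : A × A × A) = w2 := congrArg Prod.snd hψ
      rw [e] at h1 h2
      refine ⟨⟨-(X * ψ (1, 0, 0)) + ψ (0, 1, 0), ?_⟩, ⟨X * ψ (0, 1, 0) - ψ (0, 0, 1), ?_⟩⟩
      · rw [← h1]
        change -X ^ 4 * ψ (1, 0, 0) + (X ^ 3 * ψ (0, 1, 0) + 0 * ψ (0, 0, 1)) =
          X ^ 3 * (-(X * ψ (1, 0, 0)) + ψ (0, 1, 0))
        ring
      · rw [← h2]
        change 0 * ψ (1, 0, 0) + (X ^ 4 * ψ (0, 1, 0) + -X ^ 3 * ψ (0, 0, 1)) =
          X ^ 3 * (X * ψ (0, 1, 0) - ψ (0, 0, 1))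
        ring
  · rintro r hr q _
    have h := Mx.dvd_of_mem A hr
    exact ⟨dvd_mul_of_dvd_left h _, dvd_mul_of_dvd_left h _⟩
  · rintro ⟨w1, w2⟩ _
    have h5 : psiT k (w1, w2) = 0 ↔ (∀ l : Fin 3, coeff (l : ℕ) w1 = 0) ∧
        (∀ l : Fin 3, coeff (l : ℕ) w2 = 0) := by
      rw [funext_iff, Sum.forall]
      rfl
    rw [h5]
    change _ ↔ (X ^ 3 ∣ w1 ∧ X ^ 3 ∣ w2)
    rw [X_pow_dvd_iff, X_pow_dvd_iff]
    refine and_congr ⟨fun h m hm => h ⟨m, hm⟩, fun h l => h l l.2⟩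
      ⟨fun h m hm => h ⟨m, hm⟩, fun h l => h l l.2⟩
  · intro c
    refine ⟨(PowerSeries.mk (fun l => if h : l < 3 then c (Sum.inl ⟨l, h⟩) else 0),
      PowerSeries.mk (fun l => if h : l < 3 then c (Sum.inr ⟨l, h⟩) else 0)), trivial, ?_⟩
    funext l
    rcases l with l | l
    · change coeff (l : ℕ) (PowerSeries.mk (fun l => if h : l < 3 then c (Sum.inl ⟨l, h⟩) else 0)) = _
      rw [coeff_mk, dif_pos l.2]
    · change coeff (l : ℕ) (PowerSeries.mk (fun l => if h : l < 3 then c (Sum.inr ⟨l, h⟩) else 0)) = _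
      rw [coeff_mk, dif_pos l.2]

end Top

/-! ### The modules as spans -/

section Span

theorem span_one : Submodule.span A ({1, X ^ 5} : Set k⟦X⟧) = P A hmono {1, 2} (by
      intro e he x y hxy h1 h2 h3
      simp only [Finset.mem_insert, Finset.mem_singleton] at he ⊢
      omega) := by
  apply le_antisymm
  · rw [Submodule.span_le]
    rintro p (rfl | rfl)
    · intro e he
      simp only [Finset.mem_insert, Finset.mem_singleton] at he
      rw [coeff_one, if_neg (by omega)]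
    · intro e he
      simp only [Finset.mem_insert, Finset.mem_singleton] at he
      rw [coeff_X_pow, if_neg (by omega)]
  · intro p hp
    rw [mem_P] at hp
    simp only [Finset.mem_insert, Finset.mem_singleton, forall_eq_or_imp, forall_eq] at hp
    rw [Submodule.mem_span_pair]
    refine ⟨⟨p - C (coeff 5 p) * X ^ 5, ?_⟩, ⟨C (coeff 5 p), ?_⟩, ?_⟩
    · rw [mem_A A hmono]
      simp [coeff_X_pow, hp.1, hp.2]
    · rw [mem_A A hmono]
      simp [coeff_C]
    · change (p - C (coeff 5 p) * X ^ 5) * 1 + C (coeff 5 p) * X ^ 5 = p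
      ring

theorem span_two : Submodule.span A ({1, X ^ 1} : Set k⟦X⟧) = P A hmono {2} (by
      intro e he x y hxy h1 h2 h3
      simp only [Finset.mem_singleton] at he ⊢
      omega) := by
  apply le_antisymm
  · rw [Submodule.span_le]
    rintro p (rfl | rfl)
    · intro e he
      simp only [Finset.mem_singleton] at he
      rw [coeff_one, if_neg (by omega)]
    · intro e he
      simp only [Finset.mem_singleton] at he
      rw [coeff_X_pow, if_neg (by omega)]
  · intro p hp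
    rw [mem_P] at hp
    simp only [Finset.mem_singleton, forall_eq] at hp
    rw [Submodule.mem_span_pair]
    refine ⟨⟨p - C (coeff 1 p) * X ^ 1 - C (coeff 5 p) * X ^ 5, ?_⟩,
      ⟨C (coeff 1 p) + C (coeff 5 p) * X ^ 4, ?_⟩, ?_⟩
    · rw [mem_A A hmono]
      simp [coeff_X_pow, coeff_X, hp]
    · rw [mem_A A hmono]
      simp [coeff_C, coeff_X_pow]
    · change (p - C (coeff 1 p) * X ^ 1 - C (coeff 5 p) * X ^ 5) * 1 +
        (C (coeff 1 p) + C (coeff 5 p) * X ^ 4) * X ^ 1 = p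
      ring

theorem span_three : Submodule.span A ({1, X ^ 2} : Set k⟦X⟧) = P A hmono {1} (by
      intro e he x y hxy h1 h2 h3
      simp only [Finset.mem_singleton] at he ⊢
      omega) := by
  apply le_antisymm
  · rw [Submodule.span_le]
    rintro p (rfl | rfl)
    · intro e he
      simp only [Finset.mem_singleton] at he
      rw [coeff_one, if_neg (by omega)]
    · intro e he
      simp only [Finset.mem_singleton] at he
      rw [coeff_X_pow, if_neg (by omega)]
  · intro p hp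
    rw [mem_P] at hp
    simp only [Finset.mem_singleton, forall_eq] at hp
    rw [Submodule.mem_span_pair]
    refine ⟨⟨p - C (coeff 2 p) * X ^ 2 - C (coeff 5 p) * X ^ 5, ?_⟩,
      ⟨C (coeff 2 p) + C (coeff 5 p) * X ^ 3, ?_⟩, ?_⟩
    · rw [mem_A A hmono]
      simp [coeff_X_pow, hp]
    · rw [mem_A A hmono]
      simp [coeff_C, coeff_X_pow]
    · change (p - C (coeff 2 p) * X ^ 2 - C (coeff 5 p) * X ^ 5) * 1 +
        (C (coeff 2 p) + C (coeff 5 p) * X ^ 3) * X ^ 2 = p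
      ring

include hmono in
theorem span_four : Submodule.span A ({1, X, X ^ 2} : Set k⟦X⟧) = ⊤ := by
  rw [eq_top_iff]
  intro p _
  obtain ⟨⟨x, y, z⟩, rfl⟩ := pres_surjective A hmono p
  rw [Submodule.mem_span_triple]
  exact ⟨x, y, z, by rw [pres_apply, add_assoc]; rfl⟩

end Span

include hmono in
theorem main : Module.length ↥A (Abelian.Ext (ModuleCat.of ↥A ↥(Submodule.span ↥A ({1, (PowerSeries.X : PowerSeries k) ^ 5} : Set (PowerSeries k)))) (ModuleCat.of ↥A ↥(Submodule.span ↥A ({1, (PowerSeries.X : PowerSeries k) ^ 5} : Set (PowerSeries k)))) 1) = 2 ∧ Module.length ↥A (Abelian.Ext (ModuleCat.of ↥A ↥(Submodule.span ↥A ({1, (PowerSeries.X : PowerSeries k)} : Set (PowerSeries k)))) (ModuleCat.of ↥A ↥(Submodule.span ↥A ({1, (PowerSeries.X : PowerSeries k)} : Set (PowerSeries k)))) 1) = 2 ∧ Module.length ↥A (Abelian.Ext (ModuleCat.of ↥A ↥(Submodule.span ↥A ({1, (PowerSeries.X : PowerSeries k) ^ 2} : Set (PowerSeries k)))) (ModuleCat.of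 ↥A ↥(Submodule.span ↥A ({1, (PowerSeries.X : PowerSeries k) ^ 2} : Set (PowerSeries k)))) 1) = 4 ∧ Module.length ↥A (Abelian.Ext (ModuleCat.of ↥A ↥(Submodule.span ↥A ({1, (PowerSeries.X : PowerSeries k), (PowerSeries.X : PowerSeries k) ^ 2} : Set (PowerSeries k)))) (ModuleCat.of ↥A ↥(Submodule.span ↥A ({1, (PowerSeries.X : PowerSeries k), (PowerSeries.X : PowerSeries k) ^ 2} : Set (PowerSeries k)))) 1) = 6 := by
  refine ⟨?_, ?_, ?_, ?_⟩
  · have h := case1 A hmono
    rwa [← span_one A hmono] at h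
  · have h := case2 A hmono
    rwa [← span_two A hmono, pow_one] at h
  · have h := case3 A hmono
    rwa [← span_three A hmono] at h
  · rw [span_four A hmono, ← length_top A hmono]
    exact ((ExtOne.extCongrLeft (Submodule.topEquiv (R := A) (M := k⟦X⟧)) 1).trans
      (ExtOne.extCongrRight (Submodule.topEquiv (R := A) (M := k⟦X⟧)) 1)).length_eq

end K840.E6
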