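import Groth.Agent.TFCurv.K840.CanDim1
import Groth.Agent.SDiv.K476.HomSh3
import Groth.Agent.CohqB.AffIso
import Groth.Agent.S1686
import Groth.Prelude.Def_TorSh
import Mathlib.AlgebraicGeometry.FunctionField

/-!
# Biduality of torsion-free coherent modules with respect to a canonical module on a curve

* `evMap F W : F ⟶ 𝓗om(𝓗om(F, W), W)`, with `evalStalk_evMap`;
* `isIso_evMap`.
-/

set_option autoImplicit false
universe u

noncomputable section

open CategoryTheory CategoryTheory.Limits AlgebraicGeometry TopologicalSpace Opposite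

namespace K840.OmegaBid

open RefHull K476.HomSh1 K476.HomSh2 K476.HomSh3

variable {X : Scheme.{u}} (F W : X.Modules)

/-- Evaluation at an element of the stalk. -/
def evAt (x : X) : F.presheaf.stalk x →ₗ[X.presheaf.stalk x] StalkHom (homSh F W) W x where
  toFun v := (LinearMap.applyₗ v).comp (evalStalk F W x)
  map_add' v w := LinearMap.ext fun θ => map_add (evalStalk F W x θ) v w
  map_smul' a v := LinearMap.ext fun θ => map_smul (evalStalk F W x θ) a v

theorem evAt_apply (x : X) (v : F.presheaf.stalk x) (θ : (homSh F W).presheaf.stalk x) :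
    evAt F W x v θ = evalStalk F W x θ v := rfl

/-- Evaluation on sections over `U`. -/
def evFun (U : X.Opens) : Γ(F, U) →+ Γ(homSh (homSh F W) W, U) where
  toFun s := ⟨fun x => evAt F W x.1 (F.presheaf.germ U x.1 x.2 s), fun V i g x => by
    obtain ⟨V', hV', j, n, w⟩ := isLocSect_of_mem g V (𝟙 V) (F.presheaf.map i.op s) x
    refine ⟨V', hV', j, n, fun y => ?_⟩
    have e := w y
    rw [TopCat.Presheaf.germ_res_apply] at e
    rw [evAt_apply, evalStalk_germ]
    exact e⟩
  map_zero' := Subtype.ext <| funext fun x => by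
    simp only [map_zero]
    rfl
  map_add' s t := Subtype.ext <| funext fun x => by
    simp only [map_add]
    rfl

theorem evFun_apply {U : X.Opens} (s : Γ(F, U)) (x : U) :
    (evFun F W U s).1 x = evAt F W x.1 (F.presheaf.germ U x.1 x.2 s) := rfl

/-- The canonical morphism `F ⟶ 𝓗om(𝓗om(F, W), W)`. -/
def evMap : F ⟶ homSh (homSh F W) W :=
  ⟨PresheafOfModules.homMk
    { app := fun U => AddCommGrpCat.ofHom (evFun F W U.unop)
      naturality := fun {U V} i => by
        ext s
        refine Subtype.ext (funext fun x => ?_)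
        change evAt F W x.1 _ = evAt F W x.1 _
        exact congrArg _ (TopCat.Presheaf.germ_res_apply' F.presheaf i x.1 x.2 s) }
    (fun U r s => Subtype.ext <| funext fun x =>
      (congrArg (evAt F W x.1) (Mero.germ_smul F U.unop x.1 x.2 r s)).trans
        (map_smul (evAt F W x.1) _ _))⟩

theorem evMap_app {U : X.Opens} (s : Γ(F, U)) : (evMap F W).app U s = evFun F W U s := rfl

theorem evalStalk_evMap (x : X) (v : F.presheaf.stalk x) (θ : (homSh F W).presheaf.stalk x) :
    evalStalk (homSh F W) W x (stalkMapₗ (evMap F W) x v) θ = evalStalk F W x θ v := by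
  obtain ⟨U, hU, s, rfl⟩ := F.presheaf.exists_germ_eq v
  rw [stalkMapₗ_germ, evMap_app, evalStalk_germ, evFun_apply, evAt_apply]

theorem secMap_evFun {U : X.Opens} (s : Γ(F, U)) (g : Γ(homSh F W, U)) :
    secMap (evFun F W U s) le_rfl g = secMap g le_rfl s := by
  refine sec_ext W fun x hx => ?_
  rw [germ_secMap, germ_secMap, evFun_apply, evAt_apply, evalStalk_germ]

section Alg

theorem isMaximal_of_dim {R : Type u} [CommRing R] [IsDomain R] (h : ringKrullDim R ≤ 1)
    (p : Ideal R) (hp : p.IsPrime) (hp0 : p ≠ ⊥) : p.IsMaximal := by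
  have h1 : Ring.KrullDimLE 1 R := by
    rw [Ring.krullDimLE_iff]
    exact h
  exact (Ring.krullDimLE_one_iff_of_noZeroDivisors.1 h1) p hp0 hp

end Alg

theorem smul_eq_zero_section [IsIntegral X] (hF : TorSh.IsTorsionFree F) {V : X.Opens}
    (r : Γ(X, V)) (s : Γ(F, V)) (h : r • s = 0) : r = 0 ∨ s = 0 := by
  by_cases hr : r = 0
  · exact Or.inl hr
  · refine Or.inr (sec_ext F fun x hx => ?_)
    have h1 : X.presheaf.germ V x hx r • F.presheaf.germ V x hx s = 0 := by
      rw [← Mero.germ_smul, h, map_zero]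
    have h2 : X.presheaf.germ V x hx r ≠ 0 := by
      intro h0
      apply hr
      have : Nonempty V := ⟨⟨x, hx⟩⟩
      exact (map_eq_zero_iff _ (germ_injective_of_isIntegral X x hx)).1 h0
    have := hF x
    rw [map_zero]
    exact (smul_eq_zero.1 h1).resolve_left h2

variable [IsIntegral X] [IsLocallyNoetherian X]

theorem isIso_evMap (hdim : topologicalKrullDim X ≤ 1) (hF : Coh.IsCoh F)
    (hFt : TorSh.IsTorsionFree F) (hW : Coh.IsCoh W)
    (hdual : ∀ V : X.Opens, IsAffineOpen V → (V : Set X).Nonempty →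
      (∃ n : ℕ, HasInjectiveDimensionLT (ModuleCat.of Γ(X, V) Γ(W, V)) n) ∧
      Function.Bijective (fun a : Γ(X, V) => (a • LinearMap.id : Γ(W, V) →ₗ[Γ(X, V)] Γ(W, V)))) :
    IsIso (evMap F W) := by
  have hD : Coh.IsCoh (homSh F W) := isCoh_homSh hF hW
  have hDD : Coh.IsCoh (homSh (homSh F W) W) := isCoh_homSh hD hW
  have : Coh.IsQCoh F := hF.1
  have : Coh.IsQCoh (homSh (homSh F W) W) := hDD.1
  refine Groth.Agent.CohqB.AffIso.isIso_of_affine_cover _ fun x => ?_
  obtain ⟨V, hV, hxV, -⟩ := exists_isAffineOpen_mem_and_subset (X := X) (x := x) (U := ⊤) trivial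
  refine ⟨V, hxV, hV, ?_⟩
  have : Nonempty V := ⟨⟨x, hxV⟩⟩
  have : IsDomain Γ(X, V) := inferInstance
  have : IsNoetherianRing Γ(X, V) := IsLocallyNoetherian.component_noetherian ⟨V, hV⟩
  have hdimV : ringKrullDim Γ(X, V) ≤ 1 := by
    rw [← Groth.Agent.S1686.topologicalKrullDim_affine hV]
    exact (topologicalKrullDim_subspace_le X (V : Set X)).trans hdim
  have : Module.Finite Γ(X, V) Γ(F, V) := Groth.Agent.Divis.StalkMod.finite_sections hF hV
  have : Module.Finite Γ(X, V) Γ(W, V) := Groth.Agent.Divis.StalkMod.finite_sections hW hV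
  obtain ⟨h1, h2⟩ := hdual V hV ⟨x, hxV⟩
  let a := affEquivSelf (G := W) hV hF.1
  let b := affEquivSelf (G := W) hV hD.1
  have h3 : ∀ (m : Γ(F, V)) (s : Γ(homSh (homSh F W) W, V)),
      (evMap F W).app V m = s ↔
      ∀ g : Γ(F, V) →ₗ[Γ(X, V)] Γ(W, V), g m = ((b s).comp a.symm.toLinearMap) g := by
    intro m s
    constructor
    · rintro rfl g
      change g m = secMap ((evMap F W).app V m) le_rfl (a.symm g)
      rw [evMap_app, secMap_evFun]
      exact (secMap_affEquivSelf_symm hV hF.1 g m).symm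
    · intro h
      apply b.injective
      ext φ
      change secMap ((evMap F W).app V m) le_rfl φ = b s φ
      rw [evMap_app, secMap_evFun]
      have h4 := h (a φ)
      change secMap φ le_rfl m = b s (a.symm (a φ)) at h4
      rw [LinearEquiv.symm_apply_apply] at h4
      exact h4
  have key := CanDim1.eval_bijective (W := Γ(W, V)) (isMaximal_of_dim hdimV) h1 h2 Γ(F, V)
    (smul_eq_zero_section F hFt)
  constructor
  · intro m m' hmm'
    obtain ⟨z, hz, hu⟩ := key ((b ((evMap F W).app V m')).comp a.symm.toLinearMap)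
    exact (hu m ((h3 m _).1 hmm')).trans (hu m' ((h3 m' _).1 rfl)).symm
  · intro s
    obtain ⟨z, hz, -⟩ := key ((b s).comp a.symm.toLinearMap)
    exact ⟨z, (h3 z s).2 hz⟩

end K840.OmegaBid
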