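import Groth.Agent.TFCurv.K840.CanDim1
import Groth.Agent.Dual.H341.CMSch
import Groth.Agent.Dual.H342.HypField
import Groth.Agent.AssSch.K109.AffineHom
import Groth.Agent.LoccohB.DualShift
import Groth.Agent.Localalg.DGor
import Groth.Agent.CurvesB.CMDimOne
import Groth.Agent.CurvesB.DimPts
import Groth.Agent.S3638

/-!
# The dualizing module of an integral proper curve, on affine opens
-/

set_option autoImplicit false
universe u

noncomputable section

open CategoryTheory CategoryTheory.Limits AlgebraicGeometry TopologicalSpace Opposite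
attribute [local instance] HasDerivedCategory.standard

namespace K840.OmegaLoc

open DerivedCategory Groth.Agent

section Alg

variable {A : Type u} [CommRing A] (W : Type u) [AddCommGroup W] [Module A W]

theorem exists_hasInjectiveDimensionLT (h : Dual.IsDualizing A (Dual.inD A W)) :
    ∃ n : ℕ, HasInjectiveDimensionLT (ModuleCat.of A W) n := by
  obtain ⟨a, b, hab⟩ := h.finite_injective_dimension
  refine ⟨(b + 1).toNat, HasInjectiveDimensionLT.mk fun i hi Y x => ?_⟩
  have h1 := hab Y (i : ℤ) (Or.inr (by have := Int.self_le_toNat (b + 1); lia))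
  have h2 : Subsingleton (Abelian.Ext (ModuleCat.of A Y) (ModuleCat.of A W) i) :=
    (Localalg.DGor.subsingleton_hom_iff A Y W i).1 h1
  exact h2.elim _ _

theorem end_bijective (h : Dual.IsDualizing A (Dual.inD A W)) :
    Function.Bijective (fun a : A => (a • LinearMap.id : W →ₗ[A] W)) := by
  have h2 : Function.Bijective (fun f : ModuleCat.of A W ⟶ ModuleCat.of A W =>
      (singleFunctor (ModuleCat.{u} A) 0).map f) :=
    ⟨Functor.map_injective _, Functor.map_surjective _⟩
  have h3 : (fun a : A => a • 𝟙 (Dual.inD A W)) =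
      (fun f : ModuleCat.of A W ⟶ ModuleCat.of A W => (singleFunctor (ModuleCat.{u} A) 0).map f) ∘
        (fun a : A => a • 𝟙 (ModuleCat.of A W)) := by
    funext a
    simp only [Function.comp_apply]
    rw [Functor.map_smul, CategoryTheory.Functor.map_id]
  have h4 : Function.Bijective (fun a : A => a • 𝟙 (ModuleCat.of A W)) := by
    have h5 := h.toEnd_bijective
    rw [h3] at h5
    exact (Function.Bijective.of_comp_iff' h2 _).1 h5
  exact (ModuleCat.homEquiv (M := ModuleCat.of A W) (N := ModuleCat.of A W)).bijective.comp h4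

theorem isDualizing_HD {ω : Dual.D A} (hω : Dual.IsDualizing A ω) (c : ℤ)
    (h : ∀ i : ℤ, i ≠ c → Subsingleton (Dual.HD A ω i)) :
    Dual.IsDualizing A (Dual.inD A (Dual.HD A ω c)) := by
  obtain ⟨e⟩ := Dual.H341.CMAlg.nonempty_inD_iso ω c h
  exact LoccohB.DualShift.isDualizing_of_iso e.symm (LoccohB.DualShift.isDualizing_shift ω hω c)

theorem isDualizing_of_linearEquiv {W : Type u} [AddCommGroup W] [Module A W] (W' : Type u)
    [AddCommGroup W'] [Module A W']
    (e : ModuleCat.of A W ≅ ModuleCat.of A W') (h : Dual.IsDualizing A (Dual.inD A W)) :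
    Dual.IsDualizing A (Dual.inD A W') :=
  LoccohB.DualShift.isDualizing_of_iso ((singleFunctor (ModuleCat.{u} A) 0).mapIso e) h

/-- Noetherian local domains of dimension at most one are Cohen–Macaulay. -/
theorem isCM_of_domain (R : Type u) [CommRing R] [IsDomain R] [IsLocalRing R] [IsNoetherianRing R]
    (h : ringKrullDim R ≤ 1) : LocCoh.IsCohenMacaulayLocalRing R := by
  by_cases hm : IsLocalRing.maximalIdeal R = ⊥
  · exact CurvesB.CMDimOne.of_dim_zero R
      (ringKrullDim_eq_zero_of_isField (IsLocalRing.isField_iff_maximalIdeal_eq.2 hm))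
  · refine CurvesB.CMDimOne.of_dim_one R h fun a ha => ?_
    obtain ⟨m, hm1, hm2⟩ := Submodule.exists_mem_ne_zero_of_ne_bot hm
    exact (mul_eq_zero.1 (ha m hm1)).resolve_left hm2

end Alg

section Geom

open Groth.Agent.PerfA.CohDim Groth.Agent.PerfC.Supp Groth.Agent.PerfA.Restrict
open Groth.Agent.PerfA Groth.Agent.PerfA.TildeSupp

variable {X : Scheme.{u}} {K : DCoh.D X}

theorem isDualizing_sections (hK : Dual2.IsDualizingSch X K) (c : ℤ)
    (hc : ∀ i : ℤ, i ≠ c → IsZero (DCoh.HD K i)) (hq : Coh.IsQCoh (DCoh.HD K c)) {V : X.Opens}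
    (hV : IsAffineOpen V) :
    Dual.IsDualizing Γ(X, V) (Dual.inD Γ(X, V) Γ(DCoh.HD K c, V)) := by
  let A : Type u := Γ(X, V)
  let j : Spec (CommRingCat.of A) ⟶ X := hV.fromSpec
  obtain ⟨ω, hω, ⟨e⟩⟩ := hK A j
  have hsub : ∀ i : ℤ, i ≠ c → Subsingleton (Dual.HD A ω i) := by
    intro i hi
    rw [← Module.support_eq_empty_iff (R := A), Set.eq_empty_iff_forall_notMem]
    intro q hq
    have h1 := (mem_supp_iff K j ω e i q).2 hq
    have h2 : supp K i = ∅ := (supp_eq_empty_iff K i).2 (hc i hi)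
    rw [h2] at h1
    exact h1
  let N : ModuleCat.{u} (CommRingCat.of A) :=
    (DerivedCategory.homologyFunctor (ModuleCat.{u} A) c).obj ω
  let e2 : (DCoh.HD K c).restrict j ≅ tilde (R := CommRingCat.of A) N :=
    (HDrestrict j K c).symm ≪≫ (DerivedCategory.homologyFunctor _ c).mapIso e ≪≫
      HDtilde (R := CommRingCat.of A) ω c
  let e3 : (DCoh.HD K c).restrict j ≅ tilde (R := CommRingCat.of A) (ModuleCat.of A Γ(DCoh.HD K c, V)) :=
    K109.AffineHom.restrictFromSpecIso (DCoh.HD K c) hq hV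
  let e4 : N ≅ ModuleCat.of A Γ(DCoh.HD K c, V) :=
    (tilde.functor (CommRingCat.of A)).preimageIso (e2.symm ≪≫ e3)
  exact isDualizing_of_linearEquiv (W := Dual.HD A ω c) _ e4 (isDualizing_HD hω c hsub)

variable (k : Type u) [Field k] (X : Scheme.{u}) (f : X ⟶ Spec (CommRingCat.of k)) [IsProper f]
  [IsIntegral X] (hdim : topologicalKrullDim X = 1)
  [DCoh.HasRpush f] (hf : DCoh.RpushPreservesQCoh f)
  (a : DCoh.DQCoh (Spec (CommRingCat.of k)) ⥤ DCoh.DQCoh X) (adj : DCoh.RpushQ f hf ⊣ a)
  (O : DCoh.DQCoh (Spec (CommRingCat.of k)))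
  (hO : Nonempty (O.obj ≅ DCoh.inD (Spec (CommRingCat.of k))
    (Coh.structureModule (Spec (CommRingCat.of k)))))

include adj hO hdim

theorem isZero_HD (i : ℤ) (hi : i ≠ -(1 : ℤ)) : IsZero (DCoh.HD (a.obj O).obj i) := by
  have hLN : IsLocallyNoetherian X := LocallyOfFiniteType.isLocallyNoetherian f
  have hcomp : CompactSpace X := QuasiCompact.compactSpace_of_compactSpace f
  refine Dual.H341.CMSch.isZero_HD (Dual.H342.HypField.isDualizingSch k X f hf a adj O hO)
    (Dual.H342.HypField.hyp k X f hf a adj O hO) (fun x => ?_) 1 (fun Z hZ => ?_) i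
    (by simpa using hi)
  · exact isCM_of_domain _ (hdim ▸ CurvesB.DimPts.ringKrullDim_stalk_le x)
  · rw [irreducibleComponents_eq_singleton] at hZ
    rw [hZ]
    exact (IsHomeomorph.topologicalKrullDim_eq _ (Homeomorph.Set.univ X).isHomeomorph).trans hdim

omit [IsIntegral X] in
theorem isCoh : Coh.IsCoh (DCoh.HD (a.obj O).obj (-(1 : ℤ))) :=
  (Groth.Agent.S3638.result k X f 1 hdim hf a adj O hO).1.1

theorem isDualizing {V : X.Opens} (hV : IsAffineOpen V) :
    Dual.IsDualizing Γ(X, V) (Dual.inD Γ(X, V) Γ(DCoh.HD (a.obj O).obj (-(1 : ℤ)), V)) :=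
  isDualizing_sections (Dual.H342.HypField.isDualizingSch k X f hf a adj O hO) (-1)
    (isZero_HD k X f hdim hf a adj O hO) (isCoh k X f hdim hf a adj O hO).1 hV

end Geom

end K840.OmegaLoc
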