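import Groth.Agent.SDiv.K476.HomSh3
import Groth.Agent.CurvesC.DualPair
import Groth.Agent.CurvesC.HV0
import Groth.Agent.CurvesC.EulerHV

/-!
# `H^0(𝓗om(F, w)) = H^1(F)^*` for a dual pair `(w, t)`, and Euler characteristics
-/

set_option autoImplicit false
universe u

noncomputable section

open CategoryTheory CategoryTheory.Limits AlgebraicGeometry TopologicalSpace Opposite

namespace K840.OmegaDeg

open RefHull K476.HomSh1 Groth.Agent.CurvesC

variable {k : Type u} [Field k] {X : Scheme.{u}} [X.Over (Spec (CommRingCat.of k))]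
  {F w : X.Modules}

theorem toHom_smul (c : k) (g : Γ(homSh F w, ⊤)) :
    toHom (HV.glob k X c • g) = Formal.smulMod k F c ≫ toHom g := by
  refine Scheme.Modules.hom_ext _ _ (fun V => ?_)
  ext m
  refine sec_ext w (fun x hx => ?_)
  change w.presheaf.germ V x hx (secMap (HV.glob k X c • g) le_top m) =
    w.presheaf.germ V x hx (secMap g le_top ((Formal.smulMod k F c).app V m))
  rw [HV.smulMod_app, map_smul, Mero.germ_smul, germ_secMap, germ_secMap]
  have h1 : X.presheaf.germ V x hx (HV.globOn k X V c) =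
      X.presheaf.germ ⊤ x trivial (HV.glob k X c) :=
    TopCat.Presheaf.germ_res_apply X.presheaf (homOfLE (le_top : V ≤ ⊤)) x hx _
  rw [h1]
  rfl

/-- `H^0(𝓗om(F, w)) = H^1(F)^*`. -/
def lin {t : HV X w 1 →ₗ[k] k} (h : IsDual w t) (hF : Coh.IsQCoh F) :
    HV X (homSh F w) 0 ≃ₗ[k] (HV X F 1 →ₗ[k] k) :=
  { (HV.zero (homSh F w)).trans ((homEquiv F w).symm.trans (h.homEquiv hF)) with
    map_smul' := fun c x => by
      change h.homEquiv hF (toHom (HV.zero (homSh F w) (c • x))) =
        c • h.homEquiv hF (toHom (HV.zero (homSh F w) x))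
      rw [HV.zero_smul, toHom_smul, h.homEquiv_smul] }

theorem finrank_zero {t : HV X w 1 →ₗ[k] k} (h : IsDual w t) (hF : Coh.IsQCoh F) :
    Module.finrank k (HV X (homSh F w) 0) = Module.finrank k (HV X F 1) :=
  (lin h hF).finrank_eq.trans Subspace.dual_finrank_eq

theorem finrank_iso {F G : X.Modules} (e : F ≅ G) (n : ℕ) :
    Module.finrank k (HV X F n) = Module.finrank k (HV X G n) := by
  refine LinearEquiv.finrank_eq (LinearEquiv.ofLinearMap (HV.map k e.hom n) (HV.map k e.inv n) ?_ ?_)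
  · rw [← HV.map_comp, e.inv_hom_id, HV.map_id]
  · rw [← HV.map_comp, e.hom_inv_id, HV.map_id]

/-- `χ(F^*) = -χ(F)` if `F → F^{**}` is an isomorphism. -/
theorem euler_homSh [IsProper (X ↘ (Spec (CommRingCat.of k)))] (hd : topologicalKrullDim X ≤ 1)
    {t : HV X w 1 →ₗ[k] k} (h : IsDual w t) (hF : Coh.IsQCoh F) (hFw : Coh.IsQCoh (homSh F w))
    (e : F ≅ homSh (homSh F w) w) :
    Curv2.euler k X (homSh F w) = - Curv2.euler k X F := by
  rw [EulerHV.euler_eq k X hd, EulerHV.euler_eq k X hd, finrank_zero h hF,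
    ← finrank_zero h hFw, finrank_iso (k := k) e 0]
  ring

end K840.OmegaDeg
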