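import Groth.Agent.TFCurv.K840.BirPush
import Groth.Agent.Unram17.K135.NormIff
import Groth.Agent.CurvesC.NormNagata
import Groth.Agent.Resolve.K373.NormFin

/-!
# The normalization of an integral scheme of finite type over a field: finite, birational
-/

set_option autoImplicit false
universe u

open CategoryTheory CategoryTheory.Limits AlgebraicGeometry

namespace K840.NormBir

/-- A field is a Nagata ring. -/
theorem isNagata_field (k : Type u) [Field k] : CAlg.IsNagata k := by
  refine ⟨inferInstance, ?_⟩
  intro p hp L _ _ _ _ hfin
  have hp' : p = ⊥ := by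
    rcases Ideal.eq_bot_or_top p with h | h
    · exact h
    · exact absurd h hp.ne_top
  have hmax : p.IsMaximal := by rw [hp']; exact Ideal.bot_isMaximal
  let : Field (k ⧸ p) := Ideal.Quotient.field p
  have hsurj : Function.Surjective (algebraMap (k ⧸ p) (FractionRing (k ⧸ p))) :=
    IsField.localization_map_bijective (M := nonZeroDivisors (k ⧸ p)) zero_notMem_nonZeroDivisors
      (Field.toIsField (k ⧸ p)) |>.2
  have h1 : Module.Finite (k ⧸ p) (FractionRing (k ⧸ p)) :=
    Module.Finite.of_surjective (Algebra.linearMap (k ⧸ p) (FractionRing (k ⧸ p))) hsurj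
  have h2 : Module.Finite (k ⧸ p) L := Module.Finite.trans (FractionRing (k ⧸ p)) L
  exact Module.Finite.of_injective (Subalgebra.val (integralClosure (k ⧸ p) L)).toLinearMap
    Subtype.val_injective

variable (X : Scheme.{u}) [IsIntegral X]
    [QuasiCompact (X.fromSpecStalk (genericPoint X))] [QuasiSeparated (X.fromSpecStalk (genericPoint X))]

theorem isIntegral_norm : IsIntegral (Curv2.normalization X) :=
  (Groth.Agent.Unram17.K135.NormIff.normalizationι_birational X).1

/-- The normalization is birational. -/
theorem bir [IrreducibleSpace (Curv2.normalization X)] :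
    BirPush.Bir (Curv2.normalizationι X) := by
  obtain ⟨-, -, h1, h2, h3⟩ := Groth.Agent.Unram17.K135.NormIff.birational_of_iso X
    (Curv2.normalizationι X) (Iso.refl _) (Category.id_comp _)
  have h4 : ∀ z : Curv2.normalization X, (Curv2.normalizationι X).base z = genericPoint X ↔
      z = genericPoint (Curv2.normalization X) := fun z => by
    have := Set.ext_iff.1 h2 z
    simpa using this
  refine ⟨(h4 _).2 rfl, fun z hz => (h4 z).1 hz, ?_⟩
  exact (ConcreteCategory.isIso_iff_bijective _).1 h3

theorem isFinite (k : Type u) [Field k] [X.Over (Spec (CommRingCat.of k))]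
    [LocallyOfFiniteType (X ↘ Spec (CommRingCat.of k))] : IsFinite (Curv2.normalizationι X) :=
  Groth.Agent.CurvesC.NormNagata.isFinite_normalizationι k (isNagata_field k) X
    (X ↘ Spec (CommRingCat.of k))

end K840.NormBir
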