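import Groth.Agent.TFCurv.K840.BirPush
import Groth.Agent.ShStab.K846.FinExt
import Groth.Agent.ShStab.K849.HilbFacts
import Groth.Agent.Sga5.AmpleFib
import Groth.Agent.VarietyA.DegRank
import Groth.Agent.FormalB.PpFinal
import Groth.Agent.FormalA.PullbackQC

/-!
# Semistability and direct images along finite birational morphisms of curves

`f : Y ⟶ X` finite over `k`, `X` proper over `k`, polarised by `L` (ample) and `f^*L`.

* `isHilbPoly_push_iff`, `hp_push`, `hv_push`: the Hilbert polynomial of `f_*M` is that of `M`;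
* `isSemistable_of_push`, `isStable_of_push`: if `f_*E` is (semi)stable so is `E`;
* `isSemistable_push`, `isStable_push`: the converse, `f` birational, `X`, `Y` integral of dimension one.
-/

set_option autoImplicit false
universe u

noncomputable section

open CategoryTheory CategoryTheory.Limits AlgebraicGeometry TopologicalSpace Opposite Polynomial

namespace K840.StabPush

open K846.Gies Groth.Agent.Fdesc.PullbackStalk Groth.Agent.Fdesc.Skyscraper

variable {k : Type u} [Field k] {X Y : Scheme.{u}} [X.Over (Spec (CommRingCat.of k))]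
  [Y.Over (Spec (CommRingCat.of k))] (f : Y ⟶ X) [IsFinite f]
  (hf : f ≫ (X ↘ Spec (CommRingCat.of k)) = Y ↘ Spec (CommRingCat.of k))
  [IsProper (X ↘ Spec (CommRingCat.of k))]

include hf in
theorem isProper_top : IsProper (Y ↘ Spec (CommRingCat.of k)) := by
  rw [← hf]
  infer_instance

include hf in
theorem euler_twist_push {L : X.Modules} (hL : PicF.IsInvertible L) {M : Y.Modules}
    (hM : Coh.IsCoh M) (m : ℕ) :
    Curv2.euler k X (ShStab.twist X L ((Scheme.Modules.pushforward f).obj M) m) =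
      Curv2.euler k Y (ShStab.twist Y ((Scheme.Modules.pullback f).obj L) M m) := by
  have hp := isProper_top f hf
  have hLm := Groth.Agent.Fdesc.LocGen.isInvertible_tensorPow hL m
  obtain ⟨e1⟩ := Groth.Agent.Ega3B.PullTensor.nonempty_pullPowIso f hL m
  let G := ShStab.twist _ ((Scheme.Modules.pullback f).obj L) M m
  have hG : Coh.IsCoh G := K846.Twist.isCoh_twist
    (Groth.Agent.Fdesc.LocGen.isInvertible_pullback f hL) hM m
  let e : ShStab.twist _ L ((Coh.push f).obj M) m ≅ (Coh.push f).obj G :=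
    Groth.Agent.Ega2.Tens.swap _ _ ≪≫
      Groth.Agent.VarietyB.ProjForm.projIso f
        (Groth.Agent.Fga.HodgePush.hasBases_of_isInvertible hLm) M ≪≫
      (Scheme.Modules.pushforward f).mapIso
        (Groth.Agent.Ega2.Tens.mapTIso e1 (Iso.refl _) ≪≫ Groth.Agent.Ega2.Tens.swap _ _)
  have h1 := Groth.Agent.Fga.HodgePush.euler_push k X Y f hf G hG
    (Groth.Agent.Fga.HodgePush.acyc_of_isAffineHom f hG.1)
  exact (Groth.Agent.Fga.HodgePush.euler_congr k X e).trans h1.symm

include hf in
theorem isHilbPoly_push_iff {L : X.Modules} (hL : PicF.IsInvertible L) {M : Y.Modules}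
    (hM : Coh.IsCoh M) (P : ℚ[X]) :
    ShStab.IsHilbPoly k X L ((Scheme.Modules.pushforward f).obj M) P ↔
      ShStab.IsHilbPoly k Y ((Scheme.Modules.pullback f).obj L) M P := by
  unfold ShStab.IsHilbPoly
  refine forall_congr' fun m => ?_
  rw [euler_twist_push f hf hL hM m]

section Dict

variable {L : X.Modules} (hL : CohB1.IsAmple L)

include hf hL

theorem facts : HilbFacts k Y ((Scheme.Modules.pullback f).obj L) :=
  haveI := isProper_top f hf
  K849.HilbFacts.gies k Y (Groth.Agent.Sga5.AmpleFib.isAmple_pullback f hL)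

theorem hp_push {M : Y.Modules} (hM : Coh.IsCoh M) :
    hp k L ((Scheme.Modules.pushforward f).obj M) = hp k ((Scheme.Modules.pullback f).obj L) M :=
  hp_eq ((isHilbPoly_push_iff f hf hL.1 hM _).2 (isHilbPoly_hp (facts f hf hL) hM))

theorem hv_push {M : Y.Modules} (hM : Coh.IsCoh M) :
    hv k L ((Scheme.Modules.pushforward f).obj M) = hv k ((Scheme.Modules.pullback f).obj L) M :=
  congrArg _ (hp_push f hf hL hM)

end Dict

include hf in
theorem isLocallyNoetherian : IsLocallyNoetherian X ∧ IsLocallyNoetherian Y := by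
  have := isProper_top f hf
  exact ⟨LocallyOfFiniteType.isLocallyNoetherian (X ↘ Spec (CommRingCat.of k)),
    LocallyOfFiniteType.isLocallyNoetherian (Y ↘ Spec (CommRingCat.of k))⟩

variable {L : X.Modules} (hL : CohB1.IsAmple L)

include hf hL

theorem okd_push {d : ℕ} {M : Y.Modules} (hM : Coh.IsCoh M) :
    okd k L d ((Scheme.Modules.pushforward f).obj M) ↔
      okd k ((Scheme.Modules.pullback f).obj L) d M := by
  obtain ⟨h1, h2⟩ := isLocallyNoetherian f hf
  have h3 : Coh.IsCoh ((Scheme.Modules.pushforward f).obj M) :=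
    Groth.Agent.FormalB.PpFinal.isCoh_push f M hM
  unfold okd
  rw [hp_push f hf hL hM]
  exact and_congr_left' ⟨fun _ => hM, fun _ => h3⟩

/-- If `f_* E` is semistable so is `E`. -/
theorem isSemistable_of_push {d : ℕ} {E : Y.Modules} (hE : Coh.IsCoh E)
    (h : ShStab.IsSemistable k X L ((Scheme.Modules.pushforward f).obj E) d) :
    ShStab.IsSemistable k Y ((Scheme.Modules.pullback f).obj L) E d := by
  obtain ⟨i1, i2⟩ := isLocallyNoetherian f hf
  have HX := K849.HilbFacts.gies k X hL
  have HY := facts f hf hL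
  rw [isSemistable_iff HY]
  rw [isSemistable_iff HX, okd_push f hf hL hE] at h
  obtain ⟨h1, h2, h3, h4⟩ := h
  refine ⟨h1, fun h0 => h2 (Functor.map_isZero _ h0), fun F ι hι hF h0 => ?_, fun F ι hι hF => ?_⟩
  · rw [← hv_push f hf hL hF.1]
    exact h3 _ ((Scheme.Modules.pushforward f).map ι) inferInstance
      ((okd_push f hf hL hF.1).2 hF) fun h0' => h0 (BirPush.isZero_of_push f hF.1.1 h0')
  · rw [← hv_push f hf hL hF.1, ← hv_push f hf hL hE]
    exact h4 _ ((Scheme.Modules.pushforward f).map ι) inferInstance ((okd_push f hf hL hF.1).2 hF)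

/-- If `f_* E` is stable so is `E`. -/
theorem isStable_of_push {d : ℕ} {E : Y.Modules} (hE : Coh.IsCoh E)
    (h : ShStab.IsStable k X L ((Scheme.Modules.pushforward f).obj E) d) :
    ShStab.IsStable k Y ((Scheme.Modules.pullback f).obj L) E d := by
  obtain ⟨i1, i2⟩ := isLocallyNoetherian f hf
  have HX := K849.HilbFacts.gies k X hL
  have HY := facts f hf hL
  rw [isStable_iff HY]
  rw [isStable_iff HX, okd_push f hf hL hE] at h
  obtain ⟨h1, h2, h3, h4⟩ := h
  refine ⟨h1, fun h0 => h2 (Functor.map_isZero _ h0), fun F ι hι hF h0 => ?_,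
    fun F ι hι hF h0 hi => ?_⟩
  · rw [← hv_push f hf hL hF.1]
    exact h3 _ ((Scheme.Modules.pushforward f).map ι) inferInstance
      ((okd_push f hf hL hF.1).2 hF) fun h0' => h0 (BirPush.isZero_of_push f hF.1.1 h0')
  · rw [← hv_push f hf hL hF.1, ← hv_push f hf hL hE]
    exact h4 _ ((Scheme.Modules.pushforward f).map ι) inferInstance
      ((okd_push f hf hL hF.1).2 hF) (fun h0' => h0 (BirPush.isZero_of_push f hF.1.1 h0'))
      fun hi' => hi (BirPush.isIso_of_push f hF.1.1 hE.1 ι hi')

section Bir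

variable [IrreducibleSpace X] [IrreducibleSpace Y] (hdim : topologicalKrullDim X ≤ 1)
  (hB : BirPush.Bir f)

include hdim hB

/-- Every coherent submodule `G` of `f_* E` is contained in `f_* F`, `F ⊆ E`, with `f_* F / G` of
dimension zero. -/
theorem exists_sub {E : Y.Modules} (hE : Coh.IsCoh E) {G : X.Modules} (hG : Coh.IsCoh G)
    (g : G ⟶ (Scheme.Modules.pushforward f).obj E) [Mono g] :
    ∃ (F : Y.Modules) (ι : F ⟶ E) (m : G ⟶ (Scheme.Modules.pushforward f).obj F), Mono ι ∧
      Mono m ∧ Coh.IsCoh F ∧ m ≫ (Scheme.Modules.pushforward f).map ι = g ∧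
      Coh.IsCoh (cokernel m) ∧ (hp k L (cokernel m)).natDegree ≤ 0 := by
  obtain ⟨i1, i2⟩ := isLocallyNoetherian f hf
  have HX := K849.HilbFacts.gies k X hL
  have HY := facts f hf hL
  obtain ⟨F, e, ι, m, he, hι, hF, hm, hs⟩ := BirPush.exists_sub hB g
  have hG' : Coh.IsCoh ((Scheme.Modules.pullback f).obj G) :=
    Groth.Agent.FormalA.PullbackQC.isCoh_pullback f G hG
  have hFc : Coh.IsCoh F := by
    rw [hF]
    exact (add_coh HY).ok_kernel _ hE ((add_coh HY).ok_cokernel _ hG' hE)
  have hfF : Coh.IsCoh ((Scheme.Modules.pushforward f).obj F) :=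
    Groth.Agent.FormalB.PpFinal.isCoh_push f F hFc
  have hmono : Mono m := by
    have : Mono (m ≫ (Scheme.Modules.pushforward f).map ι) := by rw [hm]; infer_instance
    exact mono_of_mono m ((Scheme.Modules.pushforward f).map ι)
  have hC : Coh.IsCoh (cokernel m) := (add_coh HX).ok_cokernel m hG hfF
  refine ⟨F, ι, m, hι, hmono, hFc, hm, hC, ?_⟩
  by_cases h0 : IsZero (cokernel m)
  · rw [hp_zero HX h0]
    simp
  · have h1 := natDegree_eq HX hC h0
    have hN : IsNoetherian X := Groth.Agent.Fga.IntAdd.isNoetherian k X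
    have h2 := Groth.Agent.VarietyA.DegRank.dim_support_le_zero hdim (cokernel m) hC
      (fun h => h hs)
    rw [h1] at h2
    exact_mod_cast h2

theorem isSemistable_push {E : Y.Modules}
    (h : ShStab.IsSemistable k Y ((Scheme.Modules.pullback f).obj L) E 1) :
    ShStab.IsSemistable k X L ((Scheme.Modules.pushforward f).obj E) 1 := by
  obtain ⟨i1, i2⟩ := isLocallyNoetherian f hf
  have HX := K849.HilbFacts.gies k X hL
  have HY := facts f hf hL
  have hE := h.1
  rw [isSemistable_iff HX, okd_push f hf hL hE]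
  rw [isSemistable_iff HY] at h
  obtain ⟨h1, h2, h3, h4⟩ := h
  have key : ∀ (G : X.Modules) (g : G ⟶ (Scheme.Modules.pushforward f).obj E), Mono g →
      okd k L 1 G → ∃ (F : Y.Modules) (ι : F ⟶ E), Mono ι ∧
      okd k ((Scheme.Modules.pullback f).obj L) 1 F ∧ (IsZero F → IsZero G) ∧
      K849.PolyOrd.alphaL 1 (hv k L G) =
        K849.PolyOrd.alphaL 1 (hv k ((Scheme.Modules.pullback f).obj L) F) ∧
      hv k L G ≤ hv k ((Scheme.Modules.pullback f).obj L) F := by
    intro G g hg hG
    obtain ⟨F, ι, m, hι, hm, hF, hmg, hC, hd⟩ := exists_sub f hf hL hdim hB hE hG.1 g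
    have hfF : Coh.IsCoh ((Scheme.Modules.pushforward f).obj F) :=
      Groth.Agent.FormalB.PpFinal.isCoh_push f F hF
    have hv1 := (add_coh HX).v_cokernel m hG.1 hfF
    rw [hv_push f hf hL hF] at hv1
    have hα : K849.PolyOrd.alphaL 1 (hv k L (cokernel m)) = 0 := by
      rw [hv, K849.PolyOrd.alphaL_toPV, StabCat.alpha,
        coeff_eq_zero_of_natDegree_lt (by omega), mul_zero]
    refine ⟨F, ι, hι, okd_of_mono HY ι hF h1, fun h0 => ?_, ?_, ?_⟩
    · exact IsZero.of_mono m (Functor.map_isZero _ h0)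
    · rw [hv1, map_sub] at hα
      exact (sub_eq_zero.1 hα).symm
    · have := hv_nonneg HX hC
      rw [hv1] at this
      exact sub_nonneg.1 this
  refine ⟨h1, fun h0 => h2 (BirPush.isZero_of_push f hE.1 h0), fun G g hg hG h0 => ?_,
    fun G g hg hG => ?_⟩
  · obtain ⟨F, ι, hι, hF, hz, hα, -⟩ := key G g hg hG
    rw [hα]
    exact h3 F ι hι hF fun h => h0 (hz h)
  · obtain ⟨F, ι, hι, hF, hz, hα, hle⟩ := key G g hg hG
    rw [hα, hv_push f hf hL hE]
    exact (smul_le_smul_of_nonneg_left hle (alpha_nonneg HY 1 E h1)).trans (h4 F ι hι hF)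

theorem isStable_push {E : Y.Modules}
    (h : ShStab.IsStable k Y ((Scheme.Modules.pullback f).obj L) E 1) :
    ShStab.IsStable k X L ((Scheme.Modules.pushforward f).obj E) 1 := by
  obtain ⟨i1, i2⟩ := isLocallyNoetherian f hf
  have HX := K849.HilbFacts.gies k X hL
  have HY := facts f hf hL
  have hE := h.1
  have hss := isSemistable_push f hf hL hdim hB (isSemistable_of_isStable h)
  rw [isSemistable_iff HX] at hss
  obtain ⟨h1', h2', h3', -⟩ := hss
  rw [isStable_iff HX]
  rw [isStable_iff HY] at h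
  obtain ⟨h1, h2, h3, h4⟩ := h
  refine ⟨h1', h2', h3', fun G g hg hG h0 hi => ?_⟩
  obtain ⟨F, ι, m, hι, hm, hF, hmg, hC, hd⟩ := exists_sub f hf hL hdim hB hE hG.1 g
  have hfF : Coh.IsCoh ((Scheme.Modules.pushforward f).obj F) :=
    Groth.Agent.FormalB.PpFinal.isCoh_push f F hF
  have hF' := okd_of_mono HY ι hF h1
  have hv1 := (add_coh HX).v_cokernel m hG.1 hfF
  rw [hv_push f hf hL hF] at hv1
  have hα : K849.PolyOrd.alphaL 1 (hv k L (cokernel m)) = 0 := by
    rw [hv, K849.PolyOrd.alphaL_toPV, StabCat.alpha,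
      coeff_eq_zero_of_natDegree_lt (by omega), mul_zero]
  rw [hv1, map_sub, sub_eq_zero] at hα
  have hle : hv k L G ≤ hv k ((Scheme.Modules.pullback f).obj L) F := by
    have := hv_nonneg HX hC
    rw [hv1] at this
    exact sub_nonneg.1 this
  have hαE : 0 < K849.PolyOrd.alphaL 1 (hv k ((Scheme.Modules.pullback f).obj L) E) :=
    h3 E (𝟙 E) inferInstance h1 h2
  rw [← hα, hv_push f hf hL hE]
  by_cases hi2 : IsIso ι
  · have e1 := (add_coh HY).v_iso (asIso ι) hF
    rw [e1] at hle ⊢
    refine smul_lt_smul_of_pos_left (lt_of_le_of_ne hle fun he => ?_) hαE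
    rw [e1, he, sub_self] at hv1
    have hz : IsZero (cokernel m) := by
      by_contra hz
      have := hv_pos HX hC hz
      rw [hv1] at this
      exact lt_irrefl _ this
    have hepi : Epi m := Preadditive.epi_of_isZero_cokernel m hz
    have : IsIso m := isIso_of_mono_of_epi m
    exact hi (hmg ▸ inferInstance)
  · exact (smul_le_smul_of_nonneg_left hle hαE.le).trans_lt (h4 F ι hι hF'
      (fun hz => h0 (IsZero.of_mono m (Functor.map_isZero _ hz))) hi2)

end Bir

end K840.StabPush
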