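import Groth.Agent.TFCurv.K840.InjDim1
import Groth.Agent.TFCurv.K840.PowSub
import Groth.Agent.TFCurv.K840.Mx

/-!
# Value sets of canonical duals
-/

set_option autoImplicit false
set_option linter.unusedSectionVars false
universe u

open CategoryTheory CategoryTheory.Abelian PowerSeries

namespace K840.CanDual

variable {k : Type u} [Field k] (A : Subalgebra k k⟦X⟧)

/-- The power series divisible by `X^j`. -/
noncomputable def P (j : ℕ) : Submodule A k⟦X⟧ where
  carrier := {f | X ^ j ∣ f}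
  add_mem' := fun h1 h2 => dvd_add h1 h2
  zero_mem' := dvd_zero _
  smul_mem' := fun _ _ h => dvd_mul_of_dvd_right h _

theorem mem_P (j : ℕ) (f : k⟦X⟧) : f ∈ P A j ↔ X ^ j ∣ f := Iff.rfl

theorem dvd_iff_order (j : ℕ) (f : k⟦X⟧) : X ^ j ∣ f ↔ (j : ℕ∞) ≤ order f := by
  rw [X_pow_dvd_iff]
  constructor
  · intro h
    exact nat_le_order f j h
  · intro h m hm
    apply coeff_of_lt_order
    exact lt_of_lt_of_le (by exact_mod_cast hm) h

theorem P_le_of_conductor
    (hcl : ∀ f : k⟦X⟧, (∀ n : ℕ, ∃ g ∈ A, (n : ℕ∞) ≤ order (f - g)) → f ∈ A) (c : ℕ)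
    (hc : ∀ n : ℕ, c ≤ n → ∃ f ∈ A, order f = n) (f : k⟦X⟧) (hf : X ^ c ∣ f) : f ∈ A := by
  rw [dvd_iff_order] at hf
  apply hcl
  intro n
  obtain ⟨g, hg, h⟩ := PowSub.exists_approx A (LinearMap.range (Algebra.linearMap A k⟦X⟧)) c
    (fun n hn => by
      obtain ⟨f, hf, h⟩ := hc n hn
      exact ⟨f, ⟨⟨f, hf⟩, rfl⟩, h⟩) f hf n
  obtain ⟨a, rfl⟩ := hg
  exact ⟨a, a.2, h⟩

variable (c : ℕ) (hP : ∀ f : k⟦X⟧, X ^ c ∣ f → f ∈ A)

include hP in
/-- Submodules of `k⟦X⟧` embed in `A`. -/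
theorem exists_embedding (N : Submodule A k⟦X⟧) :
    ∃ j : N →ₗ[A] A, Function.Injective j := by
  refine ⟨{ toFun := fun x => ⟨X ^ c * (x : k⟦X⟧), hP _ (dvd_mul_right _ _)⟩
            map_add' := fun x y => Subtype.ext (mul_add _ _ _)
            map_smul' := fun a x => Subtype.ext (mul_left_comm _ _ _) }, ?_⟩
  intro x y h
  apply Subtype.ext
  exact mul_left_cancel₀ (pow_ne_zero c X_ne_zero) (congrArg Subtype.val h)

include hP in
/-- Linear maps between submodules of `k⟦X⟧` are proportional. -/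
theorem hom_eq_mul (N ω : Submodule A k⟦X⟧) (h1 : (1 : k⟦X⟧) ∈ N) (φ : N →ₗ[A] ω) (y : N) :
    (φ y : k⟦X⟧) = y * φ ⟨1, h1⟩ := by
  have h2 : (⟨X ^ c, hP _ dvd_rfl⟩ : A) • y =
      (⟨X ^ c * (y : k⟦X⟧), hP _ (dvd_mul_right _ _)⟩ : A) • (⟨1, h1⟩ : N) := by
    apply Subtype.ext
    change X ^ c * (y : k⟦X⟧) = X ^ c * (y : k⟦X⟧) * 1
    rw [mul_one]
  have h3 := congrArg (fun z => (φ z : k⟦X⟧)) h2
  rw [map_smul, map_smul] at h3
  apply mul_left_cancel₀ (pow_ne_zero c (X_ne_zero (R := k)))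
  rw [← mul_assoc]
  exact h3

include hP in
theorem exists_pos : ∃ x ∈ A, X ∣ x ∧ x ≠ 0 :=
  ⟨X ^ (c + 1), hP _ (pow_dvd_pow _ (by omega)), dvd_pow_self _ (by omega),
    pow_ne_zero _ X_ne_zero⟩

variable (ω : Submodule A k⟦X⟧) (hω1 : (1 : k⟦X⟧) ∈ ω)

include hP hω1 in
theorem not_subsingleton_residue : ¬ Subsingleton (Ext.{u} (ModuleCat.of A (A ⧸ Mx.mx A))
    (ModuleCat.of A ω) 1) := by
  obtain ⟨x, hxA, hx0, hx⟩ := exists_pos A c hP
  have hPω : ∀ f : k⟦X⟧, X ^ c ∣ f → f ∈ ω := by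
    intro f hf
    have h1 := ω.smul_mem (⟨f, hP f hf⟩ : A) hω1
    change f * 1 ∈ ω at h1
    rwa [mul_one] at h1
  -- an element `w ∈ ω`, not in `x ω`, with `m w ⊆ x ω`
  have key : ∃ w ∈ ω, (¬ ∃ y ∈ ω, w = x * y) ∧ ∀ a ∈ A, X ∣ a → ∃ y ∈ ω, a * w = x * y := by
    by_contra hcon
    push Not at hcon
    have h1 : ∀ j : ℕ, ∃ w ∈ ω, (∀ y ∈ ω, w ≠ x * y) ∧ X ^ j ∣ w := by
      intro j
      induction j with
      | zero =>
        refine ⟨1, hω1, ?_, by simp⟩
        intro y _ h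
        have h2 : X ∣ (1 : k⟦X⟧) := h ▸ dvd_mul_of_dvd_left hx0 y
        rw [X_dvd_iff] at h2
        simp at h2
      | succ j ih =>
        obtain ⟨w, hw, hw1, hw2⟩ := ih
        obtain ⟨a, ha, ha0, h⟩ := hcon w hw hw1
        refine ⟨a * w, ω.smul_mem (⟨a, ha⟩ : A) hw, h, ?_⟩
        rw [pow_succ']
        exact mul_dvd_mul ha0 hw2
    obtain ⟨w, hw, hw1, hw2⟩ := h1 (c + (order x).toNat)
    have h3 : x * X ^ c ∣ w := by
      apply PowSub.mem_of_order_le (mul_ne_zero hx (pow_ne_zero _ X_ne_zero))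
      rw [dvd_iff_order] at hw2
      refine le_trans ?_ hw2
      rw [order_mul, order_X_pow, ← coe_toNat_order hx]
      push_cast
      rw [add_comm]
      exact le_rfl
    obtain ⟨v, rfl⟩ := h3
    exact hw1 (X ^ c * v) (hPω _ (dvd_mul_right _ _)) (mul_assoc _ _ _)
  obtain ⟨w, hw, hw1, hw2⟩ := key
  have hmem : ∀ a : Mx.mx A, X ∣ ((a : A) : k⟦X⟧) := by
    intro a
    rw [X_dvd_iff]
    exact (Mx.mem_mx A a).1 a.2
  have hex : ∀ a : Mx.mx A, ∃ y : ω, ((a : A) : k⟦X⟧) * w = x * y := by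
    intro a
    obtain ⟨y, hy, h⟩ := hw2 (a : A) (a : A).2 (hmem a)
    exact ⟨⟨y, hy⟩, h⟩
  choose f hf using hex
  have hinj : ∀ y z : ω, x * (y : k⟦X⟧) = x * z → y = z := fun y z h =>
    Subtype.ext (mul_left_cancel₀ hx h)
  let φ : Mx.mx A →ₗ[A] ω :=
    { toFun := f
      map_add' := fun a b => hinj _ _ (by
        rw [← hf]
        change _ = x * ((f a : k⟦X⟧) + (f b : k⟦X⟧))
        rw [mul_add, ← hf, ← hf]
        exact add_mul _ _ _)
      map_smul' := fun r a => hinj _ _ (by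
        rw [← hf]
        change _ = x * ((r : k⟦X⟧) * (f a : k⟦X⟧))
        rw [mul_left_comm, ← hf]
        exact mul_assoc _ _ _) }
  refine InjDim1.not_subsingleton_of_not_extend (Mx.mx A) φ fun ψ hψ => ?_
  have hxm : (⟨x, hxA⟩ : A) ∈ Mx.mx A := by
    rw [Mx.mem_mx]
    exact X_dvd_iff.1 hx0
  have h1 := LinearMap.congr_fun hψ ⟨⟨x, hxA⟩, hxm⟩
  have h2 : ψ (⟨x, hxA⟩ : A) = (⟨x, hxA⟩ : A) • ψ 1 := by
    rw [← map_smul, smul_eq_mul, mul_one]
  have h3 : x * w = x * (φ ⟨⟨x, hxA⟩, hxm⟩ : k⟦X⟧) :=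
    hf ⟨⟨x, hxA⟩, hxm⟩
  have h4 := mul_left_cancel₀ hx h3
  apply hw1
  refine ⟨ψ 1, (ψ 1).2, ?_⟩
  rw [h4, ← h1]
  change ((ψ (⟨x, hxA⟩ : A) : ω) : k⟦X⟧) = _
  rw [h2]
  rfl

variable (hωinj : HasInjectiveDimensionLT (ModuleCat.of A ω) 2)

include hP hω1 hωinj in
/-- The key duality statement. -/
theorem exists_mul (M : Submodule A k⟦X⟧) (hM1 : (1 : k⟦X⟧) ∈ M) (j : ℕ)
    (hj : ¬ ∃ m ∈ M, order m = j) :
    ∃ u : k⟦X⟧, (∀ m ∈ M, u * m ∈ ω) ∧ (∀ f, X ^ (j + 1) ∣ f → u * f ∈ ω) ∧ u * X ^ j ∉ ω := by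
  have hx : (X : k⟦X⟧) ^ j ∉ M ⊔ P A (j + 1) := by
    intro h
    obtain ⟨y, hy, z, ⟨z', hz⟩, hyz⟩ := Submodule.mem_sup.1 h
    apply hj
    refine ⟨y, hy, ?_⟩
    have h1 : y = X ^ j - X ^ (j + 1) * z' := by rw [← hyz, hz]; ring
    rw [h1, order_eq_nat]
    constructor
    · rw [map_sub, coeff_X_pow_self, coeff_X_pow_mul', if_neg (by omega), sub_zero]
      exact one_ne_zero
    · intro i hi
      rw [map_sub, coeff_X_pow, if_neg (by omega), coeff_X_pow_mul', if_neg (by omega), sub_zero]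
  have hm : ∀ a : A, a • (X : k⟦X⟧) ^ j ∈ M ⊔ P A (j + 1) ↔ a ∈ Mx.mx A := by
    intro a
    constructor
    · intro h
      obtain ⟨r, hr⟩ := Mx.mx_spec A a
      have h1 : (a - algebraMap k A r) • (X : k⟦X⟧) ^ j ∈ M ⊔ P A (j + 1) := by
        apply Submodule.mem_sup_right
        rw [mem_P, pow_succ']
        refine mul_dvd_mul ?_ dvd_rfl
        rw [X_dvd_iff]
        exact (Mx.mem_mx A _).1 hr
      have h2 : algebraMap k A r • (X : k⟦X⟧) ^ j ∈ M ⊔ P A (j + 1) := by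
        have h3 : algebraMap k A r • (X : k⟦X⟧) ^ j =
            a • (X : k⟦X⟧) ^ j - (a - algebraMap k A r) • (X : k⟦X⟧) ^ j := by
          change ((algebraMap k A r : A) : k⟦X⟧) * X ^ j =
            (a : k⟦X⟧) * X ^ j - ((a : k⟦X⟧) - ((algebraMap k A r : A) : k⟦X⟧)) * X ^ j
          ring
        rw [h3]
        exact Submodule.sub_mem _ h h1
      by_cases hr0 : r = 0
      · rw [hr0, map_zero, sub_zero] at hr
        exact hr
      · exfalso
        apply hx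
        have := Submodule.smul_mem _ (algebraMap k A r⁻¹) h2
        rwa [smul_smul, ← map_mul, inv_mul_cancel₀ hr0, map_one, one_smul] at this
    · intro h
      apply Submodule.mem_sup_right
      rw [mem_P, pow_succ']
      refine mul_dvd_mul ?_ dvd_rfl
      rw [X_dvd_iff]
      exact (Mx.mem_mx A _).1 h
  obtain ⟨e, he⟩ := exists_embedding A c hP ((M ⊔ P A (j + 1)) ⊔ Submodule.span A {X ^ j})
  obtain ⟨φ, hφ⟩ := InjDim1.exists_not_extend (N := ω) (Mx.mx A) (M ⊔ P A (j + 1)) (X ^ j) hm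
    (InjDim1.subsingleton_ext_one hωinj e he) (not_subsingleton_residue A c hP ω hω1)
  have h1 : (1 : k⟦X⟧) ∈ M ⊔ P A (j + 1) := Submodule.mem_sup_left hM1
  have hmul := hom_eq_mul A c hP (M ⊔ P A (j + 1)) ω h1 φ
  refine ⟨φ ⟨1, h1⟩, fun m hm => ?_, fun f hf => ?_, fun hcon => ?_⟩
  · have := hmul ⟨m, Submodule.mem_sup_left hm⟩
    rw [mul_comm]
    change _ = m * _ at this
    rw [← this]
    exact (φ _).2
  · have := hmul ⟨f, Submodule.mem_sup_right hf⟩
    rw [mul_comm]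
    change _ = f * _ at this
    rw [← this]
    exact (φ _).2
  · have hall : ∀ y : ↥((M ⊔ P A (j + 1)) ⊔ Submodule.span A {X ^ j}),
        (y : k⟦X⟧) * (φ ⟨1, h1⟩ : k⟦X⟧) ∈ ω := by
      rintro ⟨y, hy⟩
      obtain ⟨u, hu, v, hv, rfl⟩ := Submodule.mem_sup.1 hy
      obtain ⟨a, rfl⟩ := Submodule.mem_span_singleton.1 hv
      change (u + (a : k⟦X⟧) * X ^ j) * _ ∈ ω
      rw [add_mul]
      refine ω.add_mem ?_ ?_
      · have := hmul ⟨u, hu⟩
        change _ = u * _ at this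
        rw [← this]
        exact (φ _).2
      · rw [mul_assoc, mul_comm (X ^ j)]
        exact ω.smul_mem a hcon
    let ψ : ↥((M ⊔ P A (j + 1)) ⊔ Submodule.span A {X ^ j}) →ₗ[A] ω :=
      { toFun := fun y => ⟨_, hall y⟩
        map_add' := fun y z => Subtype.ext (add_mul _ _ _)
        map_smul' := fun a y => Subtype.ext (mul_assoc _ _ _) }
    refine hφ ψ ?_
    ext1 y
    apply Subtype.ext
    exact (hmul y).symm

include hP hω1 hωinj in
theorem main (hA1 : ∀ j : ℕ, (∃ f ∈ A, order f = j) → j ≠ c - 1)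
    (M : Submodule A k⟦X⟧) (hM1 : (1 : k⟦X⟧) ∈ M) (n : ℕ) :
    (∃ u : k⟦X⟧, order u = n ∧ ∀ m ∈ M, u * m ∈ ω) ↔
      (c ≤ n ∨ ¬ ∃ m ∈ M, order m = ((c - 1 - n : ℕ) : ℕ∞)) := by
  classical
  have hPω : ∀ f : k⟦X⟧, X ^ c ∣ f → f ∈ ω := by
    intro f hf
    have h1 := ω.smul_mem (⟨f, hP f hf⟩ : A) hω1
    change f * 1 ∈ ω at h1
    rwa [mul_one] at h1
  have hex : ∃ γ : ℕ, ∀ f : k⟦X⟧, X ^ γ ∣ f → f ∈ ω := ⟨c, hPω⟩
  -- the conductor of `ω` is `c`
  have hγ : Nat.find hex = c := by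
    apply le_antisymm (Nat.find_min' hex hPω)
    by_contra hlt
    push Not at hlt
    -- `c - 1 ∈ Γ`
    have h1 : ∃ f ∈ A, order f = ((c - 1 : ℕ) : ℕ∞) := by
      by_contra hcon
      have hcon' : ¬ ∃ m ∈ (LinearMap.range (Algebra.linearMap A k⟦X⟧)),
          order m = ((c - 1 : ℕ) : ℕ∞) := by
        rintro ⟨_, ⟨f, rfl⟩, hf⟩
        exact hcon ⟨f, f.2, hf⟩
      obtain ⟨u, _, _, hu⟩ := exists_mul A c hP ω hω1 hωinj
        (LinearMap.range (Algebra.linearMap A k⟦X⟧)) ⟨1, rfl⟩ (c - 1) hcon'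
      exact hu (Nat.find_spec hex _ (dvd_mul_of_dvd_right (pow_dvd_pow _ (by omega)) _))
    exact hA1 (c - 1) h1 rfl
  constructor
  · rintro ⟨u, hu, h⟩
    by_cases hn : c ≤ n
    · exact Or.inl hn
    · right
      rintro ⟨m, hm, hmo⟩
      have h1 := h m hm
      have h2 : order (u * m) = ((c - 1 : ℕ) : ℕ∞) := by
        rw [order_mul, hu, hmo, ← Nat.cast_add]
        congr 1
        omega
      -- then `c - 1` would be a conductor of `ω`
      have h3 : ∀ f : k⟦X⟧, X ^ (c - 1) ∣ f → f ∈ ω := by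
        intro f hf
        obtain ⟨h4, h5⟩ := order_eq_nat.1 h2
        set r : k := coeff (c - 1) f / coeff (c - 1) (u * m) with hr
        have h6 : f - r • (u * m) ∈ ω := by
          apply hPω
          rw [X_pow_dvd_iff]
          intro i hi
          rw [map_sub, coeff_smul, smul_eq_mul]
          rcases Nat.lt_or_ge i (c - 1) with h7 | h7
          · rw [X_pow_dvd_iff.1 hf i h7, h5 i h7, mul_zero, sub_zero]
          · obtain rfl : i = c - 1 := by omega
            rw [hr, div_mul_cancel₀ _ h4, sub_self]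
        have h7 := ω.add_mem h6 (PowSub.smul_mem' A ω r h1)
        rwa [sub_add_cancel] at h7
      have := Nat.find_min' hex h3
      omega
  · rintro (hn | hn)
    · refine ⟨X ^ n, order_X_pow n, fun m _ => hPω _ ?_⟩
      exact dvd_mul_of_dvd_left (pow_dvd_pow _ hn) _
    · by_cases hcn : c ≤ n
      · refine ⟨X ^ n, order_X_pow n, fun m _ => hPω _ ?_⟩
        exact dvd_mul_of_dvd_left (pow_dvd_pow _ hcn) _
      · obtain ⟨u, hu1, hu2, hu3⟩ := exists_mul A c hP ω hω1 hωinj M hM1 _ hn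
        refine ⟨u, ?_, hu1⟩
        have hu0 : u ≠ 0 := by
          rintro rfl
          rw [zero_mul] at hu3
          exact hu3 ω.zero_mem
        have hfac : ∀ j : ℕ, X ^ ((order u).toNat + j) ∣ u * X ^ j := by
          intro j
          rw [pow_add]
          refine mul_dvd_mul ?_ dvd_rfl
          rw [dvd_iff_order, coe_toNat_order hu0]
        have hge : n ≤ (order u).toNat := by
          by_contra hlt
          push Not at hlt
          -- `u X^{j+1} V ⊆ ω` gives a smaller conductor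
          have h3 : ∀ f : k⟦X⟧, X ^ (c - 1) ∣ f → f ∈ ω := by
            intro f hf
            have h4 : u * X ^ (c - 1 - n + 1) ∣ f := by
              apply PowSub.mem_of_order_le (mul_ne_zero hu0 (pow_ne_zero _ X_ne_zero))
              rw [dvd_iff_order] at hf
              refine le_trans ?_ hf
              rw [order_mul, order_X_pow, ← coe_toNat_order hu0, ← Nat.cast_add]
              exact_mod_cast (show (order u).toNat + (c - 1 - n + 1) ≤ c - 1 by omega)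
            obtain ⟨v, rfl⟩ := h4
            rw [mul_assoc]
            exact hu2 _ (dvd_mul_right _ _)
          have := Nat.find_min' hex h3
          omega
        have hle : (order u).toNat ≤ n := by
          by_contra hlt
          push Not at hlt
          apply hu3
          apply hPω
          exact (pow_dvd_pow _ (by omega)).trans (hfac (c - 1 - n))
        rw [← coe_toNat_order hu0]
        exact_mod_cast le_antisymm hle hge

end K840.CanDual
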