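import Groth.Agent.TFCurv.K840.TwoGen
import Groth.Agent.TFCurv.K840.PowSub
import Mathlib.Algebra.Algebra.Prod

/-!
# The singularity `A_{2δ-1}`
-/

set_option autoImplicit false
set_option linter.unusedSectionVars false
universe u

open CategoryTheory CategoryTheory.Abelian PowerSeries

namespace K840.AOdd

variable {k : Type u} [Field k]

theorem le_order_iff (n : ℕ) (φ : k⟦X⟧) : (n : ℕ∞) ≤ order φ ↔ X ^ n ∣ φ := by
  rw [X_pow_dvd_iff]
  constructor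
  · intro h m hm
    exact coeff_of_lt_order m (lt_of_lt_of_le (by exact_mod_cast hm) h)
  · intro h
    exact nat_le_order _ _ h

variable (δ : ℕ) (O : Subalgebra k (k⟦X⟧ × k⟦X⟧))
  (hO : ∀ f : (k⟦X⟧ × k⟦X⟧), f ∈ O ↔ (δ : ℕ∞) ≤ order (f.1 - f.2))

include hO in
theorem mem_O (f : k⟦X⟧ × k⟦X⟧) : f ∈ O ↔ X ^ δ ∣ f.1 - f.2 := by
  rw [hO, le_order_iff]

include hO in
theorem diag_mem (a : k⟦X⟧) : (a, a) ∈ O := by
  rw [mem_O δ O hO]
  simp

/-- The submodules `{p | X^a ∣ p₁, X^a ∣ p₂, X^b ∣ p₁ - p₂}`. -/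
def T (a b : ℕ) (hab : b ≤ δ + a) : Submodule O (k⟦X⟧ × k⟦X⟧) where
  carrier := {p | X ^ a ∣ p.1 ∧ X ^ a ∣ p.2 ∧ X ^ b ∣ p.1 - p.2}
  add_mem' := by
    rintro p q ⟨h1, h2, h3⟩ ⟨h4, h5, h6⟩
    refine ⟨dvd_add h1 h4, dvd_add h2 h5, ?_⟩
    have := dvd_add h3 h6
    convert this using 1
    change (p.1 + q.1) - (p.2 + q.2) = _
    ring
  zero_mem' := ⟨dvd_zero _, dvd_zero _, by simp⟩
  smul_mem' := by
    rintro ⟨c, hc⟩ p ⟨h1, h2, h3⟩
    refine ⟨dvd_mul_of_dvd_right h1 _, dvd_mul_of_dvd_right h2 _, ?_⟩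
    rw [mem_O δ O hO] at hc
    change X ^ b ∣ c.1 * p.1 - c.2 * p.2
    have h4 : X ^ b ∣ c.1 * (p.1 - p.2) := dvd_mul_of_dvd_right h3 _
    have h5 : X ^ b ∣ (c.1 - c.2) * p.2 :=
      (pow_dvd_pow X hab).trans (by rw [pow_add]; exact mul_dvd_mul hc h2)
    have := dvd_add h4 h5
    convert this using 1
    ring

theorem mem_T {a b : ℕ} {hab : b ≤ δ + a} (p : k⟦X⟧ × k⟦X⟧) :
    p ∈ T δ O hO a b hab ↔ (X ^ a ∣ p.1 ∧ X ^ a ∣ p.2 ∧ X ^ b ∣ p.1 - p.2) := Iff.rfl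

/-- The module `I_j`. -/
theorem span_eq (j : ℕ) (hj : j ≤ δ) :
    Submodule.span O ({((X : k⟦X⟧) ^ j, (X : k⟦X⟧) ^ j), ((X : k⟦X⟧) ^ δ, 0)} :
      Set (k⟦X⟧ × k⟦X⟧)) = T δ O hO j δ (Nat.le_add_right _ _) := by
  apply le_antisymm
  · rw [Submodule.span_le]
    rintro p (rfl | rfl)
    · exact ⟨dvd_rfl, dvd_rfl, by simp⟩
    · exact ⟨pow_dvd_pow X hj, dvd_zero _, by simp⟩
  · rintro ⟨p1, p2⟩ ⟨h1, ⟨c, h2⟩, ⟨d, h3⟩⟩
    rw [Submodule.mem_span_pair]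
    refine ⟨⟨(c, c), diag_mem δ O hO c⟩, ⟨(d, d), diag_mem δ O hO d⟩, ?_⟩
    dsimp at h2 h3
    change ((c * X ^ j + d * X ^ δ, c * X ^ j + d * 0) : k⟦X⟧ × k⟦X⟧) = (p1, p2)
    rw [h2]
    ext1
    · dsimp
      have : p1 = p1 - p2 + p2 := by ring
      rw [this, h3, h2]
      ring
    · dsimp
      ring

variable (i j : ℕ) (hi : i ≤ δ) (hj : j ≤ δ)

/-- The element `z`. -/
noncomputable def zel : O := ⟨(X ^ i, X ^ i), diag_mem δ O hO _⟩

/-- The element `xz`. -/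
noncomputable def xzel : O := ⟨(-X ^ δ, 0), by rw [mem_O δ O hO]; simp⟩

/-- The numerator. -/
abbrev HH : Submodule O (k⟦X⟧ × k⟦X⟧) := T δ O hO (max i j) δ (Nat.le_add_right _ _)

/-- The denominator. -/
abbrev JJ : Submodule O (k⟦X⟧ × k⟦X⟧) := T δ O hO (i + j) (δ + min i j)
  (Nat.add_le_add_left (by omega) _)

theorem cancel_X (a : k⟦X⟧) (h : X ^ i * a = 0) : a = 0 :=
  (mul_eq_zero.1 h).resolve_left (pow_ne_zero _ X_ne_zero)

include hi hj in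
theorem mem_HH (p : k⟦X⟧ × k⟦X⟧) : p ∈ HH δ O hO i j ↔ (p ∈ T δ O hO j δ (Nat.le_add_right _ _) ∧
    ∀ x y : O, x • ((X ^ i, X ^ i) : k⟦X⟧ × k⟦X⟧) + y • ((X ^ δ, 0) : k⟦X⟧ × k⟦X⟧) = 0 →
      ∃ q ∈ T δ O hO j δ (Nat.le_add_right _ _), zel δ O hO i • q = y • p) := by
  have hXi : ∀ a : k⟦X⟧, X ^ i * a = 0 → a = 0 := cancel_X i
  revert p
  rintro ⟨p1, p2⟩
  rw [mem_T]
  constructor
  · rintro ⟨h1, h2, h3⟩
    dsimp at h1 h2 h3
    have hij1 : (X : k⟦X⟧) ^ j ∣ X ^ (max i j) := pow_dvd_pow X (le_max_right _ _)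
    have hij2 : (X : k⟦X⟧) ^ i ∣ X ^ (max i j) := pow_dvd_pow X (le_max_left _ _)
    refine ⟨⟨hij1.trans h1, hij1.trans h2, h3⟩, ?_⟩
    rintro ⟨⟨x1, x2⟩, hx⟩ ⟨⟨y1, y2⟩, hy⟩ hxy
    have e1 : x1 * X ^ i + y1 * X ^ δ = 0 := congrArg Prod.fst hxy
    have e2 : x2 * X ^ i + y2 * 0 = 0 := congrArg Prod.snd hxy
    rw [mem_O δ O hO] at hx hy
    dsimp at hx hy
    have hx2 : x2 = 0 := by
      rw [mul_zero, add_zero] at e2
      exact hXi x2 (by rw [mul_comm]; exact e2)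
    rw [hx2, sub_zero] at hx
    obtain ⟨x1', rfl⟩ := hx
    have hy1 : (X : k⟦X⟧) ^ i ∣ y1 := by
      refine ⟨-x1', ?_⟩
      have h4 : (X : k⟦X⟧) ^ δ * (x1' * X ^ i + y1) = 0 := by
        rw [← e1]
        ring
      have h5 := (mul_eq_zero.1 h4).resolve_left (pow_ne_zero _ X_ne_zero)
      linear_combination h5
    have hy2 : (X : k⟦X⟧) ^ i ∣ y2 := by
      have h4 : (X : k⟦X⟧) ^ i ∣ y1 - y2 := (pow_dvd_pow X hi).trans hy
      have := dvd_sub hy1 h4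
      convert this using 1
      ring
    obtain ⟨a, rfl⟩ := hy1
    obtain ⟨b, rfl⟩ := hy2
    refine ⟨(a * p1, b * p2), ⟨dvd_mul_of_dvd_right (hij1.trans h1) _,
      dvd_mul_of_dvd_right (hij1.trans h2) _, ?_⟩, ?_⟩
    · dsimp
      obtain ⟨p2', rfl⟩ := hij2.trans h2
      have h4 : X ^ δ ∣ a * (p1 - X ^ i * p2') := dvd_mul_of_dvd_right h3 _
      have h5 : X ^ δ ∣ (X ^ i * a - X ^ i * b) * p2' := dvd_mul_of_dvd_left hy _
      have := dvd_add h4 h5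
      convert this using 1
      ring
    · change ((X ^ i * (a * p1), X ^ i * (b * p2)) : k⟦X⟧ × k⟦X⟧) =
        ((X ^ i * a) * p1, (X ^ i * b) * p2)
      ext1
      · dsimp; ring
      · dsimp; ring
  · rintro ⟨⟨h1, h2, h3⟩, h4⟩
    dsimp at h1 h2 h3
    obtain ⟨⟨q1, q2⟩, ⟨hq1, hq2, hq3⟩, hq⟩ := h4 ⟨(-X ^ (2 * δ - i), 0), by
      rw [mem_O δ O hO]
      dsimp
      rw [sub_zero, dvd_neg]
      exact pow_dvd_pow X (by omega)⟩ ⟨(X ^ δ, 0), by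
      rw [mem_O δ O hO]
      dsimp
      rw [sub_zero]⟩ (by
      change ((-X ^ (2 * δ - i) * X ^ i + X ^ δ * X ^ δ, 0 * X ^ i + 0 * 0) : k⟦X⟧ × k⟦X⟧) = 0
      ext1
      · dsimp
        rw [neg_mul, ← pow_add, ← pow_add, show 2 * δ - i + i = δ + δ by omega]
        ring
      · dsimp; ring)
    have e1 : X ^ i * q1 = X ^ δ * p1 := congrArg Prod.fst hq
    have e2 : X ^ i * q2 = 0 * p2 := congrArg Prod.snd hq
    rw [zero_mul] at e2
    have hq20 := hXi q2 e2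
    dsimp at hq3
    rw [hq20, sub_zero] at hq3
    obtain ⟨r, rfl⟩ := hq3
    have hp1 : X ^ i ∣ p1 := by
      refine ⟨r, ?_⟩
      have h5 : (X : k⟦X⟧) ^ δ * (X ^ i * r - p1) = 0 := by
        rw [mul_sub, ← e1]
        ring
      have h6 := (mul_eq_zero.1 h5).resolve_left (pow_ne_zero _ X_ne_zero)
      linear_combination -h6
    have hp2 : X ^ i ∣ p2 := by
      have h4 : (X : k⟦X⟧) ^ i ∣ p1 - p2 := (pow_dvd_pow X hi).trans h3
      have := dvd_sub hp1 h4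
      convert this using 1
      ring
    refine ⟨?_, ?_, h3⟩
    · rcases le_total i j with h | h
      · rw [max_eq_right h]; exact h1
      · rw [max_eq_left h]; exact hp1
    · rcases le_total i j with h | h
      · rw [max_eq_right h]; exact h2
      · rw [max_eq_left h]; exact hp2

include hi hj in
theorem mem_JJ (p : k⟦X⟧ × k⟦X⟧) : p ∈ JJ δ O hO i j ↔
    ∃ m0 ∈ T δ O hO j δ (Nat.le_add_right _ _), ∃ m1 ∈ T δ O hO j δ (Nat.le_add_right _ _),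
      p = xzel δ O hO • m0 + zel δ O hO i • m1 := by
  revert p
  rintro ⟨p1, p2⟩
  rw [mem_T]
  constructor
  · rintro ⟨h1, ⟨c, h2⟩, ⟨d, h3⟩⟩
    dsimp at h1 h2 h3
    rcases le_total i j with h | h
    · obtain ⟨c', h1⟩ := h1
      rw [min_eq_left h] at h3
      refine ⟨0, Submodule.zero_mem _, (X ^ j * c', X ^ j * c), ⟨⟨c', rfl⟩, ⟨c, rfl⟩, ⟨d, ?_⟩⟩, ?_⟩
      · dsimp
        have h5 : (X : k⟦X⟧) ^ i * (X ^ j * c' - X ^ j * c - X ^ δ * d) = 0 := by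
          rw [h1, h2] at h3
          linear_combination (exp := 1) h3
        have h6 := (mul_eq_zero.1 h5).resolve_left (pow_ne_zero _ X_ne_zero)
        linear_combination h6
      · rw [smul_zero, zero_add]
        change (p1, p2) = (X ^ i * (X ^ j * c'), X ^ i * (X ^ j * c))
        rw [h1, h2, pow_add]
        ext1
        · dsimp; ring
        · dsimp; ring
    · rw [min_eq_right h] at h3
      refine ⟨(-(X ^ j * d), -(X ^ j * d)), ⟨⟨-d, by ring⟩, ⟨-d, by ring⟩, by simp⟩,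
        (X ^ j * c, X ^ j * c), ⟨⟨c, rfl⟩, ⟨c, rfl⟩, by simp⟩, ?_⟩
      change (p1, p2) = (-X ^ δ * -(X ^ j * d) + X ^ i * (X ^ j * c),
        0 * -(X ^ j * d) + X ^ i * (X ^ j * c))
      have h4 : p1 = X ^ (i + j) * c + X ^ (δ + j) * d := by
        rw [← h2, ← h3]
        ring
      rw [h4, h2]
      ext1
      · dsimp; ring
      · dsimp; ring
  · rintro ⟨⟨a1, a2⟩, ⟨⟨a1', h1⟩, h2, h3⟩, ⟨b1, b2⟩, ⟨⟨b1', h4⟩, ⟨b2', h5⟩, ⟨b3, h6⟩⟩, hp⟩
    dsimp at h1 h2 h3 h4 h5 h6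
    have e1 : p1 = -X ^ δ * a1 + X ^ i * b1 := congrArg Prod.fst hp
    have e2 : p2 = 0 * a2 + X ^ i * b2 := congrArg Prod.snd hp
    have hd : X ^ (i + j) ∣ (X : k⟦X⟧) ^ δ * X ^ j := by
      rw [← pow_add]
      exact pow_dvd_pow X (by omega)
    have hd1 : X ^ (δ + min i j) ∣ (X : k⟦X⟧) ^ δ * X ^ j := by
      rw [← pow_add]
      exact pow_dvd_pow X (by omega)
    have hd2 : X ^ (δ + min i j) ∣ (X : k⟦X⟧) ^ i * X ^ δ := by
      rw [← pow_add]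
      exact pow_dvd_pow X (by omega)
    refine ⟨?_, ?_, ?_⟩
    · dsimp
      rw [e1, h1, h4]
      have h7 := dvd_add (dvd_mul_of_dvd_left hd (-a1')) (dvd_mul_right (X ^ (i + j)) b1')
      convert h7 using 1
      ring
    · dsimp
      rw [e2, h5]
      exact ⟨b2', by ring⟩
    · dsimp
      rw [e1, e2, h1]
      have h7 := dvd_add (dvd_mul_of_dvd_left hd1 (-a1')) (dvd_mul_of_dvd_left hd2 b3)
      convert h7 using 1
      have h8 : b1 = b2 + X ^ δ * b3 := by rw [← h6]; ring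
      rw [h8]
      ring

theorem dvd_iff (a s : ℕ) (φ : k⟦X⟧) (h : X ^ a ∣ φ) :
    X ^ (a + s) ∣ φ ↔ ∀ l : Fin s, coeff (a + l) φ = 0 := by
  rw [X_pow_dvd_iff]
  rw [X_pow_dvd_iff] at h
  constructor
  · intro h' l
    exact h' _ (by omega)
  · intro h' m hm
    by_cases hma : m < a
    · exact h m hma
    · have := h' ⟨m - a, by omega⟩
      rwa [show a + (m - a) = m by omega] at this

/-- A power series with prescribed coefficients. -/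
noncomputable def pser (a s : ℕ) (c : Fin s → k) : k⟦X⟧ :=
  X ^ a * PowerSeries.mk (fun l => if h : l < s then c ⟨l, h⟩ else 0)

theorem coeff_pser (a s : ℕ) (c : Fin s → k) (l : Fin s) : coeff (a + l) (pser a s c) = c l := by
  rw [pser, add_comm, coeff_X_pow_mul, coeff_mk, dif_pos l.2]

/-- The maximal ideal. -/
noncomputable def mx : Ideal O := RingHom.ker ((constantCoeff (R := k)).comp
  ((RingHom.fst k⟦X⟧ k⟦X⟧).comp O.val.toRingHom))

theorem mem_mx (r : O) : r ∈ mx O ↔ constantCoeff (r : k⟦X⟧ × k⟦X⟧).1 = 0 := by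
  rw [mx, RingHom.mem_ker]
  rfl

theorem mx_spec (r : O) : ∃ c : k, r - algebraMap k O c ∈ mx O := by
  refine ⟨constantCoeff (r : k⟦X⟧ × k⟦X⟧).1, ?_⟩
  rw [mem_mx]
  change constantCoeff ((r : k⟦X⟧ × k⟦X⟧).1 - C (constantCoeff (r : k⟦X⟧ × k⟦X⟧).1)) = 0
  simp

/-- The ideal of elements divisible by `X^n`. -/
noncomputable def dv (n : ℕ) : Ideal O where
  carrier := {r | X ^ n ∣ (r : k⟦X⟧ × k⟦X⟧).1 ∧ X ^ n ∣ (r : k⟦X⟧ × k⟦X⟧).2}
  add_mem' := by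
    rintro a b ⟨h1, h2⟩ ⟨h3, h4⟩
    exact ⟨dvd_add h1 h3, dvd_add h2 h4⟩
  zero_mem' := ⟨dvd_zero _, dvd_zero _⟩
  smul_mem' := by
    rintro c a ⟨h1, h2⟩
    exact ⟨dvd_mul_of_dvd_right h1 _, dvd_mul_of_dvd_right h2 _⟩

include hO in
theorem mx_pow_le (hδ : 1 ≤ δ) (n : ℕ) : mx O ^ n ≤ dv O n := by
  have h1 : mx O ≤ dv O 1 := by
    intro r hr
    rw [mem_mx] at hr
    have hr1 : (X : k⟦X⟧) ∣ (r : k⟦X⟧ × k⟦X⟧).1 := X_dvd_iff.2 hr
    have hr2 : (X : k⟦X⟧) ∣ (r : k⟦X⟧ × k⟦X⟧).1 - (r : k⟦X⟧ × k⟦X⟧).2 := by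
      have h2 := (mem_O δ O hO _).1 r.2
      exact (dvd_pow_self X (by omega)).trans h2
    have hr3 : (X : k⟦X⟧) ∣ (r : k⟦X⟧ × k⟦X⟧).2 := by
      have := dvd_sub hr1 hr2
      convert this using 1
      ring
    exact ⟨by rwa [pow_one], by rwa [pow_one]⟩
  induction n with
  | zero =>
    intro r _
    exact ⟨by simp, by simp⟩
  | succ n ih =>
    rw [pow_succ, Ideal.mul_le]
    intro a ha b hb
    obtain ⟨h2, h3⟩ := ih ha
    obtain ⟨h4, h5⟩ := h1 hb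
    rw [pow_one] at h4 h5
    exact ⟨by rw [pow_succ]; exact mul_dvd_mul h2 h4, by rw [pow_succ]; exact mul_dvd_mul h3 h5⟩

/-- The coordinate functionals. -/
noncomputable def psi : (k⟦X⟧ × k⟦X⟧) →ₗ[k] (Fin (min i j) ⊕ Fin (min i j) → k) :=
  LinearMap.pi (Sum.elim
    (fun l => (coeff (R := k) (max i j + l)).comp (LinearMap.snd k k⟦X⟧ k⟦X⟧))
    (fun l => (coeff (R := k) (δ + l)).comp
      (LinearMap.fst k k⟦X⟧ k⟦X⟧ - LinearMap.snd k k⟦X⟧ k⟦X⟧)))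

include hi hj in
theorem length_ext (hδ : 1 ≤ δ) : Module.length O (Ext.{u}
    (ModuleCat.of O ↥(Submodule.span O ({((X : k⟦X⟧) ^ i, (X : k⟦X⟧) ^ i), ((X : k⟦X⟧) ^ δ, 0)} :
      Set (k⟦X⟧ × k⟦X⟧))))
    (ModuleCat.of O ↥(T δ O hO j δ (Nat.le_add_right _ _))) 1) = ((2 * min i j : ℕ) : ℕ∞) := by
  have hcard : Fintype.card (Fin (min i j) ⊕ Fin (min i j)) = 2 * min i j := by
    rw [Fintype.card_sum, Fintype.card_fin]
    ring
  rw [← hcard]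
  refine TwoGen.length_ext (A := O) (V := k⟦X⟧ × k⟦X⟧) Subtype.val_injective
    (g := (X ^ i, X ^ i)) (f := (X ^ δ, 0)) ?_ (z := zel δ O hO i) (xz := xzel δ O hO) ?_ ?_
    (T δ O hO j δ (Nat.le_add_right _ _)) (HH δ O hO i j) (JJ δ O hO i j)
    (mem_HH δ O hO i j hi hj) (mem_JJ δ O hO i j hi hj) (mx O) (mx_spec O) (3 * δ) ?_
    (psi δ i j) ?_ ?_
  · rintro ⟨v1, v2⟩ hv
    have h1 : v1 * X ^ i = 0 := congrArg Prod.fst hv
    have h2 : v2 * X ^ i = 0 := congrArg Prod.snd hv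
    ext1
    · exact cancel_X i v1 (by rw [mul_comm]; exact h1)
    · exact cancel_X i v2 (by rw [mul_comm]; exact h2)
  · rintro ⟨v1, v2⟩ hv
    have h1 : X ^ i * v1 = 0 := congrArg Prod.fst hv
    have h2 : X ^ i * v2 = 0 := congrArg Prod.snd hv
    ext1
    · exact cancel_X i v1 h1
    · exact cancel_X i v2 h2
  · change ((-X ^ δ * X ^ i + X ^ i * X ^ δ, 0 * X ^ i + X ^ i * 0) : k⟦X⟧ × k⟦X⟧) = 0
    ext1
    · dsimp; ring
    · dsimp; ring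
  · rintro r hr ⟨q1, q2⟩ _
    obtain ⟨h1, h2⟩ := mx_pow_le δ O hO hδ _ hr
    have h3 : ∀ n : ℕ, n ≤ 3 * δ → (X : k⟦X⟧) ^ n ∣ (r : k⟦X⟧ × k⟦X⟧).1 * q1 := fun n hn =>
      dvd_mul_of_dvd_left ((pow_dvd_pow X hn).trans h1) _
    have h4 : ∀ n : ℕ, n ≤ 3 * δ → (X : k⟦X⟧) ^ n ∣ (r : k⟦X⟧ × k⟦X⟧).2 * q2 := fun n hn =>
      dvd_mul_of_dvd_left ((pow_dvd_pow X hn).trans h2) _
    exact ⟨h3 _ (by omega), h4 _ (by omega), dvd_sub (h3 _ (by omega)) (h4 _ (by omega))⟩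
  · rintro ⟨p1, p2⟩ ⟨h1, h2, h3⟩
    have h4 : max i j + min i j = i + j := by omega
    have h5 : psi δ i j (p1, p2) = 0 ↔ (∀ l : Fin (min i j), coeff (max i j + l) p2 = 0) ∧
        (∀ l : Fin (min i j), coeff (δ + l) (p1 - p2) = 0) := by
      rw [funext_iff, Sum.forall]
      rfl
    rw [h5, ← dvd_iff _ _ _ h2, ← dvd_iff _ _ _ h3, h4]
    constructor
    · rintro ⟨h6, h7⟩
      refine ⟨?_, h6, h7⟩
      have h8 : X ^ (i + j) ∣ p1 - p2 := (pow_dvd_pow X (by omega)).trans h7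
      have := dvd_add h8 h6
      convert this using 1
      ring
    · rintro ⟨_, h6, h7⟩
      exact ⟨h6, h7⟩
  · intro c
    refine ⟨(pser (max i j) _ (fun l => c (Sum.inl l)) + pser δ _ (fun l => c (Sum.inr l)),
      pser (max i j) _ (fun l => c (Sum.inl l))), ⟨?_, dvd_mul_right _ _, ?_⟩, ?_⟩
    · exact dvd_add (dvd_mul_right _ _) ((pow_dvd_pow X (by omega)).trans (dvd_mul_right _ _))
    · change X ^ δ ∣ _ + _ - _
      rw [add_sub_cancel_left]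
      exact dvd_mul_right _ _
    · funext l
      rcases l with l | l
      · exact coeff_pser (max i j) (min i j) (fun l => c (Sum.inl l)) l
      · change coeff (δ + (l : ℕ)) (pser (max i j) (min i j) (fun l => c (Sum.inl l)) +
          pser δ (min i j) (fun l => c (Sum.inr l)) -
          pser (max i j) (min i j) (fun l => c (Sum.inl l))) = c (Sum.inr l)
        rw [add_sub_cancel_left]
        exact coeff_pser δ (min i j) (fun l => c (Sum.inr l)) l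

end K840.AOdd
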