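import Groth.Agent.Sga67.FlatPre
import Groth.Agent.Sga67.PreLift
import Groth.Agent.Sga67.ClosedPush
import Groth.Agent.VBCurve.K707.Base
import Groth.Agent.EGA2.K30.CounitEpi
import Groth.Agent.QCohSup.K27.EpiColim
import Groth.Agent.CohqA.PullbackQCoh
import Groth.Agent.CohqA.AffPush

/-!
# Pushforward along birational morphisms, on stalks

* `Nbhd f y`: the preimages of the neighbourhoods of `f y` form a basis of neighbourhoods of `y`
  (finite birational morphisms at the generic point).
* `pushAdd_bijective`, `canAdd_bijective`, `unit_bijective`, `counit_bijective`.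
-/

set_option autoImplicit false
universe u

noncomputable section

open CategoryTheory CategoryTheory.Limits AlgebraicGeometry TopologicalSpace Opposite

namespace K840.BirPush

open Groth.Agent.Fdesc.PullbackStalk Groth.Agent.Fdesc.Skyscraper

variable {X Y : Scheme.{u}} (f : Y ⟶ X)

/-- Every neighbourhood of `y` contains the preimage of a neighbourhood of `f y`. -/
def Nbhd (y : Y) : Prop := ∀ W : Y.Opens, y ∈ W → ∃ V : X.Opens, f.base y ∈ V ∧ f ⁻¹ᵁ V ≤ W

theorem nbhd_of_isClosedMap (hf : IsClosedMap f.base) {y : Y}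
    (h : ∀ z : Y, f.base z = f.base y → z = y) : Nbhd f y := by
  intro W hW
  refine ⟨⟨(f.base '' (W : Set Y)ᶜ)ᶜ, (hf _ W.2.isClosed_compl).isOpen_compl⟩, ?_, ?_⟩
  · rintro ⟨z, hz, hzy⟩
    exact hz (h z hzy ▸ hW)
  · intro z hz
    by_contra hzW
    exact hz ⟨z, hzW, rfl⟩

variable {f}

theorem pushAdd_bijective {y : Y} (h : Nbhd f y) (N : Y.Modules) :
    Function.Bijective (pushAdd f N y) := by
  constructor
  · rw [injective_iff_map_eq_zero]
    intro t ht
    obtain ⟨V, hV, s, rfl⟩ := ((Scheme.Modules.pushforward f).obj N).presheaf.exists_germ_eq t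
    have ht' : N.presheaf.germ (f ⁻¹ᵁ V) y hV s = N.presheaf.germ (f ⁻¹ᵁ V) y hV 0 :=
      (pushAdd_germ f N y V hV s).symm.trans (ht.trans (map_zero _).symm)
    obtain ⟨W, hW, i, j, e⟩ := N.presheaf.germ_eq y hV hV s 0 ht'
    obtain ⟨V', hV', hle⟩ := h W hW
    have h1 : (((Scheme.Modules.pushforward f).obj N).presheaf.map
        (homOfLE (inf_le_left : V ⊓ V' ≤ V)).op) s = 0 := by
      have hle' : f ⁻¹ᵁ (V ⊓ V') ≤ W := fun z hz => hle hz.2
      change N.presheaf.map (homOfLE (fun z hz => hz.1 : f ⁻¹ᵁ (V ⊓ V') ≤ f ⁻¹ᵁ V)).op s = 0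
      have h2 : (homOfLE (fun z hz => hz.1 : f ⁻¹ᵁ (V ⊓ V') ≤ f ⁻¹ᵁ V)).op =
          i.op ≫ (homOfLE hle').op := rfl
      rw [h2, Functor.map_comp]
      change N.presheaf.map (homOfLE hle').op (N.presheaf.map i.op s) = 0
      rw [e, map_zero, map_zero]
    rw [← TopCat.Presheaf.germ_res_apply ((Scheme.Modules.pushforward f).obj N).presheaf
      (homOfLE (inf_le_left : V ⊓ V' ≤ V)) (f.base y) ⟨hV, hV'⟩ s, h1, map_zero]
  · intro t
    obtain ⟨W, hW, s, rfl⟩ := N.presheaf.exists_germ_eq t
    obtain ⟨V, hV, hle⟩ := h W hW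
    refine ⟨((Scheme.Modules.pushforward f).obj N).presheaf.germ V (f.base y) hV
      (N.presheaf.map (homOfLE hle).op s), ?_⟩
    exact (pushAdd_germ f N y V hV _).trans
      (TopCat.Presheaf.germ_res_apply N.presheaf (homOfLE hle) y hV s)

theorem canAdd_bijective {y : Y} (h : Function.Bijective (f.stalkMap y).hom) (M : X.Modules) :
    Function.Bijective (canAdd f M y) := by
  refine ⟨K707.Base.canAdd_injective f M y h, fun t => ?_⟩
  have ht : t ∈ Submodule.span (Y.presheaf.stalk y) (Set.range (canAdd f M y)) := by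
    rw [span_range_canAdd]; trivial
  induction ht using Submodule.span_induction with
  | mem t ht => exact ht
  | zero => exact ⟨0, map_zero _⟩
  | add a b _ _ ha hb =>
    obtain ⟨a, rfl⟩ := ha
    obtain ⟨b, rfl⟩ := hb
    exact ⟨a + b, map_add _ _ _⟩
  | smul r a _ ha =>
    obtain ⟨a, rfl⟩ := ha
    obtain ⟨r, rfl⟩ := h.2 r
    exact ⟨r • a, canAdd_smul f M y r a⟩

theorem counit_bijective {y : Y} (h : Nbhd f y) (h' : Function.Bijective (f.stalkMap y).hom)
    (N : Y.Modules) : Function.Bijective
      (stalkMap ((Scheme.Modules.pullbackPushforwardAdjunction f).counit.app N) y) := by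
  refine (Function.Bijective.of_comp_iff _ (canAdd_bijective h' _)).1 ?_
  have h3 : ((stalkMap
      ((Scheme.Modules.pullbackPushforwardAdjunction f).counit.app N) y : _ → _) ∘
      (canAdd f ((Scheme.Modules.pushforward f).obj N) y)) = pushAdd f N y :=
    funext (Groth.Agent.Sga67.FlatPre.stalkMap_counit_canAdd f N y)
  rw [h3]
  exact pushAdd_bijective h N

theorem unit_bijective {y : Y} (h : Nbhd f y) (h' : Function.Bijective (f.stalkMap y).hom)
    (M : X.Modules) : Function.Bijective
      (stalkMap ((Scheme.Modules.pullbackPushforwardAdjunction f).unit.app M) (f.base y)) :=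
  (Function.Bijective.of_comp_iff' (pushAdd_bijective h _) _).1 (canAdd_bijective h' M)

section Affine

variable (f) [IsAffineHom f]

omit [IsAffineHom f] in
theorem exists_affine_preimage (y : Y) : ∃ V : X.Opens, IsAffineOpen V ∧ y ∈ f ⁻¹ᵁ V := by
  obtain ⟨V, hV, hxV, -⟩ := exists_isAffineOpen_mem_and_subset (X := X) (U := ⊤) (x := f.base y)
    trivial
  exact ⟨V, hV, hxV⟩

theorem epi_counit {M : Y.Modules} (hM : Coh.IsQCoh M) :
    Epi ((Scheme.Modules.pullbackPushforwardAdjunction f).counit.app M) := by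
  have : ((𝟭 Y.Modules).obj M).IsQuasicoherent := hM
  refine K27.EpiColim.epi_of_surjective_cover _ fun y => ?_
  obtain ⟨V, hV, hy⟩ := exists_affine_preimage f y
  exact ⟨f ⁻¹ᵁ V, hy, hV.preimage f, fun m => ⟨_, K30.CounitEpi.counit_unit f M V m⟩⟩

theorem isZero_of_push {M : Y.Modules} (hM : Coh.IsQCoh M)
    (h : IsZero ((Scheme.Modules.pushforward f).obj M)) : IsZero M := by
  have := epi_counit f hM
  have h1 : IsZero ((Scheme.Modules.pullback f).obj ((Scheme.Modules.pushforward f).obj M)) :=
    Functor.map_isZero _ h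
  exact IsZero.of_epi ((Scheme.Modules.pullbackPushforwardAdjunction f).counit.app M) h1

theorem isIso_of_push {M N : Y.Modules} (hM : Coh.IsQCoh M) (hN : Coh.IsQCoh N) (φ : M ⟶ N)
    (h : IsIso ((Scheme.Modules.pushforward f).map φ)) : IsIso φ := by
  refine Groth.Agent.CohqA.PullbackQCoh.isIso_of_bijective_affineCover φ
    (fun U : X.affineOpens => f ⁻¹ᵁ U.1) ?_ (fun U => U.2.preimage f) fun U => ?_
  · rw [eq_top_iff]
    intro y _
    obtain ⟨V, hV, hy⟩ := exists_affine_preimage f y
    exact Opens.mem_iSup.mpr ⟨⟨V, hV⟩, hy⟩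
  · exact ConcreteCategory.bijective_of_isIso (((Scheme.Modules.pushforward f).map φ).app U.1)

end Affine

section Bir

/-- `f` is birational, in terms of the generic points. -/
structure Bir (f : Y ⟶ X) [IrreducibleSpace X] [IrreducibleSpace Y] : Prop where
  gen : f.base (genericPoint Y) = genericPoint X
  fib : ∀ z : Y, f.base z = genericPoint X → z = genericPoint Y
  stalk : Function.Bijective (f.stalkMap (genericPoint Y)).hom

variable [IrreducibleSpace X] [IrreducibleSpace Y]

theorem Bir.nbhd (h : Bir f) [IsIntegralHom f] : Nbhd f (genericPoint Y) :=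
  nbhd_of_isClosedMap f f.isClosedMap fun z hz => h.fib z (hz.trans h.gen)

/-- A morphism `G ⟶ f_* E` factors through `f_*` of a submodule of `E`, surjectively at the
generic point. -/
theorem exists_sub (h : Bir f) [IsIntegralHom f] {E : Y.Modules} {G : X.Modules}
    (g : G ⟶ (Scheme.Modules.pushforward f).obj E) :
    ∃ (F : Y.Modules) (e : (Scheme.Modules.pullback f).obj G ⟶ F) (ι : F ⟶ E)
      (m : G ⟶ (Scheme.Modules.pushforward f).obj F), Epi e ∧ Mono ι ∧
      F = Abelian.image (((Scheme.Modules.pullbackPushforwardAdjunction f).homEquiv G E).symm g) ∧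
      m ≫ (Scheme.Modules.pushforward f).map ι = g ∧
      Subsingleton ((cokernel m).presheaf.stalk (genericPoint X)) := by
  let adj := Scheme.Modules.pullbackPushforwardAdjunction f
  let ψ := (adj.homEquiv G E).symm g
  let e : (Scheme.Modules.pullback f).obj G ⟶ Abelian.image ψ := Abelian.factorThruImage ψ
  let m := adj.homEquiv G (Abelian.image ψ) e
  refine ⟨Abelian.image ψ, e, Abelian.image.ι ψ, m, inferInstance, inferInstance, rfl, ?_, ?_⟩
  · change adj.homEquiv G (Abelian.image ψ) e ≫ _ = g
    rw [← Adjunction.homEquiv_naturality_right]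
    change adj.homEquiv G E (Abelian.factorThruImage ψ ≫ Abelian.image.ι ψ) = g
    rw [Abelian.image.fac]
    exact Equiv.apply_symm_apply _ _
  · have hm : Function.Surjective (stalkMap m (f.base (genericPoint Y))) := by
      intro b
      have he : Function.Surjective (stalkMap e (genericPoint Y)) :=
        Groth.Agent.CycB.StalkExact.stalkLin_surjective e (genericPoint Y)
      obtain ⟨c, hc⟩ := he (pushAdd f _ (genericPoint Y) b)
      obtain ⟨t, rfl⟩ := (canAdd_bijective h.stalk G).2 c
      refine ⟨t, (pushAdd_bijective h.nbhd _).1 ?_⟩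
      rw [← hc, ← Groth.Agent.Sga67.PreLift.stalkMap_trans_canAdd]
      congr 2
      exact (adj.homEquiv_counit _ _ _).symm.trans (Equiv.symm_apply_apply _ _)
    rw [← h.gen]
    refine ⟨fun a b => ?_⟩
    have key : ∀ a : (cokernel m).presheaf.stalk (f.base (genericPoint Y)), a = 0 := by
      intro a
      obtain ⟨a, rfl⟩ := Groth.Agent.CycB.StalkExact.stalkLin_surjective (cokernel.π m) _ a
      obtain ⟨t, rfl⟩ := hm a
      have h1 := Groth.Agent.CycB.StalkExact.stalkLin_comp m (cokernel.π m)
        (f.base (genericPoint Y))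
      rw [cokernel.condition] at h1
      have h2 := LinearMap.congr_fun h1 t
      refine h2.symm.trans ?_
      obtain ⟨U, hU, s, rfl⟩ := G.presheaf.exists_germ_eq t
      rw [Groth.Agent.CycB.StalkExact.stalkLin_germ]
      exact map_zero _
    rw [key a, key b]

end Bir

end K840.BirPush
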