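import Groth.Agent.TFCurv.K840.ExtOne
import Groth.Agent.Localalg.InjDim
import Groth.Agent.CAlg.K65.Bezout
import Mathlib.RingTheory.KrullDimension.NonZeroDivisors
import Mathlib.RingTheory.Ideal.AssociatedPrime.Localization

/-!
# Canonical modules of one-dimensional Noetherian domains

`A` a Noetherian domain of dimension `≤ 1`, `W` a finite module of finite injective dimension with
`A = End(W)`.

* `hasInjectiveDimensionLT_two`: `W` has injective dimension `≤ 1`;
* `ext_one_subsingleton`: `Ext¹(M, W) = 0` for `M` finite torsion-free;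
* `torsionFree`: `W` is torsion-free;
* `eval_bijective`: `M → Hom(Hom(M, W), W)` is bijective for `M` finite torsion-free.
-/

set_option autoImplicit false
set_option linter.unusedSectionVars false
universe u

open CategoryTheory CategoryTheory.Abelian

namespace K840.CanDim1

variable {A : Type u} [CommRing A] [IsDomain A] [IsNoetherianRing A]
  (hdim : ∀ p : Ideal A, p.IsPrime → p ≠ ⊥ → p.IsMaximal)

section InjDim

variable (W : ModuleCat.{u} A)

open Groth.Agent.Localalg.InjDim in
include hdim in
/-- The downward induction step. -/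
theorem step (n : ℕ) (h : HasInjectiveDimensionLT W (n + 3)) : HasInjectiveDimensionLT W (n + 2) := by
  rw [hasInjectiveDimensionLT_iff_prime]
  intro p
  have hfree : ∀ i : ℕ, Subsingleton (Ext.{u} (ModuleCat.of A A) W (i + 1)) := fun i =>
    ExtOne.subsingleton_ext_of_projective (F := A) (N := W) i
  by_cases hp : p.asIdeal = ⊥
  · refine subsingleton_ext_congr (Submodule.quotEquivOfEqBot _ hp).symm (LinearEquiv.refl A W) _
      (hfree (n + 1))
  · obtain ⟨x, hx, hx0⟩ := Submodule.exists_mem_ne_zero_of_ne_bot hp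
    -- `Ext^{n+2}(A/x, W) = 0`
    have hinj : Function.Injective (LinearMap.mulLeft A x) := fun a b hab =>
      mul_left_cancel₀ hx0 hab
    have hrange : LinearMap.range (LinearMap.mulLeft A x) = Ideal.span {x} := by
      ext y
      rw [Ideal.mem_span_singleton]
      constructor
      · rintro ⟨z, rfl⟩
        exact ⟨z, rfl⟩
      · rintro ⟨z, rfl⟩
        exact ⟨z, rfl⟩
    have hex : Function.Exact (LinearMap.mulLeft A x) (Ideal.span {x}).mkQ := by
      rw [LinearMap.exact_iff, Submodule.ker_mkQ, hrange]
    have h1 : Subsingleton (Ext.{u} (ModuleCat.of A (A ⧸ Ideal.span {x})) W (n + 2)) :=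
      subsingleton_ext_X₃ (ExtOne.sc_shortExact _ _ hinj (Submodule.mkQ_surjective _) hex) W (n + 1)
        (hfree n) (hfree (n + 1))
    -- `A/p` embeds in `A/x`
    have hmin : p.asIdeal ∈ (Module.annihilator A (A ⧸ Ideal.span {x})).minimalPrimes := by
      rw [Ideal.annihilator_quotient]
      refine ⟨⟨p.2, (Ideal.span_singleton_le_iff_mem _).2 hx⟩, fun q hq hqp => ?_⟩
      have hq0 : q ≠ ⊥ := by
        rintro rfl
        exact hx0 ((Ideal.span_singleton_le_iff_mem _).1 hq.2)
      have hqm := hdim q hq.1 hq0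
      exact (hqm.eq_of_le p.2.ne_top hqp).ge
    have hass := Module.associatedPrimes.minimalPrimes_annihilator_subset_associatedPrimes A
      (A ⧸ Ideal.span {x}) hmin
    obtain ⟨f, hf⟩ := ((isAssociatedPrime_iff_exists_injective_linearMap _ _).1 hass).2
    have hex2 : Function.Exact f (LinearMap.range f).mkQ := by
      rw [LinearMap.exact_iff, Submodule.ker_mkQ]
    exact subsingleton_ext_X₁ (ExtOne.sc_shortExact _ _ hf (Submodule.mkQ_surjective _) hex2) W
      (n + 2) h1 (HasInjectiveDimensionLT.subsingleton W (n + 3) (n + 3) le_rfl _)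

include hdim in
theorem hasInjectiveDimensionLT_two (h : ∃ n : ℕ, HasInjectiveDimensionLT W n) :
    HasInjectiveDimensionLT W 2 := by
  obtain ⟨n, hn⟩ := h
  have key : ∀ m : ℕ, HasInjectiveDimensionLT W (m + 2) → HasInjectiveDimensionLT W 2 := by
    intro m
    induction m with
    | zero => exact fun h => h
    | succ m ih => exact fun h => ih (step hdim W m h)
  exact key n (hasInjectiveDimensionLT_of_ge W n (n + 2) (by omega))

end InjDim

section Dual

variable {W : Type u} [AddCommGroup W] [Module A W]
  (hinj : ∃ n : ℕ, HasInjectiveDimensionLT (ModuleCat.of A W) n)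

open Groth.Agent.Localalg.InjDim in
include hdim hinj in
/-- `Ext¹(M, W) = 0` for `M` finite torsion-free. -/
theorem ext_one_subsingleton (M : Type u) [AddCommGroup M] [Module A M] [Module.Finite A M]
    (hM : ∀ (r : A) (x : M), r • x = 0 → r = 0 ∨ x = 0) :
    Subsingleton (Ext.{u} (ModuleCat.of A M) (ModuleCat.of A W) 1) := by
  obtain ⟨n, f, hf⟩ := K65.Bezout.exists_injective_fin_of_torsionFree A M hM
  have hex : Function.Exact f (LinearMap.range f).mkQ := by
    rw [LinearMap.exact_iff, Submodule.ker_mkQ]
  have h2 := hasInjectiveDimensionLT_two hdim (ModuleCat.of A W) hinj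
  exact subsingleton_ext_X₁ (ExtOne.sc_shortExact f _ hf (Submodule.mkQ_surjective _) hex)
    (ModuleCat.of A W) 1 (ExtOne.subsingleton_ext_of_projective 0)
    (HasInjectiveDimensionLT.subsingleton (ModuleCat.of A W) 2 2 le_rfl _)

variable (hend : Function.Bijective (fun a : A => (a • LinearMap.id : W →ₗ[A] W)))

include hend in
theorem exists_ne_zero : ∃ w : W, w ≠ 0 := by
  by_contra h
  push Not at h
  have h1 := @hend.1 1 0 (LinearMap.ext fun w => by simp [h w])
  exact one_ne_zero h1

include hdim hend in
/-- `W` is torsion-free. -/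
theorem torsionFree [Module.Finite A W] (r : A) (w : W) (h : r • w = 0) : r = 0 ∨ w = 0 := by
  by_contra hcon
  push Not at hcon
  obtain ⟨hr, hw⟩ := hcon
  -- an associated prime containing `r`
  obtain ⟨p, hp, hpr⟩ := exists_le_isAssociatedPrime_of_isNoetherianRing A (M := W) w hw
  have hrp : r ∈ p := hpr (by rw [Submodule.mem_colon_singleton, Submodule.mem_bot]; exact h)
  have hp0 : p ≠ ⊥ := by
    rintro rfl
    exact hr (by simpa using hrp)
  have hpm := hdim p hp.1 hp0
  obtain ⟨f, hf⟩ := ((isAssociatedPrime_iff_exists_injective_linearMap _ _).1 hp).2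
  -- `W ≠ p W`
  have hne : (p • ⊤ : Submodule A W) ≠ ⊤ := by
    intro htop
    obtain ⟨s, hs, hs'⟩ := Submodule.exists_sub_one_mem_and_smul_eq_zero_of_fg_of_le_smul p
      (⊤ : Submodule A W) Module.Finite.fg_top htop.ge
    have h1 := hs' (f 1) trivial
    rw [← map_smul, ← map_zero f] at h1
    have h2 := hf h1
    rw [Algebra.smul_def, mul_one, Ideal.Quotient.algebraMap_eq, Ideal.Quotient.eq_zero_iff_mem] at h2
    apply hpm.ne_top
    rw [Ideal.eq_top_iff_one]
    have := p.sub_mem h2 hs
    rwa [sub_sub_cancel] at this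
  obtain ⟨N, hN, hpN⟩ := (eq_top_or_exists_le_coatom (p • ⊤ : Submodule A W)).resolve_left hne
  obtain ⟨q, hq, ⟨e⟩⟩ := isSimpleModule_iff_quot_maximal.1 (isSimpleModule_iff_isCoatom.2 hN)
  have hpq : p = q := by
    refine hpm.eq_of_le hq.ne_top fun a ha => ?_
    rw [← Ideal.Quotient.eq_zero_iff_mem, ← Ideal.Quotient.algebraMap_eq,
      Algebra.algebraMap_eq_smul_one]
    obtain ⟨y, hy⟩ := e.surjective (1 : A ⧸ q)
    obtain ⟨y, rfl⟩ := N.mkQ_surjective y
    rw [← hy, ← map_smul, ← map_smul]
    have h1 : N.mkQ (a • y) = 0 := by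
      rw [Submodule.mkQ_apply, Submodule.Quotient.mk_eq_zero]
      exact hpN (Submodule.smul_mem_smul ha trivial)
    rw [h1, map_zero]
  subst hpq
  obtain ⟨a, ha⟩ := hend.2 (f.comp (e.toLinearMap.comp N.mkQ))
  have h1 : ∀ t ∈ p, t * a = 0 := by
    intro t ht
    apply hend.1
    change (t * a) • (LinearMap.id : W →ₗ[A] W) = (0 : A) • LinearMap.id
    rw [mul_smul, zero_smul]
    have ha' : a • (LinearMap.id : W →ₗ[A] W) = f.comp (e.toLinearMap.comp N.mkQ) := ha
    rw [ha']
    ext y
    change t • f (e (N.mkQ y)) = 0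
    rw [← map_smul]
    have h2 : t • e (N.mkQ y) = 0 := by
      obtain ⟨b, hb⟩ := Ideal.Quotient.mk_surjective (e (N.mkQ y))
      rw [← hb, Algebra.smul_def, Ideal.Quotient.algebraMap_eq, ← map_mul,
        Ideal.Quotient.eq_zero_iff_mem]
      exact p.mul_mem_right _ ht
    rw [h2, map_zero]
  have ha0 : a = 0 := (mul_eq_zero.1 (h1 r hrp)).resolve_left hr
  obtain ⟨y, hy⟩ := e.surjective (1 : A ⧸ p)
  obtain ⟨y, rfl⟩ := N.mkQ_surjective y
  have h3 := LinearMap.congr_fun ha y
  rw [ha0] at h3
  change (0 : A) • y = f (e (N.mkQ y)) at h3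
  rw [zero_smul, hy, eq_comm, ← map_zero f] at h3
  have h4 := hf h3
  have : Nontrivial (A ⧸ p) := Ideal.Quotient.nontrivial_iff.2 hpm.ne_top
  exact one_ne_zero h4

include hdim hinj hend in
/-- Finite torsion-free modules are reflexive with respect to `W`. -/
theorem eval_bijective [Module.Finite A W] (M : Type u) [AddCommGroup M] [Module A M]
    [Module.Finite A M] (hM : ∀ (r : A) (x : M), r • x = 0 → r = 0 ∨ x = 0)
    (φ : (M →ₗ[A] W) →ₗ[A] W) : ∃! m : M, ∀ g : M →ₗ[A] W, g m = φ g := by
  have hsep : ∀ m : M, (∀ g : M →ₗ[A] W, g m = 0) → m = 0 := by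
    intro m hm
    obtain ⟨n, f, hf⟩ := K65.Bezout.exists_injective_fin_of_torsionFree A M hM
    rw [← map_eq_zero_iff f hf]
    funext i
    apply hend.1
    ext w
    change f m i • w = (0 : A) • w
    rw [zero_smul]
    exact hm ((LinearMap.toSpanSingleton A W w).comp ((LinearMap.proj i).comp f))
  obtain ⟨n, p, hp⟩ := Module.Finite.exists_fin' A M
  have hex : Function.Exact (LinearMap.ker p).subtype p := by
    rw [LinearMap.exact_iff]
    exact (Submodule.range_subtype _).symm
  have hi : Function.Injective (LinearMap.ker p).subtype := Subtype.val_injective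
  have hE := ext_one_subsingleton hdim hinj M hM
  have hK : Subsingleton (Ext.{u} (ModuleCat.of A (↥(LinearMap.ker p) →ₗ[A] W))
      (ModuleCat.of A W) 1) := by
    refine ext_one_subsingleton hdim hinj _ fun r x hrx => ?_
    by_cases hr : r = 0
    · exact Or.inl hr
    · refine Or.inr (LinearMap.ext fun y => ?_)
      exact (torsionFree hdim hend r (x y) (LinearMap.congr_fun hrx y)).resolve_left hr
  obtain ⟨Φ, hΦ⟩ := ExtOne.exists_extension (LinearMap.lcomp A W p)
    (LinearMap.lcomp A W (LinearMap.ker p).subtype)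
    (ExtOne.lcomp_injective p hp) (ExtOne.lcomp_surjective (K := ↥(LinearMap.ker p)) _ p hi hp hex hE)
    (ExtOne.lcomp_exact (K := ↥(LinearMap.ker p)) _ p hp hex) hK φ
  -- `Φ` is evaluation at a vector
  have hcoord : ∀ i : Fin n, ∃ a : A, ∀ w : W,
      Φ ((LinearMap.toSpanSingleton A W w).comp (LinearMap.proj i)) = a • w := by
    intro i
    obtain ⟨a, ha⟩ := hend.2
      { toFun := fun w => Φ ((LinearMap.toSpanSingleton A W w).comp (LinearMap.proj i))
        map_add' := fun w w' => by
          rw [← map_add]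
          congr 1
          ext x
          simp
        map_smul' := fun r w => by
          rw [RingHom.id_apply, ← map_smul]
          congr 1
          ext x
          simp [smul_comm r] }
    exact ⟨a, fun w => (LinearMap.congr_fun ha w).symm⟩
  choose a ha using hcoord
  have key : ∀ g : M →ₗ[A] W, g (p a) = φ g := by
    intro g
    have h1 : φ g = Φ (g.comp p) := (LinearMap.congr_fun hΦ g).symm
    have h2 : g.comp p = ∑ i, (LinearMap.toSpanSingleton A W (g (p (Pi.single i 1)))).comp
        (LinearMap.proj i) := by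
      refine LinearMap.pi_ext' fun i => LinearMap.ext_ring ?_
      rw [LinearMap.comp_apply, LinearMap.comp_apply, LinearMap.comp_apply, LinearMap.sum_apply,
        Finset.sum_eq_single i]
      · simp
      · intro j _ hj
        simp [Pi.single_eq_of_ne hj]
      · intro h
        exact absurd (Finset.mem_univ i) h
    rw [h1, h2, map_sum]
    simp only [ha]
    have h3 : a = ∑ i, a i • (Pi.single i (1 : A) : Fin n → A) := by
      funext j
      rw [Finset.sum_apply, Finset.sum_eq_single j]
      · simp
      · intro i _ hi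
        simp [Pi.single_eq_of_ne hi.symm]
      · intro h
        exact absurd (Finset.mem_univ j) h
    conv_lhs => rw [h3]
    rw [map_sum, map_sum]
    simp only [map_smul]
  refine ⟨p a, key, fun m hm => ?_⟩
  rw [← sub_eq_zero]
  apply hsep
  intro g
  rw [map_sub, hm g, key g, sub_self]

end Dual

end K840.CanDim1
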