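import Groth.Agent.TFCurv.K840.ExtPi
import Groth.Agent.TFCurv.K840.Mx
import Mathlib.RingTheory.PowerSeries.NoZeroDivisors

/-!
# The cubical singularities `k + X^n k⟦X⟧`
-/

set_option autoImplicit false
set_option linter.unusedSectionVars false
universe u

open CategoryTheory CategoryTheory.Abelian PowerSeries

namespace K840.Cubical

section Abs

variable {A V : Type u} [CommRing A] [CommRing V] [Algebra A V] {z : V}
  (hz : ∀ f g : V, z * f = z * g → f = g) (xn : V → A) (hxn : ∀ f, algebraMap A V (xn f) = z * f)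
  (hi : Function.Injective (algebraMap A V)) {ι : Type} [Fintype ι] [DecidableEq ι] (g : ι → V)
  (hg : ∀ (x0 : A) (x : ι → A), algebraMap A V x0 + ∑ l, algebraMap A V (x l) * g l = 0 →
    ∀ l, z ∣ algebraMap A V (x l))

/-- The presentation -/
noncomputable def pres : (A × (ι → A)) →ₗ[A] V :=
  (LinearMap.toSpanSingleton A V 1).coprod (Fintype.linearCombination A g)

theorem pres_apply (x : A × (ι → A)) : pres g x =
    algebraMap A V x.1 + ∑ l, algebraMap A V (x.2 l) * g l := by
  rw [pres, LinearMap.coprod_apply, LinearMap.toSpanSingleton_apply,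
    Fintype.linearCombination_apply, Algebra.smul_def, mul_one]
  congr 1
  exact Finset.sum_congr rfl fun l _ => Algebra.smul_def _ _

variable (M : Submodule A V) (hM : ∀ v, v ∈ M ↔ ∃ x : A × (ι → A), pres g x = v)

/-- The presentation, with codomain `M`. -/
noncomputable def presM : (A × (ι → A)) →ₗ[A] M :=
  LinearMap.codRestrict M (pres g) (fun x => (hM _).2 ⟨x, rfl⟩)

theorem presM_surjective : Function.Surjective (presM g M hM) := by
  rintro ⟨v, hv⟩
  obtain ⟨x, hx⟩ := (hM v).1 hv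
  exact ⟨x, Subtype.ext hx⟩

theorem mem_ker (x : A × (ι → A)) : x ∈ LinearMap.ker (presM g M hM) ↔ pres g x = 0 := by
  rw [LinearMap.mem_ker]
  exact ⟨fun h => congrArg Subtype.val h, fun h => Subtype.ext h⟩

/-- The element of the kernel attached to a family of elements. -/
noncomputable def kel (y : ι → V) : LinearMap.ker (presM g M hM) :=
  ⟨(xn (-∑ l, y l * g l), fun l => xn (y l)), by
    rw [mem_ker, pres_apply]
    simp only [hxn]
    rw [mul_neg, Finset.mul_sum, neg_add_eq_zero]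
    exact Finset.sum_congr rfl fun l _ => (mul_assoc _ _ _).symm⟩

theorem kel_fst (y : ι → V) : algebraMap A V (kel xn hxn g M hM y : A × (ι → A)).1 =
    z * -∑ l, y l * g l := hxn _

theorem kel_snd (y : ι → V) (l : ι) : algebraMap A V ((kel xn hxn g M hM y : A × (ι → A)).2 l) =
    z * y l := hxn _

include hi in
theorem ext_ker {x y : LinearMap.ker (presM g M hM)}
    (h : ∀ l, algebraMap A V ((x : A × (ι → A)).2 l) = algebraMap A V ((y : A × (ι → A)).2 l)) :
    x = y := by
  have hx := x.2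
  have hy := y.2
  rw [mem_ker, pres_apply] at hx hy
  apply Subtype.ext
  refine Prod.ext (hi ?_) (funext fun l => hi (h l))
  rw [eq_neg_of_add_eq_zero_left hx, eq_neg_of_add_eq_zero_left hy]
  congr 1
  exact Finset.sum_congr rfl fun l _ => by rw [h l]

include hi hg in
theorem exists_kel (x : LinearMap.ker (presM g M hM)) : ∃ y, x = kel xn hxn g M hM y := by
  have hx' := x.2
  rw [mem_ker, pres_apply] at hx'
  choose y hy using hg _ _ hx'
  refine ⟨y, ext_ker hi g M hM fun l => ?_⟩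
  rw [hy, kel_snd]

variable (N : Submodule A V)

include hi in
theorem sum_kel (y : ι → V) : xn 1 • kel xn hxn g M hM y =
    ∑ l, xn (y l) • kel xn hxn g M hM (Pi.single l 1) := by
  apply ext_ker hi
  intro j
  rw [AddSubmonoidClass.coe_finsetSum, Prod.snd_sum, Finset.sum_apply, map_sum,
    Finset.sum_eq_single j]
  · change algebraMap A V (xn 1 * _) = algebraMap A V (xn (y j) * _)
    rw [map_mul, map_mul, kel_snd, kel_snd, hxn, hxn, Pi.single_eq_same]
    ring
  · intro l _ hl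
    change algebraMap A V (xn (y l) * _) = _
    rw [map_mul, kel_snd, Pi.single_eq_of_ne hl.symm, mul_zero, mul_zero]
  · intro h
    exact absurd (Finset.mem_univ j) h

include hz hi in
theorem key (φ : LinearMap.ker (presM g M hM) →ₗ[A] N) (y : ι → V) :
    (φ (kel xn hxn g M hM y) : V) =
      ∑ l, y l * (φ (kel xn hxn g M hM (Pi.single l 1)) : V) := by
  have h1 := congrArg (fun z => ((φ z : N) : V)) (sum_kel xn hxn hi g M hM y)
  rw [map_smul, map_sum, AddSubmonoidClass.coe_finsetSum, Submodule.coe_smul, Algebra.smul_def,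
    hxn, mul_one] at h1
  apply hz
  rw [Finset.mul_sum, h1]
  refine Finset.sum_congr rfl fun l _ => ?_
  rw [map_smul, ← mul_assoc, Submodule.coe_smul, Algebra.smul_def, hxn]

include hz hi hg in
theorem eq_zero_of_kel (φ : LinearMap.ker (presM g M hM) →ₗ[A] N)
    (h : ∀ l, (φ (kel xn hxn g M hM (Pi.single l 1)) : V) = 0) : φ = 0 := by
  ext1 x
  obtain ⟨y, rfl⟩ := exists_kel xn hxn hi g hg M hM x
  apply Subtype.ext
  rw [key hz xn hxn hi]
  exact Finset.sum_eq_zero fun l _ => by rw [h l, mul_zero]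

include hz hi hg in
theorem mem_range_theta (w : ι → V) :
    (∀ l, ∀ y : V, y * w l ∈ N) ↔ ∃ φ : LinearMap.ker (presM g M hM) →ₗ[A] N,
      ∀ l, (φ (kel xn hxn g M hM (Pi.single l 1)) : V) = w l := by
  constructor
  · intro hw
    choose y hy using exists_kel xn hxn hi g hg M hM
    have hy2 : ∀ (x : LinearMap.ker (presM g M hM)) (l : ι),
        algebraMap A V ((x : A × (ι → A)).2 l) = z * y x l := by
      intro x l
      conv_lhs => rw [hy x]
      exact kel_snd xn hxn g M hM _ l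
    have hadd : ∀ x x' l, y (x + x') l = y x l + y x' l := by
      intro x x' l
      apply hz
      rw [mul_add, ← hy2, ← hy2, ← hy2, ← map_add]
      rfl
    have hsmul : ∀ (c : A) x l, y (c • x) l = algebraMap A V c * y x l := by
      intro c x l
      apply hz
      rw [mul_left_comm, ← hy2, ← hy2, ← map_mul]
      rfl
    refine ⟨{ toFun := fun x => ⟨∑ l, y x l * w l, N.sum_mem fun l _ => hw l _⟩,
              map_add' := ?_, map_smul' := ?_ }, ?_⟩
    · intro x x'
      apply Subtype.ext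
      change ∑ l, y (x + x') l * w l = ∑ l, y x l * w l + ∑ l, y x' l * w l
      rw [← Finset.sum_add_distrib]
      refine Finset.sum_congr rfl fun l _ => ?_
      rw [hadd, add_mul]
    · intro c x
      apply Subtype.ext
      rw [RingHom.id_apply, Submodule.coe_smul, Algebra.smul_def]
      change ∑ l, y (c • x) l * w l = algebraMap A V c * ∑ l, y x l * w l
      rw [Finset.mul_sum]
      refine Finset.sum_congr rfl fun l _ => ?_
      rw [hsmul, mul_assoc]
    · intro j
      change ∑ l, y (kel xn hxn g M hM (Pi.single j 1)) l * w l = w j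
      have h1 : ∀ l, y (kel xn hxn g M hM (Pi.single j 1)) l = (Pi.single j 1 : ι → V) l := by
        intro l
        apply hz
        rw [← hy2, kel_snd]
      rw [Finset.sum_eq_single j]
      · rw [h1, Pi.single_eq_same, one_mul]
      · intro l _ hl
        rw [h1, Pi.single_eq_of_ne hl, zero_mul]
      · intro h
        exact absurd (Finset.mem_univ j) h
  · rintro ⟨φ, hφ⟩ l y
    have h := key hz xn hxn hi g M hM N φ (Pi.single l y)
    rw [Finset.sum_eq_single l] at h
    · rw [Pi.single_eq_same, hφ] at h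
      rw [← h]
      exact (φ _).2
    · intro j _ hj
      rw [Pi.single_eq_of_ne hj, zero_mul]
    · intro h
      exact absurd (Finset.mem_univ l) h

theorem mem_J (w : ι → V) :
    (∃ m0 ∈ N, ∃ m : ι → V, (∀ l, m l ∈ N) ∧ ∀ l, w l = z * (m l - g l * m0)) ↔
    (∃ ψ : (A × (ι → A)) →ₗ[A] N,
      ∀ l, (ψ (kel xn hxn g M hM (Pi.single l 1) : A × (ι → A)) : V) = w l) := by
  have e2 : ∀ (ψ : (A × (ι → A)) →ₗ[A] N) (j : ι),
      (ψ (kel xn hxn g M hM (Pi.single j 1) : A × (ι → A)) : V) =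
      z * ((ψ (0, Pi.single j 1) : V) - g j * (ψ (1, 0) : V)) := by
    intro ψ j
    have h1 : (kel xn hxn g M hM (Pi.single j 1) : A × (ι → A)) =
        (kel xn hxn g M hM (Pi.single j 1) : A × (ι → A)).1 • ((1, 0) : A × (ι → A)) +
        ∑ l, (kel xn hxn g M hM (Pi.single j 1) : A × (ι → A)).2 l •
          ((0, Pi.single l 1) : A × (ι → A)) := by
      refine Prod.ext ?_ ?_
      · rw [Prod.fst_add, Prod.fst_sum]
        simp
      · rw [Prod.snd_add, Prod.snd_sum]
        funext i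
        rw [Pi.add_apply, Finset.sum_apply, Finset.sum_eq_single i]
        · simp
        · intro l _ hl
          simp [Pi.single_eq_of_ne hl.symm]
        · intro h
          exact absurd (Finset.mem_univ i) h
    rw [h1, map_add, map_smul, map_sum, Submodule.coe_add, AddSubmonoidClass.coe_finsetSum,
      Submodule.coe_smul, Algebra.smul_def, kel_fst, Finset.sum_eq_single j,
      Finset.sum_eq_single j, map_smul, Submodule.coe_smul, Algebra.smul_def, kel_snd,
      Pi.single_eq_same]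
    · ring
    · intro l _ hl
      rw [map_smul, Submodule.coe_smul, Algebra.smul_def, kel_snd, Pi.single_eq_of_ne hl,
        mul_zero, zero_mul]
    · intro h
      exact absurd (Finset.mem_univ j) h
    · intro l _ hl
      rw [Pi.single_eq_of_ne hl, zero_mul]
    · intro h
      exact absurd (Finset.mem_univ j) h
  constructor
  · rintro ⟨m0, h0, m, hm, hw⟩
    refine ⟨(LinearMap.toSpanSingleton A N ⟨m0, h0⟩).coprod
      (Fintype.linearCombination A (fun l => (⟨m l, hm l⟩ : N))), ?_⟩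
    intro j
    rw [e2, hw]
    have h1 : ((LinearMap.toSpanSingleton A N ⟨m0, h0⟩).coprod
      (Fintype.linearCombination A (fun l => (⟨m l, hm l⟩ : N)))) (0, Pi.single j 1) =
        ⟨m j, hm j⟩ := by
      rw [LinearMap.coprod_apply, map_zero, zero_add, Fintype.linearCombination_apply,
        Finset.sum_eq_single j]
      · change (Pi.single j 1 : ι → A) j • _ = _
        rw [Pi.single_eq_same, one_smul]
      · intro l _ hl
        change (Pi.single j 1 : ι → A) l • _ = _
        rw [Pi.single_eq_of_ne hl, zero_smul]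
      · intro h
        exact absurd (Finset.mem_univ j) h
    have h2 : ((LinearMap.toSpanSingleton A N ⟨m0, h0⟩).coprod
      (Fintype.linearCombination A (fun l => (⟨m l, hm l⟩ : N)))) (1, 0) =
        ⟨m0, h0⟩ := by
      rw [LinearMap.coprod_apply, map_zero, add_zero, LinearMap.toSpanSingleton_apply, one_smul]
    rw [h1, h2]
  · rintro ⟨ψ, h⟩
    refine ⟨ψ (1, 0), (ψ _).2, fun l => ψ (0, Pi.single l 1), fun l => (ψ _).2, fun l => ?_⟩
    rw [← h, e2]

include hz hxn hi hg in
/-- The general computation. -/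
theorem length_ext_abs {M : Submodule A V} (hM : ∀ v, v ∈ M ↔ ∃ x : A × (ι → A), pres g x = v)
    (N : Submodule A V) (isH isJ : (ι → V) → Prop)
    (hH : ∀ w : ι → V, isH w ↔ ∀ l, ∀ y : V, y * w l ∈ N)
    (hJ : ∀ w : ι → V, isJ w ↔ ∃ m0 ∈ N, ∃ m : ι → V, (∀ l, m l ∈ N) ∧
      ∀ l, w l = z * (m l - g l * m0))
    {k : Type u} [Field k] [Algebra k A] [Module k V] [IsScalarTower k A V]
    (m : Ideal A) (hm : ∀ r : A, ∃ c : k, r - algebraMap k A c ∈ m)
    (r : ℕ) (hr : ∀ x ∈ m ^ r, ∀ w, isH w → isJ (fun l => x • w l))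
    {S : Type*} [Fintype S]
    (ψ : (ι → V) →ₗ[k] (S → k)) (hker : ∀ w, isH w → (ψ w = 0 ↔ isJ w))
    (hsurj : ∀ c : S → k, ∃ w, isH w ∧ ψ w = c) :
    Module.length A (Ext.{u} (ModuleCat.of A M) (ModuleCat.of A N) 1) = Fintype.card S := by
  refine ExtPi.length_ext (k := k) (presM g M hM) (presM_surjective g M hM)
    (fun l => kel xn hxn g M hM (Pi.single l 1)) N ?_ isH isJ ?_ ?_ m hm r hr ψ hker hsurj
  · intro φ hφ
    exact eq_zero_of_kel hz xn hxn hi g hg M hM N φ hφ
  · intro w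
    rw [hH]
    exact mem_range_theta hz xn hxn hi g hg M hM N w
  · intro w
    rw [hJ]
    exact mem_J xn hxn g M hM N w

end Abs

section Conc

variable {k : Type u} [Field k] (n : ℕ) (A : Subalgebra k k⟦X⟧)
  (hA : ∀ f : k⟦X⟧, f ∈ A ↔ ∀ m : ℕ, 0 < m → m < n → coeff m f = 0)

theorem mem_of_mono (hmono : ∀ f : k⟦X⟧, f ∈ A ↔ ∀ m : ℕ, coeff m f ≠ 0 → (m = 0 ∨ n ≤ m))
    (f : k⟦X⟧) : f ∈ A ↔ ∀ m : ℕ, 0 < m → m < n → coeff m f = 0 := by
  rw [hmono]
  constructor
  · intro h m h1 h2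
    by_contra h3
    rcases h m h3 with h4 | h4 <;> omega
  · intro h m h1
    by_contra h2
    push Not at h2
    exact h1 (h m (Nat.pos_of_ne_zero h2.1) h2.2)

theorem coeff_X_pow_mul_lt (a : ℕ) (f : k⟦X⟧) {m : ℕ} (hm : m < a) : coeff m (X ^ a * f) = 0 := by
  rw [coeff_X_pow_mul', if_neg (by omega)]

theorem coeff_X_pow_mul_ge (a : ℕ) (f : k⟦X⟧) {m : ℕ} (hm : a ≤ m) :
    coeff m (X ^ a * f) = coeff (m - a) f := by
  rw [coeff_X_pow_mul', if_pos hm]

include hA in
theorem Xn_mem (f : k⟦X⟧) : X ^ n * f ∈ A := by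
  rw [hA]
  intro m _ h2
  exact coeff_X_pow_mul_lt n f h2

theorem mul_X_pow_cancel (a : ℕ) {f g : k⟦X⟧} (h : X ^ a * f = X ^ a * g) : f = g :=
  mul_left_cancel₀ (pow_ne_zero _ X_ne_zero) h

variable {ι : Type} [Fintype ι] [DecidableEq ι] (a : ι → ℕ)
  (ha0 : ∀ l, 0 < a l) (han : ∀ l, a l < n) (hinj : Function.Injective a)

include hA ha0 han hinj in
theorem dvd_of_rel (x0 : A) (x : ι → A)
    (hx : (x0 : k⟦X⟧) + ∑ l, (x l : k⟦X⟧) * X ^ a l = 0) (j : ι) :
    (X : k⟦X⟧) ^ n ∣ (x j : k⟦X⟧) := by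
  have h1 := congrArg (coeff (R := k) (a j)) hx
  rw [map_add, map_sum, (hA _).1 x0.2 (a j) (ha0 j) (han j), zero_add, map_zero,
    Finset.sum_eq_single j] at h1
  · rw [mul_comm, coeff_X_pow_mul', if_pos le_rfl, Nat.sub_self] at h1
    rw [X_pow_dvd_iff]
    intro m hm
    rcases Nat.eq_zero_or_pos m with rfl | h
    · exact h1
    · exact (hA _).1 (x j).2 m h hm
  · intro l _ hl
    rw [mul_comm, coeff_X_pow_mul']
    split_ifs with h
    · have h2 : a l ≠ a j := fun h => hl (hinj h)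
      exact (hA _).1 (x l).2 _ (by omega) (by have := han j; omega)
    · rfl
  · intro h
    exact absurd (Finset.mem_univ j) h

include hA ha0 han hinj in
/-- The general computation. -/
theorem length_ext {M : Submodule A k⟦X⟧}
    (hM : ∀ v, v ∈ M ↔ ∃ (x0 : A) (x : ι → A), (x0 : k⟦X⟧) + ∑ l, (x l : k⟦X⟧) * X ^ a l = v)
    (N : Submodule A k⟦X⟧) (isH isJ : (ι → k⟦X⟧) → Prop)
    (hH : ∀ w : ι → k⟦X⟧, isH w ↔ ∀ l, ∀ y : k⟦X⟧, y * w l ∈ N)
    (hJ : ∀ w : ι → k⟦X⟧, isJ w ↔ ∃ m0 ∈ N, ∃ m : ι → k⟦X⟧, (∀ l, m l ∈ N) ∧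
      ∀ l, w l = X ^ n * (m l - X ^ a l * m0))
    (r : ℕ) (hr : ∀ x : k⟦X⟧, X ^ r ∣ x → ∀ w, isH w → isJ (fun l => x * w l))
    {S : Type*} [Fintype S]
    (ψ : (ι → k⟦X⟧) →ₗ[k] (S → k)) (hker : ∀ w, isH w → (ψ w = 0 ↔ isJ w))
    (hsurj : ∀ c : S → k, ∃ w, isH w ∧ ψ w = c) :
    Module.length A (Ext.{u} (ModuleCat.of A M) (ModuleCat.of A N) 1) = Fintype.card S := by
  refine length_ext_abs (A := A) (V := k⟦X⟧) (z := X ^ n) (fun f g h => mul_X_pow_cancel n h)
    (fun f => ⟨X ^ n * f, Xn_mem n A hA f⟩) (fun f => rfl) Subtype.val_injective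
    (fun l => X ^ a l) (fun x0 x hx => dvd_of_rel n A hA a ha0 han hinj x0 x hx) ?_ N isH isJ hH hJ
    (Mx.mx A) (Mx.mx_spec A) r ?_ ψ hker hsurj
  · intro v
    rw [hM]
    constructor
    · rintro ⟨x0, x, h⟩
      refine ⟨(x0, x), ?_⟩
      rw [pres_apply]
      exact h
    · rintro ⟨x, h⟩
      refine ⟨x.1, x.2, ?_⟩
      rw [pres_apply] at h
      exact h
  · intro x hx w hw
    exact hr x (Mx.dvd_of_mem A hx) w hw

omit hA [DecidableEq ι] in
theorem mem_span_iff {S : Set ℕ} (hS : S = insert 0 (Set.range a)) (v : k⟦X⟧) :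
    v ∈ Submodule.span A ((fun a : ℕ => (X : k⟦X⟧) ^ a) '' S) ↔
    ∃ (x0 : A) (x : ι → A), (x0 : k⟦X⟧) + ∑ l, (x l : k⟦X⟧) * X ^ a l = v := by
  have h1 : (fun a : ℕ => (X : k⟦X⟧) ^ a) '' S =
      insert (X ^ 0) (Set.range (fun l => (X : k⟦X⟧) ^ a l)) := by
    rw [hS, Set.image_insert_eq, ← Set.range_comp]
    rfl
  rw [h1, Submodule.mem_span_insert]
  constructor
  · rintro ⟨x0, z, hz, rfl⟩
    rw [Submodule.mem_span_range_iff_exists_fun] at hz
    obtain ⟨c, rfl⟩ := hz
    refine ⟨x0, c, ?_⟩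
    change _ = (x0 : k⟦X⟧) * X ^ 0 + _
    rw [pow_zero, mul_one]
    rfl
  · rintro ⟨x0, x, rfl⟩
    refine ⟨x0, ∑ l, x l • X ^ a l, ?_, ?_⟩
    · rw [Submodule.mem_span_range_iff_exists_fun]
      exact ⟨x, rfl⟩
    · change _ = (x0 : k⟦X⟧) * X ^ 0 + _
      rw [pow_zero, mul_one]
      rfl

include hA han hinj in
theorem exists_iff_coeff (v : k⟦X⟧) :
    (∃ (x0 : A) (x : ι → A), (x0 : k⟦X⟧) + ∑ l, (x l : k⟦X⟧) * X ^ a l = v) ↔
    ∀ d, 0 < d → d < n → (∀ l, a l ≠ d) → coeff d v = 0 := by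
  constructor
  · rintro ⟨x0, x, rfl⟩ d h1 h2 h3
    rw [map_add, (hA _).1 x0.2 d h1 h2, zero_add, map_sum]
    refine Finset.sum_eq_zero fun l _ => ?_
    rw [mul_comm, coeff_X_pow_mul']
    split_ifs with h
    · have h4 := h3 l
      exact (hA _).1 (x l).2 _ (by omega) (by omega)
    · rfl
  · intro h
    refine ⟨⟨v - ∑ l, C (coeff (a l) v) * X ^ a l, ?_⟩, fun l => ⟨C (coeff (a l) v), ?_⟩, ?_⟩
    · rw [hA]
      intro m h1 h2
      rw [map_sub, map_sum, sub_eq_zero]
      simp only [coeff_C_mul, coeff_X_pow]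
      by_cases h3 : ∃ l, a l = m
      · obtain ⟨l, rfl⟩ := h3
        rw [Finset.sum_eq_single l]
        · rw [if_pos rfl, mul_one]
        · intro j _ hj
          rw [if_neg (fun h => hj (hinj h.symm)), mul_zero]
        · intro h
          exact absurd (Finset.mem_univ l) h
      · push Not at h3
        rw [h m h1 h2 h3, eq_comm]
        refine Finset.sum_eq_zero fun l _ => ?_
        rw [if_neg (h3 l).symm, mul_zero]
    · rw [hA]
      intro m h1 _
      rw [coeff_C, if_neg (by omega)]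
    · change (v - ∑ l, C (coeff (a l) v) * X ^ a l) + ∑ l, C (coeff (a l) v) * X ^ a l = v
      ring

end Conc

end K840.Cubical
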