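import Mathlib.Algebra.Category.ModuleCat.Ext.HasExt
import Mathlib.Algebra.Homology.DerivedCategory.Ext.Linear
import Mathlib.Algebra.Homology.DerivedCategory.Ext.ExactSequences
import Mathlib.Algebra.Homology.ShortComplex.ModuleCat
import Mathlib.Algebra.Category.ModuleCat.Algebra
import Mathlib.CategoryTheory.Abelian.Projective.Dimension

/-!
# `Ext¹` of modules as a cokernel

* `extOneEquiv` : for `0 → K → F → M → 0` exact with `Ext¹(F, N) = 0`,
  `Ext¹(M, N) ≃ₗ Hom(K, N) / Hom(F, N)`.
* `extOneDual` : if `Ext¹(M, R) = 0 = Ext¹(N, R)` then `Ext¹(M, N^*) ≃ Ext¹(N, M^*)`.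
-/

set_option autoImplicit false
universe u

open CategoryTheory CategoryTheory.Abelian

namespace K840.ExtOne

variable {R : Type u} [CommRing R] {K F M N : Type u} [AddCommGroup K] [Module R K]
  [AddCommGroup F] [Module R F] [AddCommGroup M] [Module R M] [AddCommGroup N] [Module R N]

/-- The short complex of an exact pair of linear maps. -/
abbrev sc (i : K →ₗ[R] F) (p : F →ₗ[R] M) (hex : Function.Exact i p) :
    ShortComplex (ModuleCat.{u} R) :=
  ShortComplex.mk (ModuleCat.ofHom i) (ModuleCat.ofHom p) (by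
    ext x
    exact hex.apply_apply_eq_zero x)

theorem sc_shortExact (i : K →ₗ[R] F) (p : F →ₗ[R] M) (hi : Function.Injective i)
    (hp : Function.Surjective p) (hex : Function.Exact i p) : (sc i p hex).ShortExact where
  exact := (ShortComplex.ShortExact.moduleCat_exact_iff_function_exact _).2 hex
  mono_f := (ModuleCat.mono_iff_injective _).2 hi
  epi_g := (ModuleCat.epi_iff_surjective _).2 hp

/-- The connecting map `Hom(K, N) → Ext¹(M, N)`. -/
noncomputable def delta (i : K →ₗ[R] F) (p : F →ₗ[R] M) (hi : Function.Injective i)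
    (hp : Function.Surjective p) (hex : Function.Exact i p) :
    (K →ₗ[R] N) →ₗ[R] Ext.{u} (ModuleCat.of R M) (ModuleCat.of R N) 1 :=
  (Ext.precompOfLinear (sc_shortExact i p hi hp hex).extClass R (ModuleCat.of R N) (add_zero 1)).comp
    ((Ext.linearEquiv₀ (R := R) (X := ModuleCat.of R K) (Y := ModuleCat.of R N)).symm.toLinearMap.comp
      (ModuleCat.homLinearEquiv (S := R) (M := ModuleCat.of R K) (N := ModuleCat.of R N)).symm.toLinearMap)

theorem delta_apply (i : K →ₗ[R] F) (p : F →ₗ[R] M) (hi : Function.Injective i)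
    (hp : Function.Surjective p) (hex : Function.Exact i p) (f : K →ₗ[R] N) :
    delta i p hi hp hex f =
      (sc_shortExact i p hi hp hex).extClass.comp (Ext.mk₀ (ModuleCat.ofHom f)) (add_zero 1) := rfl

theorem ker_delta (i : K →ₗ[R] F) (p : F →ₗ[R] M) (hi : Function.Injective i)
    (hp : Function.Surjective p) (hex : Function.Exact i p) :
    LinearMap.ker (delta (N := N) i p hi hp hex) = LinearMap.range (LinearMap.lcomp R N i) := by
  ext f
  rw [LinearMap.mem_ker, delta_apply]
  constructor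
  · intro h
    obtain ⟨x, hx⟩ := Ext.contravariant_sequence_exact₁ (sc_shortExact i p hi hp hex)
      (ModuleCat.of R N) (Ext.mk₀ (ModuleCat.ofHom f)) (add_zero 1) h
    obtain ⟨g, rfl⟩ := (Ext.mk₀_bijective _ _).2 x
    rw [Ext.mk₀_comp_mk₀] at hx
    have h2 := (Ext.mk₀_bijective _ _).1 hx
    refine ⟨ModuleCat.Hom.hom g, ?_⟩
    have h3 := congrArg ModuleCat.Hom.hom h2
    exact h3
  · rintro ⟨g, rfl⟩
    have h1 : Ext.mk₀ (ModuleCat.ofHom (LinearMap.lcomp R N i g)) =
        (Ext.mk₀ (sc i p hex).f).comp (Ext.mk₀ (ModuleCat.ofHom g)) (zero_add 0) := by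
      rw [Ext.mk₀_comp_mk₀]
      rfl
    rw [h1]
    exact (sc_shortExact i p hi hp hex).extClass_comp_assoc _

theorem delta_surjective (i : K →ₗ[R] F) (p : F →ₗ[R] M) (hi : Function.Injective i)
    (hp : Function.Surjective p) (hex : Function.Exact i p)
    (hF : Subsingleton (Ext.{u} (ModuleCat.of R F) (ModuleCat.of R N) 1)) :
    Function.Surjective (delta (N := N) i p hi hp hex) := by
  intro x
  obtain ⟨y, hy⟩ := Ext.contravariant_sequence_exact₃ (sc_shortExact i p hi hp hex)
    (ModuleCat.of R N) x (hF.elim _ _) (add_zero 1)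
  obtain ⟨g, rfl⟩ := (Ext.mk₀_bijective _ _).2 y
  exact ⟨ModuleCat.Hom.hom g, hy⟩

/-- `Ext¹(M, N) = Hom(K, N) / Hom(F, N)` for `0 → K → F → M → 0` with `Ext¹(F, N) = 0`. -/
noncomputable def extOneEquiv (i : K →ₗ[R] F) (p : F →ₗ[R] M) (hi : Function.Injective i)
    (hp : Function.Surjective p) (hex : Function.Exact i p)
    (hF : Subsingleton (Ext.{u} (ModuleCat.of R F) (ModuleCat.of R N) 1)) :
    ((K →ₗ[R] N) ⧸ LinearMap.range (LinearMap.lcomp R N i)) ≃ₗ[R]
      Ext.{u} (ModuleCat.of R M) (ModuleCat.of R N) 1 :=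
  (Submodule.quotEquivOfEq _ _ (ker_delta i p hi hp hex).symm).trans
    ((delta (N := N) i p hi hp hex).quotKerEquivOfSurjective (delta_surjective i p hi hp hex hF))

theorem subsingleton_ext_of_projective [Module.Projective R F] (n : ℕ) :
    Subsingleton (Ext.{u} (ModuleCat.of R F) (ModuleCat.of R N) (n + 1)) := by
  have : Projective (ModuleCat.of R F) := inferInstance
  exact Ext.subsingleton_of_projective _ _ _

/-- The connecting map `Hom(N, M) → Ext¹(N, K)`. -/
noncomputable def deltaCov (i : K →ₗ[R] F) (p : F →ₗ[R] M) (hi : Function.Injective i)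
    (hp : Function.Surjective p) (hex : Function.Exact i p) :
    (N →ₗ[R] M) →ₗ[R] Ext.{u} (ModuleCat.of R N) (ModuleCat.of R K) 1 :=
  (Ext.postcompOfLinear (sc_shortExact i p hi hp hex).extClass R (ModuleCat.of R N) (zero_add 1)).comp
    ((Ext.linearEquiv₀ (R := R) (X := ModuleCat.of R N) (Y := ModuleCat.of R M)).symm.toLinearMap.comp
      (ModuleCat.homLinearEquiv (S := R) (M := ModuleCat.of R N) (N := ModuleCat.of R M)).symm.toLinearMap)

theorem deltaCov_apply (i : K →ₗ[R] F) (p : F →ₗ[R] M) (hi : Function.Injective i)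
    (hp : Function.Surjective p) (hex : Function.Exact i p) (f : N →ₗ[R] M) :
    deltaCov i p hi hp hex f =
      (Ext.mk₀ (ModuleCat.ofHom f)).comp (sc_shortExact i p hi hp hex).extClass (zero_add 1) := rfl

theorem ker_deltaCov (i : K →ₗ[R] F) (p : F →ₗ[R] M) (hi : Function.Injective i)
    (hp : Function.Surjective p) (hex : Function.Exact i p) :
    LinearMap.ker (deltaCov (N := N) i p hi hp hex) = LinearMap.range (LinearMap.compRight (M := N) R p) := by
  ext f
  rw [LinearMap.mem_ker, deltaCov_apply]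
  constructor
  · intro h
    obtain ⟨x, hx⟩ := Ext.covariant_sequence_exact₃ (ModuleCat.of R N) (sc_shortExact i p hi hp hex)
      (Ext.mk₀ (ModuleCat.ofHom f)) (zero_add 1) h
    obtain ⟨g, rfl⟩ := (Ext.mk₀_bijective _ _).2 x
    rw [Ext.mk₀_comp_mk₀] at hx
    have h2 := (Ext.mk₀_bijective _ _).1 hx
    refine ⟨ModuleCat.Hom.hom g, ?_⟩
    have h3 := congrArg ModuleCat.Hom.hom h2
    exact h3
  · rintro ⟨g, rfl⟩
    have h1 : Ext.mk₀ (ModuleCat.ofHom (LinearMap.compRight (M := N) R p g)) =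
        (Ext.mk₀ (ModuleCat.ofHom g)).comp (Ext.mk₀ (sc i p hex).g) (zero_add 0) := by
      rw [Ext.mk₀_comp_mk₀]
      rfl
    rw [h1, Ext.comp_assoc_of_second_deg_zero, (sc_shortExact i p hi hp hex).comp_extClass,
      Ext.comp_zero]

theorem deltaCov_surjective (i : K →ₗ[R] F) (p : F →ₗ[R] M) (hi : Function.Injective i)
    (hp : Function.Surjective p) (hex : Function.Exact i p)
    (hF : Subsingleton (Ext.{u} (ModuleCat.of R N) (ModuleCat.of R F) 1)) :
    Function.Surjective (deltaCov (N := N) i p hi hp hex) := by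
  intro x
  obtain ⟨y, hy⟩ := Ext.covariant_sequence_exact₁ (ModuleCat.of R N)
    (sc_shortExact i p hi hp hex) x (hF.elim _ _) (zero_add 1)
  obtain ⟨g, rfl⟩ := (Ext.mk₀_bijective _ _).2 y
  exact ⟨ModuleCat.Hom.hom g, hy⟩

/-- `Ext¹(N, K) = Hom(N, M) / Hom(N, F)` for `0 → K → F → M → 0` with `Ext¹(N, F) = 0`. -/
noncomputable def extOneEquivCov (i : K →ₗ[R] F) (p : F →ₗ[R] M) (hi : Function.Injective i)
    (hp : Function.Surjective p) (hex : Function.Exact i p)
    (hF : Subsingleton (Ext.{u} (ModuleCat.of R N) (ModuleCat.of R F) 1)) :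
    ((N →ₗ[R] M) ⧸ LinearMap.range (LinearMap.compRight (M := N) R p)) ≃ₗ[R]
      Ext.{u} (ModuleCat.of R N) (ModuleCat.of R K) 1 :=
  (Submodule.quotEquivOfEq _ _ (ker_deltaCov i p hi hp hex).symm).trans
    ((deltaCov (N := N) i p hi hp hex).quotKerEquivOfSurjective
      (deltaCov_surjective i p hi hp hex hF))

/-- A subsingleton `Ext¹(M, N)` gives extensions of linear maps. -/
theorem exists_extension (i : K →ₗ[R] F) (p : F →ₗ[R] M) (hi : Function.Injective i)
    (hp : Function.Surjective p) (hex : Function.Exact i p)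
    (hM : Subsingleton (Ext.{u} (ModuleCat.of R M) (ModuleCat.of R N) 1)) (f : K →ₗ[R] N) :
    ∃ g : F →ₗ[R] N, g.comp i = f := by
  have h : f ∈ LinearMap.ker (delta (N := N) i p hi hp hex) :=
    LinearMap.mem_ker.2 (hM.elim _ _)
  rw [ker_delta] at h
  obtain ⟨g, hg⟩ := h
  exact ⟨g, hg⟩

/-- `Ext¹(M, N) = 0` if every map from the syzygy extends. -/
theorem subsingleton_ext_of_extension (i : K →ₗ[R] F) (p : F →ₗ[R] M) (hi : Function.Injective i)
    (hp : Function.Surjective p) (hex : Function.Exact i p)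
    (hF : Subsingleton (Ext.{u} (ModuleCat.of R F) (ModuleCat.of R N) 1))
    (h : ∀ f : K →ₗ[R] N, ∃ g : F →ₗ[R] N, g.comp i = f) :
    Subsingleton (Ext.{u} (ModuleCat.of R M) (ModuleCat.of R N) 1) := by
  refine ⟨fun x y => ?_⟩
  have h0 : ∀ z : Ext.{u} (ModuleCat.of R M) (ModuleCat.of R N) 1, z = 0 := by
    intro z
    obtain ⟨f, rfl⟩ := delta_surjective i p hi hp hex hF z
    obtain ⟨g, rfl⟩ := h f
    have : LinearMap.lcomp R N i g ∈ LinearMap.ker (delta (N := N) i p hi hp hex) := by
      rw [ker_delta]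
      exact ⟨g, rfl⟩
    exact LinearMap.mem_ker.1 this
  rw [h0 x, h0 y]

section Congr

variable {M' N' : Type u} [AddCommGroup M'] [Module R M'] [AddCommGroup N'] [Module R N']

/-- Functoriality of `Ext` for linear equivalences, in the first variable. -/
noncomputable def extCongrLeft (e : M ≃ₗ[R] M') (n : ℕ) :
    Ext.{u} (ModuleCat.of R M) (ModuleCat.of R N) n ≃ₗ[R]
      Ext.{u} (ModuleCat.of R M') (ModuleCat.of R N) n :=
  LinearEquiv.ofLinear
    (Ext.precompOfLinear (Ext.mk₀ (ModuleCat.ofHom e.symm.toLinearMap)) R (ModuleCat.of R N)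
      (zero_add n))
    (Ext.precompOfLinear (Ext.mk₀ (ModuleCat.ofHom e.toLinearMap)) R (ModuleCat.of R N)
      (zero_add n))
    (by
      ext x
      change (Ext.mk₀ _).comp ((Ext.mk₀ _).comp x (zero_add n)) (zero_add n) = x
      rw [Ext.mk₀_comp_mk₀_assoc, ← ModuleCat.ofHom_comp, LinearEquiv.comp_symm]
      exact Ext.mk₀_id_comp x)
    (by
      ext x
      change (Ext.mk₀ _).comp ((Ext.mk₀ _).comp x (zero_add n)) (zero_add n) = x
      rw [Ext.mk₀_comp_mk₀_assoc, ← ModuleCat.ofHom_comp, LinearEquiv.symm_comp]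
      exact Ext.mk₀_id_comp x)

/-- Functoriality of `Ext` for linear equivalences, in the second variable. -/
noncomputable def extCongrRight (f : N ≃ₗ[R] N') (n : ℕ) :
    Ext.{u} (ModuleCat.of R M) (ModuleCat.of R N) n ≃ₗ[R]
      Ext.{u} (ModuleCat.of R M) (ModuleCat.of R N') n :=
  LinearEquiv.ofLinear
    (Ext.postcompOfLinear (Ext.mk₀ (ModuleCat.ofHom f.toLinearMap)) R (ModuleCat.of R M)
      (add_zero n))
    (Ext.postcompOfLinear (Ext.mk₀ (ModuleCat.ofHom f.symm.toLinearMap)) R (ModuleCat.of R M)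
      (add_zero n))
    (by
      ext x
      change (x.comp (Ext.mk₀ _) (add_zero n)).comp (Ext.mk₀ _) (add_zero n) = x
      rw [Ext.comp_assoc_of_third_deg_zero, Ext.mk₀_comp_mk₀, ← ModuleCat.ofHom_comp,
        LinearEquiv.comp_symm]
      exact Ext.comp_mk₀_id x)
    (by
      ext x
      change (x.comp (Ext.mk₀ _) (add_zero n)).comp (Ext.mk₀ _) (add_zero n) = x
      rw [Ext.comp_assoc_of_third_deg_zero, Ext.mk₀_comp_mk₀, ← ModuleCat.ofHom_comp,
        LinearEquiv.symm_comp]
      exact Ext.comp_mk₀_id x)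

end Congr

section Dual

theorem lcomp_injective (p : F →ₗ[R] M) (hp : Function.Surjective p) :
    Function.Injective (LinearMap.lcomp R N p) := by
  intro f g h
  ext x
  obtain ⟨y, rfl⟩ := hp x
  exact LinearMap.congr_fun h y

theorem lcomp_exact (i : K →ₗ[R] F) (p : F →ₗ[R] M) (hp : Function.Surjective p)
    (hex : Function.Exact i p) :
    Function.Exact (LinearMap.lcomp R N p) (LinearMap.lcomp R N i) := by
  intro f
  constructor
  · intro h
    have h1 : LinearMap.ker p ≤ LinearMap.ker f := by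
      intro x hx
      obtain ⟨y, rfl⟩ := (hex x).1 hx
      exact LinearMap.congr_fun h y
    refine ⟨((LinearMap.ker p).liftQ f h1).comp (p.quotKerEquivOfSurjective hp).symm.toLinearMap, ?_⟩
    ext x
    change (LinearMap.ker p).liftQ f h1 ((p.quotKerEquivOfSurjective hp).symm (p _)) = _
    rw [LinearMap.quotKerEquivOfSurjective_symm_apply]
    rfl
  · rintro ⟨g, rfl⟩
    ext x
    change g (p (i x)) = 0
    rw [hex.apply_apply_eq_zero, map_zero]

theorem lcomp_surjective (i : K →ₗ[R] F) (p : F →ₗ[R] M) (hi : Function.Injective i)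
    (hp : Function.Surjective p) (hex : Function.Exact i p)
    (hM : Subsingleton (Ext.{u} (ModuleCat.of R M) (ModuleCat.of R N) 1)) :
    Function.Surjective (LinearMap.lcomp R N i) := by
  intro g
  obtain ⟨g', hg'⟩ := exists_extension i p hi hp hex hM g
  exact ⟨g', hg'⟩

theorem exists_presentation (R : Type u) [CommRing R] (M : Type u) [AddCommGroup M] [Module R M] :
    ∃ (F K : Type u) (_ : AddCommGroup F) (_ : Module R F) (_ : AddCommGroup K) (_ : Module R K)
      (_ : Module.Projective R F) (i : K →ₗ[R] F) (p : F →ₗ[R] M), Function.Injective i ∧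
      Function.Surjective p ∧ Function.Exact i p := by
  refine ⟨M →₀ R, ↥(LinearMap.ker (Finsupp.linearCombination R (id : M → M))), inferInstance,
    inferInstance, inferInstance, inferInstance, inferInstance,
    (LinearMap.ker (Finsupp.linearCombination R (id : M → M))).subtype,
    Finsupp.linearCombination R id, Subtype.val_injective,
    Finsupp.linearCombination_id_surjective R M, ?_⟩
  rw [LinearMap.exact_iff]
  exact (Submodule.range_subtype _).symm

/-- `Ext¹(N, F^*) = 0` for `F` projective if `Ext¹(N, R) = 0`. -/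
theorem subsingleton_ext_dual [Module.Projective R F]
    (hN : Subsingleton (Ext.{u} (ModuleCat.of R N) (ModuleCat.of R R) 1)) :
    Subsingleton (Ext.{u} (ModuleCat.of R N) (ModuleCat.of R (F →ₗ[R] R)) 1) := by
  obtain ⟨P, L, _, _, _, _, _, i, p, hi, hp, hex⟩ := exists_presentation R N
  refine subsingleton_ext_of_extension i p hi hp hex (subsingleton_ext_of_projective 0) ?_
  intro f
  obtain ⟨g, hg⟩ := Module.projective_lifting_property (LinearMap.lcomp R R i) f.flip
    (lcomp_surjective i p hi hp hex hN)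
  refine ⟨g.flip, ?_⟩
  ext x y
  have := LinearMap.congr_fun (LinearMap.congr_fun hg y) x
  exact this

/-- `Ext¹(M, N^*) ≃ Ext¹(N, M^*)` if `Ext¹(M, R) = Ext¹(N, R) = 0`. -/
theorem extOneDual (hM : Subsingleton (Ext.{u} (ModuleCat.of R M) (ModuleCat.of R R) 1))
    (hN : Subsingleton (Ext.{u} (ModuleCat.of R N) (ModuleCat.of R R) 1)) :
    Nonempty (Ext.{u} (ModuleCat.of R M) (ModuleCat.of R (N →ₗ[R] R)) 1 ≃ₗ[R]
      Ext.{u} (ModuleCat.of R N) (ModuleCat.of R (M →ₗ[R] R)) 1) := by
  obtain ⟨P, L, _, _, _, _, _, i, p, hi, hp, hex⟩ := exists_presentation R M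
  have e1 := extOneEquiv (N := (N →ₗ[R] R)) i p hi hp hex (subsingleton_ext_of_projective 0)
  have hi' : Function.Injective (LinearMap.lcomp R R p) := lcomp_injective p hp
  have hp' : Function.Surjective (LinearMap.lcomp R R i) := lcomp_surjective i p hi hp hex hM
  have hex' : Function.Exact (LinearMap.lcomp R R p) (LinearMap.lcomp R R i) :=
    lcomp_exact i p hp hex
  have e2 := extOneEquivCov (N := N) (LinearMap.lcomp R R p) (LinearMap.lcomp R R i) hi' hp' hex'
    (subsingleton_ext_dual hN)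
  let Φ : (L →ₗ[R] (N →ₗ[R] R)) ≃ₗ[R] (N →ₗ[R] (L →ₗ[R] R)) :=
    { toFun := fun f => f.flip
      invFun := fun f => f.flip
      left_inv := fun _ => rfl
      right_inv := fun _ => rfl
      map_add' := fun _ _ => rfl
      map_smul' := fun _ _ => rfl }
  refine ⟨e1.symm.trans (LinearEquiv.trans (Submodule.Quotient.equiv _ _ Φ ?_) e2)⟩
  ext f
  constructor
  · rintro ⟨g, ⟨h, rfl⟩, rfl⟩
    exact ⟨h.flip, rfl⟩
  · rintro ⟨h, rfl⟩
    exact ⟨_, ⟨h.flip, rfl⟩, rfl⟩

end Dual

end K840.ExtOne
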