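import Groth.Agent.TFCurv.K840.ExtEval

/-!
# `Ext¹` computed by evaluation on finitely many relations
-/

set_option autoImplicit false
universe u

open CategoryTheory CategoryTheory.Abelian

namespace K840.ExtPi

variable {A : Type u} [CommRing A] {F M V : Type u} [AddCommGroup F] [Module A F]
  [Module.Projective A F] [AddCommGroup M] [Module A M] [AddCommGroup V] [Module A V]
  (p : F →ₗ[A] M) (hp : Function.Surjective p) {ι : Type} (κ : ι → LinearMap.ker p)
  (N : Submodule A V)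

/-- evaluation on the relations -/
def theta : (LinearMap.ker p →ₗ[A] N) →ₗ[A] (ι → V) :=
  LinearMap.pi (fun l => N.subtype.comp (LinearMap.applyₗ (κ l)))

theorem theta_apply (φ : LinearMap.ker p →ₗ[A] N) (l : ι) : theta p κ N φ l = φ (κ l) := rfl

variable (hκ : ∀ φ : LinearMap.ker p →ₗ[A] N, (∀ l, (φ (κ l) : V) = 0) → φ = 0)
  (isH isJ : (ι → V) → Prop)
  (hH : ∀ w, isH w ↔ ∃ φ : LinearMap.ker p →ₗ[A] N, ∀ l, (φ (κ l) : V) = w l)
  (hJ : ∀ w, isJ w ↔ ∃ ψ : F →ₗ[A] N, ∀ l, (ψ (κ l : F) : V) = w l)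

include hp hκ hH hJ in
theorem length_ext {k : Type u} [Field k] [Algebra k A] [Module k V] [IsScalarTower k A V]
    (m : Ideal A) (hm : ∀ r : A, ∃ c : k, r - algebraMap k A c ∈ m) (n : ℕ)
    (hn : ∀ r ∈ m ^ n, ∀ w : ι → V, isH w → isJ (fun l => r • w l)) {S : Type*} [Fintype S]
    (ψ : (ι → V) →ₗ[k] (S → k)) (hker : ∀ w : ι → V, isH w → (ψ w = 0 ↔ isJ w))
    (hsurj : ∀ c : S → k, ∃ w : ι → V, isH w ∧ ψ w = c) :
    Module.length A (Ext.{u} (ModuleCat.of A M) (ModuleCat.of A N) 1) = Fintype.card S := by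
  let r : (F →ₗ[A] N) →ₗ[A] (LinearMap.ker p →ₗ[A] N) :=
    LinearMap.lcomp A N (LinearMap.ker p).subtype
  have h1 : ∀ w, w ∈ LinearMap.range (theta p κ N) ↔ isH w := by
    intro w
    rw [hH]
    constructor
    · rintro ⟨φ, rfl⟩
      exact ⟨φ, fun l => rfl⟩
    · rintro ⟨φ, h⟩
      exact ⟨φ, funext h⟩
  have h2 : ∀ w, w ∈ LinearMap.range ((theta p κ N).comp r) ↔ isJ w := by
    intro w
    rw [hJ]
    constructor
    · rintro ⟨φ, rfl⟩
      exact ⟨φ, fun l => rfl⟩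
    · rintro ⟨φ, h⟩
      exact ⟨φ, funext h⟩
  refine ExtEval.length_ext (W := ι → V) p hp (theta p κ N) ?_ (LinearMap.range (theta p κ N))
    (LinearMap.range ((theta p κ N).comp r)) (fun w => Iff.rfl) (fun w => Iff.rfl) m hm n ?_ ψ ?_ ?_
  · rw [injective_iff_map_eq_zero]
    intro φ hφ
    exact hκ φ fun l => congrFun hφ l
  · intro x hx q hq
    exact (h2 _).2 (hn x hx q ((h1 q).1 hq))
  · intro w hw
    rw [h2]
    exact hker w ((h1 w).1 hw)
  · intro c
    obtain ⟨w, hw, hc⟩ := hsurj c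
    exact ⟨w, (h1 w).2 hw, hc⟩

end K840.ExtPi
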