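import Groth.Agent.TFCurv.K840.ExtOne
import Groth.Agent.CalgB.LiftMCM
import Groth.Agent.Divis.ReflexAlg

/-!
# Torsion-free modules over a one-dimensional Gorenstein local domain

* `ext_one_subsingleton` : `Ext¹(N, O) = 0` for `N` finite torsion-free.
* `eval_bijective` : finite torsion-free modules are reflexive.
-/

set_option autoImplicit false
universe u

open CategoryTheory CategoryTheory.Abelian IsLocalRing

namespace K840.GorDim1

/-- Finite torsion-free modules over a Noetherian domain are torsionless. -/
theorem eval_injective (R : Type u) [CommRing R] [IsDomain R] [IsNoetherianRing R]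
    (N : Type u) [AddCommGroup N] [Module R N] [Module.Finite R N] [NoZeroSMulDivisors R N] :
    Function.Injective (Module.Dual.eval R N) := by
  rw [injective_iff_map_eq_zero]
  intro m hm
  obtain ⟨s, hs, hsm⟩ := Groth.Agent.Divis.ReflexAlg.exists_smul_eq_zero_of_eval_eq_zero
    (nonZeroDivisors R) (FractionRing R)
    (LocalizedModule.mkLinearMap (nonZeroDivisors R) N) m hm
  exact (smul_eq_zero.1 hsm).resolve_left (nonZeroDivisors.ne_zero hs)

variable (O : Type u) [CommRing O] [IsDomain O] [LocCoh.IsGorensteinLocalRing O]
  (hdim : ringKrullDim O = 1)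

include hdim in
theorem exists_mem_ne_zero : ∃ x ∈ maximalIdeal O, x ≠ 0 := by
  by_contra h
  push Not at h
  have h0 : maximalIdeal O = ⊥ := by
    rw [eq_bot_iff]
    intro x hx
    exact h x hx
  have h1 : IsField O := by
    rw [IsLocalRing.isField_iff_maximalIdeal_eq]
    exact h0
  have := ringKrullDim_eq_zero_of_isField h1
  rw [this] at hdim
  exact zero_ne_one hdim

include hdim in
/-- `Ext¹(N, O) = 0` for `N` finite torsion-free over a one-dimensional Gorenstein local domain. -/
theorem ext_one_subsingleton (N : Type u) [AddCommGroup N] [Module O N] [Module.Finite O N]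
    [NoZeroSMulDivisors O N] :
    Subsingleton (Ext.{u} (ModuleCat.of O N) (ModuleCat.of O O) 1) := by
  obtain ⟨x, hx, hx0⟩ := exists_mem_ne_zero O hdim
  refine Groth.Agent.CalgB.LiftMCM.subsingleton_ext_of_isWeaklyRegular O 1 (by simpa using hdim) [x]
    (by simpa using hx) N ?_ 1 (by simp)
  rw [RingTheory.Sequence.isWeaklyRegular_singleton_iff]
  intro a b hab
  exact smul_right_injective N hx0 hab

include hdim in
/-- Finite torsion-free modules over a one-dimensional Gorenstein local domain are reflexive. -/
theorem eval_bijective (N : Type u) [AddCommGroup N] [Module O N] [Module.Finite O N]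
    [NoZeroSMulDivisors O N] : Function.Bijective (Module.Dual.eval O N) := by
  refine ⟨eval_injective O N, ?_⟩
  intro φ
  obtain ⟨n, p, hp⟩ := Module.Finite.exists_fin' O N
  have hex : Function.Exact (LinearMap.ker p).subtype p := by
    rw [LinearMap.exact_iff]
    exact (Submodule.range_subtype _).symm
  have hi : Function.Injective (LinearMap.ker p).subtype := Subtype.val_injective
  have hN := ext_one_subsingleton O hdim N
  have htf : NoZeroSMulDivisors O (↥(LinearMap.ker p) →ₗ[O] O) := by
    refine ⟨fun {c x} h => ?_⟩
    by_cases hc : c = 0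
    · exact Or.inl hc
    · refine Or.inr (LinearMap.ext fun y => ?_)
      have h1 := LinearMap.congr_fun h y
      exact (mul_eq_zero.1 h1).resolve_left hc
  have hK : Subsingleton (Ext.{u} (ModuleCat.of O (↥(LinearMap.ker p) →ₗ[O] O)) (ModuleCat.of O O) 1) :=
    ext_one_subsingleton O hdim _
  obtain ⟨Φ, hΦ⟩ := ExtOne.exists_extension (LinearMap.lcomp O O p) (LinearMap.lcomp O O (LinearMap.ker p).subtype)
    (ExtOne.lcomp_injective p hp) (ExtOne.lcomp_surjective (K := ↥(LinearMap.ker p)) _ p hi hp hex hN)
    (ExtOne.lcomp_exact (K := ↥(LinearMap.ker p)) _ p hp hex) hK φ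
  obtain ⟨f, rfl⟩ := (Module.bijective_dual_eval O (Fin n → O)).2 Φ
  refine ⟨p f, ?_⟩
  ext g
  exact LinearMap.congr_fun hΦ g

end K840.GorDim1
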