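import Groth.Agent.TFCurv.K840.ExtOne
import Mathlib.CategoryTheory.Abelian.Injective.Dimension
import Mathlib.RingTheory.Ideal.Quotient.Defs
import Mathlib.RingTheory.Ideal.Basic

/-!
# Modules of injective dimension at most one

* `subsingleton_ext_one` : `Ext¹(P, N) = 0` if `N` has injective dimension `≤ 1` and `P` embeds in
  the ring.
* `exists_not_extend` : non-extendable maps on submodules of colength one.
-/

set_option autoImplicit false
universe u

open CategoryTheory CategoryTheory.Abelian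

namespace K840.InjDim1

variable {R : Type u} [CommRing R]

theorem subsingleton_ext_one {N P : Type u} [AddCommGroup N] [Module R N] [AddCommGroup P]
    [Module R P] (hN : HasInjectiveDimensionLT (ModuleCat.of R N) 2) (j : P →ₗ[R] R)
    (hj : Function.Injective j) :
    Subsingleton (Ext.{u} (ModuleCat.of R P) (ModuleCat.of R N) 1) := by
  have hp : Function.Surjective (LinearMap.range j).mkQ := Submodule.mkQ_surjective _
  have hex : Function.Exact j (LinearMap.range j).mkQ := by
    rw [LinearMap.exact_iff, Submodule.ker_mkQ]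
  have h2 : Subsingleton (Ext.{u} (ModuleCat.of R (R ⧸ LinearMap.range j)) (ModuleCat.of R N) 2) :=
    HasInjectiveDimensionLT.subsingleton (ModuleCat.of R N) 2 2 le_rfl _
  have h1 : Subsingleton (Ext.{u} (ModuleCat.of R R) (ModuleCat.of R N) 1) :=
    ExtOne.subsingleton_ext_of_projective 0
  have h0 : ∀ x : Ext.{u} (ModuleCat.of R P) (ModuleCat.of R N) 1, x = 0 := by
    intro x
    obtain ⟨y, hy⟩ := Ext.contravariant_sequence_exact₁ (ExtOne.sc_shortExact j _ hj hp hex)
      (ModuleCat.of R N) x (show 1 + 1 = 2 from rfl) (h2.elim _ _)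
    rw [← hy, h1.elim y 0, Ext.comp_zero]
  exact ⟨fun x y => by rw [h0 x, h0 y]⟩

theorem not_subsingleton_of_not_extend {N : Type u} [AddCommGroup N] [Module R N] (m : Ideal R)
    (φ : m →ₗ[R] N) (hφ : ∀ ψ : R →ₗ[R] N, ψ.comp m.subtype ≠ φ) :
    ¬ Subsingleton (Ext.{u} (ModuleCat.of R (R ⧸ m)) (ModuleCat.of R N) 1) := by
  intro h
  have hex : Function.Exact m.subtype m.mkQ := by
    rw [LinearMap.exact_iff, Submodule.ker_mkQ, Submodule.range_subtype]
  obtain ⟨ψ, hψ⟩ := ExtOne.exists_extension m.subtype m.mkQ Subtype.val_injective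
    (Submodule.mkQ_surjective m) hex h φ
  exact hφ ψ hψ

theorem exists_not_extend {N V : Type u} [AddCommGroup N] [Module R N] [AddCommGroup V]
    [Module R V] (m : Ideal R) (M : Submodule R V) (x : V)
    (hm : ∀ a : R, a • x ∈ M ↔ a ∈ m)
    (hE : Subsingleton (Ext.{u} (ModuleCat.of R ↥(M ⊔ Submodule.span R {x})) (ModuleCat.of R N) 1))
    (hκ : ¬ Subsingleton (Ext.{u} (ModuleCat.of R (R ⧸ m)) (ModuleCat.of R N) 1)) :
    ∃ φ : M →ₗ[R] N, ∀ ψ : ↥(M ⊔ Submodule.span R {x}) →ₗ[R] N,
      ψ.comp (Submodule.inclusion le_sup_left) ≠ φ := by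
  by_contra hcon
  push Not at hcon
  apply hκ
  set i : M →ₗ[R] ↥(M ⊔ Submodule.span R {x}) := Submodule.inclusion le_sup_left with hi
  have hx : x ∈ M ⊔ Submodule.span R {x} :=
    Submodule.mem_sup_right (Submodule.mem_span_singleton_self x)
  let q : R →ₗ[R] (↥(M ⊔ Submodule.span R {x}) ⧸ LinearMap.range i) :=
    (LinearMap.range i).mkQ.comp (LinearMap.toSpanSingleton R _ ⟨x, hx⟩)
  have hi2 : ∀ y : ↥(M ⊔ Submodule.span R {x}), y ∈ LinearMap.range i ↔ (y : V) ∈ M := by
    intro y
    constructor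
    · rintro ⟨z, rfl⟩
      exact z.2
    · intro hy
      exact ⟨⟨y, hy⟩, rfl⟩
  have hker : LinearMap.ker q = m := by
    ext a
    rw [LinearMap.mem_ker, ← hm, LinearMap.comp_apply, Submodule.mkQ_apply,
      Submodule.Quotient.mk_eq_zero, hi2]
    rfl
  have hsurj : Function.Surjective q := by
    intro z
    obtain ⟨⟨y, hy⟩, rfl⟩ := Submodule.mkQ_surjective _ z
    obtain ⟨u, hu, v, hv, huv⟩ := Submodule.mem_sup.1 hy
    obtain ⟨a, rfl⟩ := Submodule.mem_span_singleton.1 hv
    refine ⟨a, ?_⟩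
    rw [LinearMap.comp_apply, ← sub_eq_zero, ← map_sub, Submodule.mkQ_apply,
      Submodule.Quotient.mk_eq_zero, hi2]
    change a • x - y ∈ M
    rw [← huv, show a • x - (u + a • x) = -u by abel]
    exact M.neg_mem hu
  have e : (R ⧸ m) ≃ₗ[R] (↥(M ⊔ Submodule.span R {x}) ⧸ LinearMap.range i) :=
    (Submodule.quotEquivOfEq _ _ hker.symm).trans (q.quotKerEquivOfSurjective hsurj)
  have hex : Function.Exact i (LinearMap.range i).mkQ := by
    rw [LinearMap.exact_iff, Submodule.ker_mkQ]
  have h1 := ExtOne.subsingleton_ext_of_extension i (LinearMap.range i).mkQ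
    (Submodule.inclusion_injective _) (Submodule.mkQ_surjective _) hex hE hcon
  exact (ExtOne.extCongrLeft (N := N) e 1).toEquiv.subsingleton

end K840.InjDim1
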