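import Groth.Agent.TFCurv.K840.NormBir
import Groth.Agent.Variety.K424.DeltaGeo
import Groth.Agent.PerfB.ApproxStage
import Groth.Agent.ShStab.K848.TF
import Mathlib.RingTheory.DiscreteValuationRing.TFAE

/-!
# Modules on the normalization and modules locally isomorphic to powers of the normalized local rings
-/

set_option autoImplicit false
universe u

open CategoryTheory CategoryTheory.Limits AlgebraicGeometry TopologicalSpace Opposite

namespace K840.NormMod

open Groth.Agent.Fdesc.PullbackStalk Groth.Agent.CycB.StalkExact K840.BirPush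

section Uniq

variable {Y : Scheme.{u}} [IsIntegral Y]

theorem exists_factor {M Q Q' : Y.Modules} (p : M ⟶ Q) (p' : M ⟶ Q') [Epi p]
    (hp : Function.Injective (stalkLin p (genericPoint Y))) (hQ' : Coh.IsQCoh Q')
    (ht' : TorSh.IsTorsionFree Q') : ∃ a : Q ⟶ Q', p ≫ a = p' := by
  have h0 : kernel.ι p ≫ p' = 0 := by
    refine K848.TF.eq_zero_of_generic hQ' ht' _ ?_
    rw [stalkLin_comp]
    have h1 : stalkLin (kernel.ι p) (genericPoint Y) = 0 := by
      ext t
      apply hp
      have h2 := stalkLin_comp (kernel.ι p) p (genericPoint Y)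
      rw [kernel.condition] at h2
      have h3 := LinearMap.congr_fun h2 t
      refine h3.symm.trans ?_
      obtain ⟨U, hU, s, rfl⟩ := (kernel p).presheaf.exists_germ_eq t
      rw [stalkLin_germ, LinearMap.zero_apply, map_zero]
      exact map_zero _
    rw [h1, LinearMap.comp_zero]
  refine ⟨(asIso (Abelian.factorThruCoimage p)).inv ≫ cokernel.desc _ p' h0, ?_⟩
  have h2 : p ≫ (asIso (Abelian.factorThruCoimage p)).inv = Abelian.coimage.π p := by
    rw [Iso.comp_inv_eq]
    exact (Abelian.coimage.fac p).symm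
  rw [← Category.assoc, h2]
  exact cokernel.π_desc _ _ _

/-- Uniqueness of torsion free quotients with generically trivial kernel. -/
theorem nonempty_iso {M Q Q' : Y.Modules} (p : M ⟶ Q) (p' : M ⟶ Q') [Epi p] [Epi p']
    (hp : Function.Injective (stalkLin p (genericPoint Y)))
    (hp' : Function.Injective (stalkLin p' (genericPoint Y)))
    (hQ : Coh.IsQCoh Q) (ht : TorSh.IsTorsionFree Q) (hQ' : Coh.IsQCoh Q')
    (ht' : TorSh.IsTorsionFree Q') : Nonempty (Q ≅ Q') := by
  obtain ⟨a, ha⟩ := exists_factor p p' hp hQ' ht'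
  obtain ⟨b, hb⟩ := exists_factor p' p hp' hQ ht
  refine ⟨⟨a, b, ?_, ?_⟩⟩
  · rw [← cancel_epi p, ← Category.assoc, ha, hb, Category.comp_id]
  · rw [← cancel_epi p', ← Category.assoc, hb, ha, Category.comp_id]

end Uniq

section Birational

variable {X Y : Scheme.{u}} [IsIntegral X] [IsIntegral Y] {f : Y ⟶ X} (h : Bir f) [IsIntegralHom f]

include h

theorem counit_injective (E : Y.Modules) : Function.Injective
    (stalkLin ((Scheme.Modules.pullbackPushforwardAdjunction f).counit.app E) (genericPoint Y)) :=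
  (counit_bijective h.nbhd h.stalk E).1

/-- Torsion free modules with isomorphic direct images are isomorphic. -/
theorem iso_of_push {E E' : Y.Modules} (hE : Coh.IsQCoh E) (ht : TorSh.IsTorsionFree E)
    (hE' : Coh.IsQCoh E') (ht' : TorSh.IsTorsionFree E')
    (φ : (Scheme.Modules.pushforward f).obj E ≅ (Scheme.Modules.pushforward f).obj E') :
    Nonempty (E ≅ E') := by
  let adj := Scheme.Modules.pullbackPushforwardAdjunction f
  have h1 : Epi (adj.counit.app E) := epi_counit f hE
  have h2 : Epi (adj.counit.app E') := epi_counit f hE'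
  have h3 : Epi ((Scheme.Modules.pullback f).map φ.hom ≫ adj.counit.app E') := epi_comp _ _
  refine nonempty_iso (adj.counit.app E) ((Scheme.Modules.pullback f).map φ.hom ≫ adj.counit.app E')
    (counit_injective h E) ?_ hE ht hE' ht'
  rw [stalkLin_comp]
  refine (counit_injective h E').comp ?_
  exact stalkLin_injective _ _

end Birational

section Main

variable (X : Scheme.{u}) [IsIntegral X]
    [QuasiCompact (X.fromSpecStalk (genericPoint X))] [QuasiSeparated (X.fromSpecStalk (genericPoint X))]

/-- Sections of the normalization over an affine open map to the normalized local rings. -/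
theorem exists_sigma (x : X) (V : X.Opens) (hV : IsAffineOpen V) (hx : x ∈ V) :
    ∃ σ : Γ(Curv2.normalization X, Curv2.normalizationι X ⁻¹ᵁ V) →+*
        integralClosure (X.presheaf.stalk x) X.functionField,
      (∀ r, σ (((Curv2.normalizationι X).app V).hom r) =
        algebraMap _ _ (X.presheaf.germ V x hx r)) ∧
      ∀ b, ∃ c a : Γ(X, V), X.presheaf.germ V x hx c ≠ 0 ∧
        ((Curv2.normalizationι X).app V).hom c * b = ((Curv2.normalizationι X).app V).hom a := by
  have hne : Nonempty V := ⟨⟨x, hx⟩⟩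
  have hη : genericPoint X ∈ V := (genericPoint_specializes x).mem_open V.isOpen hx
  have hfr : IsFractionRing Γ(X, V) X.functionField :=
    functionField_isFractionRing_of_isAffineOpen X V hV
  let alg : Algebra Γ(X, V) (X.presheaf.stalk x) :=
    TopCat.Presheaf.algebra_section_stalk X.presheaf ⟨x, hx⟩
  have htow : IsScalarTower Γ(X, V) (X.presheaf.stalk x) X.functionField :=
    functionField_isScalarTower X V ⟨x, hx⟩
  obtain ⟨ψ, hψ1, hψ2, hψ3⟩ := K424.DeltaGeo.exists_psi X V hV hη X.functionField
  refine ⟨ψ.codRestrict _ (fun c => ((hψ3 (ψ c)).mpr ⟨c, rfl⟩).tower_top), fun r => ?_,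
    fun b => ?_⟩
  · apply Subtype.ext
    change ψ (((Curv2.normalizationι X).app V).hom r) =
      algebraMap (X.presheaf.stalk x) X.functionField (algebraMap Γ(X, V) (X.presheaf.stalk x) r)
    rw [hψ1, ← IsScalarTower.algebraMap_apply]
  · obtain ⟨⟨a, c⟩, hac⟩ := IsLocalization.surj (nonZeroDivisors Γ(X, V)) (ψ b)
    refine ⟨c, a, ?_, hψ2 ?_⟩
    · intro h0
      have h1 : (c : Γ(X, V)) = 0 :=
        (map_eq_zero_iff _ (germ_injective_of_isIntegral X x hx)).1 h0
      exact nonZeroDivisors.coe_ne_zero c h1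
    · rw [map_mul, hψ1, hψ1, mul_comm]
      exact hac

/-- If the stalk of `F` at `x` is a power of the normalized local ring, then `F → ν_* Q` is
surjective at `x` for every quotient `Q` of `ν^* F` with `ν_* Q` torsion free. -/
theorem surjective_stalk {F : X.Modules} (hF : Coh.IsQCoh F) (n : ℕ) (x : X)
    (e : F.presheaf.stalk x ≃ₗ[X.presheaf.stalk x]
      (Fin n → integralClosure (X.presheaf.stalk x) X.functionField))
    {Q : (Curv2.normalization X).Modules} (hQ : Coh.IsQCoh Q)
    (p : (Scheme.Modules.pullback (Curv2.normalizationι X)).obj F ⟶ Q) [Epi p]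
    (ht : TorSh.IsTorsionFree ((Scheme.Modules.pushforward (Curv2.normalizationι X)).obj Q)) :
    Function.Surjective (stalkLin ((Scheme.Modules.pullbackPushforwardAdjunction
      (Curv2.normalizationι X)).homEquiv F Q p) x) := by
  let ν := Curv2.normalizationι X
  let G := (Scheme.Modules.pushforward ν).obj Q
  let adj := Scheme.Modules.pullbackPushforwardAdjunction ν
  let m : F ⟶ G := adj.homEquiv F Q p
  change Function.Surjective (stalkLin m x)
  have hP : Coh.IsQCoh ((Scheme.Modules.pullback ν).obj F) :=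
    Groth.Agent.FormalA.PullbackQC.isQCoh_pullback ν F hF
  intro b
  obtain ⟨W, hW, s, rfl⟩ := G.presheaf.exists_germ_eq b
  obtain ⟨V, hV, hx, hVW⟩ := exists_isAffineOpen_mem_and_subset (X := X) (U := W) (x := x) hW
  obtain ⟨σ, hσ1, hσ2⟩ := exists_sigma X x V hV hx
  have hV' : IsAffineOpen (ν ⁻¹ᵁ V) := hV.preimage ν
  let γ : Γ((Scheme.Modules.pullback ν).obj F, ν ⁻¹ᵁ V) →+ G.presheaf.stalk x :=
    (G.presheaf.germ V x hx).hom.comp (p.app (ν ⁻¹ᵁ V)).hom
  have key : ∀ s' : Γ((Scheme.Modules.pullback ν).obj F, ν ⁻¹ᵁ V), ∃ u : F.presheaf.stalk x,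
      stalkLin m x u = γ s' := by
    intro s'
    have hs : s' ∈ Submodule.span Γ(Curv2.normalization X, ν ⁻¹ᵁ V)
        (Set.range (Groth.Agent.VarietyB.PullSec.sec ν F (le_refl (ν ⁻¹ᵁ V)))) := by
      rw [Groth.Agent.PerfB.ApproxStage.span_sec ν hF (le_refl _) hV hV']
      trivial
    induction hs using Submodule.span_induction with
    | mem s' hs' =>
      obtain ⟨t, rfl⟩ := hs'
      refine ⟨F.presheaf.germ V x hx t, ?_⟩
      rw [stalkLin_germ]
      refine congrArg (G.presheaf.germ V x hx) ?_
      have h1 : Groth.Agent.VarietyB.PullSec.sec ν F (le_refl (ν ⁻¹ᵁ V)) t =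
          (adj.unit.app F).app V t := by
        rw [Groth.Agent.VarietyB.PullSec.sec_apply]
        exact ConcreteCategory.congr_hom
          (((Scheme.Modules.pullback ν).obj F).presheaf.map_id (op (ν ⁻¹ᵁ V))) _
      rw [h1]
      have h2 : m = adj.unit.app F ≫ (Scheme.Modules.pushforward ν).map p :=
        adj.homEquiv_unit _ _ _
      rw [h2]
      rfl
    | zero => exact ⟨0, by rw [map_zero, map_zero]⟩
    | add a b _ _ ha hb =>
      obtain ⟨u, hu⟩ := ha
      obtain ⟨v, hv⟩ := hb
      exact ⟨u + v, by rw [map_add, map_add, hu, hv]⟩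
    | smul r a _ ha =>
      obtain ⟨u, hu⟩ := ha
      obtain ⟨c, d, hc, hcd⟩ := hσ2 r
      refine ⟨e.symm (σ r • e u), ?_⟩
      have := ht x
      let z : Γ(Q, ν ⁻¹ᵁ V) := p.app (ν ⁻¹ᵁ V) a
      have h1 : p.app (ν ⁻¹ᵁ V) (r • a) = r • z := Scheme.Modules.Hom.app_smul _ _ _
      have h1' : γ (r • a) = G.presheaf.germ V x hx (r • z : Γ(Q, ν ⁻¹ᵁ V)) :=
        congrArg (G.presheaf.germ V x hx) h1
      rw [h1']
      have h2 : X.presheaf.germ V x hx c • G.presheaf.germ V x hx (r • z : Γ(Q, ν ⁻¹ᵁ V)) =
          X.presheaf.germ V x hx d • G.presheaf.germ V x hx z := by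
        refine (Groth.Agent.CycB.StalkExact.germ_smul (M := G) x hx c _).symm.trans
          (Eq.trans ?_ (Groth.Agent.CycB.StalkExact.germ_smul (M := G) x hx d _))
        refine congrArg (G.presheaf.germ V x hx) ?_
        change (ν.app V).hom c • (r • z) = (ν.app V).hom d • z
        rw [← mul_smul, hcd]
      have h3 : X.presheaf.germ V x hx c • e.symm (σ r • e u) =
          X.presheaf.germ V x hx d • u := by
        apply e.injective
        refine (e.map_smul _ _).trans (Eq.trans ?_ (e.map_smul _ _).symm)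
        rw [e.apply_symm_apply, algebra_compatible_smul
          (integralClosure (X.presheaf.stalk x) X.functionField) (X.presheaf.germ V x hx c),
          algebra_compatible_smul
          (integralClosure (X.presheaf.stalk x) X.functionField) (X.presheaf.germ V x hx d),
          ← hσ1, ← hσ1, ← mul_smul, ← map_mul, hcd]
      refine smul_right_injective _ hc ?_
      change X.presheaf.germ V x hx c • stalkLin m x (e.symm (σ r • e u)) =
        X.presheaf.germ V x hx c • G.presheaf.germ V x hx (r • z : Γ(Q, ν ⁻¹ᵁ V))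
      rw [h2, ← map_smul, h3, map_smul, hu]
      rfl
  have hQ' : Coh.IsQCoh Q := hQ
  obtain ⟨s', hs'⟩ := Groth.Agent.PerfA.QCohEpi.app_surjective_of_epi p hV'
    (G.presheaf.map (homOfLE hVW).op s)
  obtain ⟨u, hu⟩ := key s'
  refine ⟨u, ?_⟩
  rw [hu]
  refine (congrArg (G.presheaf.germ V x hx) hs').trans ?_
  exact TopCat.Presheaf.germ_res_apply G.presheaf (homOfLE hVW) x hx s

end Main

end K840.NormMod
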